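import Mathlib

set_option autoImplicit false

namespace Cfsg.Agent.Lib.helper76

open scoped Pointwise

/-- Membership in a conjugate Sylow subgroup. -/
theorem mem_smul_sylow {G : Type*} [Group G] {p : ℕ} (g x : G) (P : Sylow p G) :
    x ∈ g • P ↔ g⁻¹ * x * g ∈ P := by
  have h1 : x ∈ g • P ↔ x ∈ (MulAut.conj g • (P : Subgroup G)) := Iff.rfl
  rw [h1, Subgroup.mem_pointwise_smul_iff_inv_smul_mem]
  simp only [MulAut.smul_def, MulAut.inv_apply, MulAut.conj_symm_apply]
  exact Iff.rfl

/-- An element of `p`-power order lies in some Sylow `p`-subgroup. -/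
theorem exists_sylow_of_orderOf {G : Type*} [Group G] (p : ℕ) [Fact p.Prime] (x : G)
    (hx : ∃ k : ℕ, orderOf x = p ^ k) : ∃ R : Sylow p G, x ∈ R := by
  have hpg : IsPGroup p (Subgroup.zpowers x) := by
    obtain ⟨k, hk⟩ := hx
    apply IsPGroup.of_card (n := k)
    rw [Nat.card_zpowers, hk]
  obtain ⟨R, hR⟩ := hpg.exists_le_sylow
  exact ⟨R, hR (Subgroup.mem_zpowers x)⟩

/-- Elements of a Sylow `p`-subgroup have `p`-power order. -/
theorem orderOf_of_mem_sylow {G : Type*} [Group G] (p : ℕ) [Fact p.Prime] (P : Sylow p G) (x : G)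
    (hx : x ∈ P) : ∃ k : ℕ, orderOf x = p ^ k := by
  obtain ⟨k, hk⟩ := (IsPGroup.iff_orderOf.mp P.isPGroup') ⟨x, hx⟩
  exact ⟨k, by rw [← hk]; exact Subgroup.orderOf_coe (⟨x, hx⟩ : (P : Subgroup G))⟩

/-- If `N` is normal then `|N : C ∩ N|` divides `|G : C|`. -/
theorem relIndex_dvd_index_of_normal_right {G : Type*} [Group G] [Finite G] (C N : Subgroup G)
    [N.Normal] : C.relIndex N ∣ C.index := by
  have h1 : N.relIndex C * C.index = (C ⊓ N).index := by
    rw [← Subgroup.inf_relIndex_left C N]
    exact Subgroup.relIndex_mul_index inf_le_left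
  have h2 : C.relIndex N * N.index = (C ⊓ N).index := by
    rw [← Subgroup.inf_relIndex_right C N]
    exact Subgroup.relIndex_mul_index inf_le_right
  have h3 : N.relIndex C * (C ⊔ N).index = N.index := by
    rw [← Subgroup.relIndex_sup_right C N]
    exact Subgroup.relIndex_mul_index le_sup_right
  have h4 : N.relIndex C ≠ 0 := by
    have : (N.subgroupOf C).index ≠ 0 := Subgroup.index_ne_zero_of_finite
    exact this
  refine ⟨(C ⊔ N).index, ?_⟩
  have h5 : N.relIndex C * C.index = N.relIndex C * (C.relIndex N * (C ⊔ N).index) := by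
    rw [h1, ← h2, ← h3]; ring
  exact Nat.eq_of_mul_eq_mul_left (Nat.pos_of_ne_zero h4) h5

/-- If the index of `H` is prime to `p`, then `H` contains a Sylow `p`-subgroup of `G`. -/
theorem exists_sylow_le_of_not_dvd_index {G : Type*} [Group G] [Finite G] (p : ℕ) [Fact p.Prime]
    (H : Subgroup G) (hH : ¬ p ∣ H.index) : ∃ P : Sylow p G, (P : Subgroup G) ≤ H := by
  obtain ⟨Q⟩ := (inferInstance : Nonempty (Sylow p H))
  have hpg : IsPGroup p ((Q : Subgroup H).map H.subtype) := Q.isPGroup'.map H.subtype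
  have hidx : ¬ p ∣ ((Q : Subgroup H).map H.subtype).index := by
    rw [Subgroup.index_map_subtype]
    exact Nat.Prime.not_dvd_mul Fact.out Q.not_dvd_index hH
  refine ⟨hpg.toSylow hidx, ?_⟩
  rw [IsPGroup.toSylow_coe]
  exact Subgroup.map_subtype_le _

/-- A `p`-element normalizing (e.g. centralizing) a Sylow `p`-subgroup lies in it. -/
theorem mem_sylow_of_normalizes {G : Type*} [Group G] (p : ℕ) [Fact p.Prime] (P : Sylow p G)
    (x : G) (hx : ∃ k : ℕ, orderOf x = p ^ k)
    (hn : ∀ y ∈ P, x * y * x⁻¹ ∈ P) : x ∈ P := by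
  have hpg : IsPGroup p (Subgroup.zpowers x) := by
    obtain ⟨k, hk⟩ := hx
    apply IsPGroup.of_card (n := k)
    rw [Nat.card_zpowers, hk]
  have hle : Subgroup.zpowers x ≤ Subgroup.normalizer (P : Set G) := by
    rw [Subgroup.zpowers_le]
    change x ∈ Subgroup.normalizer ((P : Subgroup G) : Set G)
    have : Subgroup.zpowers x ≤ Subgroup.normalizer ((P : Subgroup G) : Set G) := by
      rw [Subgroup.le_normalizer_iff]
      intro h hh k hk
      rw [Subgroup.mem_zpowers_iff] at hh
      obtain ⟨n, rfl⟩ := hh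
      have key : ∀ m : ℕ, ∀ k ∈ (P : Subgroup G), x ^ m * k * (x ^ m)⁻¹ ∈ (P : Subgroup G) := by
        intro m
        induction m with
        | zero => intro k hk; simpa using hk
        | succ m ih =>
          intro k hk
          have := hn _ (ih k hk)
          have e : x ^ (m + 1) * k * (x ^ (m + 1))⁻¹ = x * (x ^ m * k * (x ^ m)⁻¹) * x⁻¹ := by
            rw [pow_succ']; group
          rw [e]; exact this
      have key' : ∀ m : ℕ, ∀ k ∈ (P : Subgroup G), (x ^ m)⁻¹ * k * (x ^ m) ∈ (P : Subgroup G) := by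
        intro m k hk
        -- conjugation by x^m is an injective self-map of the finite set P... use order
        obtain ⟨j, hj⟩ := hx
        have hord : x ^ (p ^ j) = 1 := by rw [← hj]; exact pow_orderOf_eq_one x
        -- (x^m)⁻¹ = x^(m * (p^j - 1))
        have hinv : (x ^ m)⁻¹ = x ^ (m * (p ^ j - 1)) := by
          rw [inv_eq_iff_mul_eq_one, ← pow_add]
          have hp1 : 1 ≤ p ^ j := Nat.one_le_pow _ _ (Fact.out : p.Prime).pos
          have : m + m * (p ^ j - 1) = p ^ j * m := by
            zify [hp1]; ring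
          rw [this, pow_mul, hord, one_pow]
        have := key (m * (p ^ j - 1)) k hk
        rw [← hinv, inv_inv] at this
        exact this
      rcases Int.eq_nat_or_neg n with ⟨m, rfl | rfl⟩
      · simpa using key m k hk
      · simpa using key' m k hk
    exact this (Subgroup.mem_zpowers x)
  have := hpg.inf_normalizer_sylow P
  rw [inf_eq_left.mpr hle] at this
  exact (inf_eq_left.mp this.symm) (Subgroup.mem_zpowers x)

end Cfsg.Agent.Lib.helper76
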