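import Mathlib
import Cfsg.Agent.Lib.helper76.SylowBasic

set_option autoImplicit false

namespace Cfsg.Agent.Lib.helper76

open scoped Pointwise

/-- If `N` is normal then `|G : C| = |N : C ∩ N| * |G : CN|`. -/
theorem index_eq_relIndex_mul_index_sup {G : Type*} [Group G] [Finite G] (C N : Subgroup G)
    [N.Normal] : C.index = C.relIndex N * (C ⊔ N).index := by
  have h1 : N.relIndex C * C.index = (C ⊓ N).index := by
    rw [← Subgroup.inf_relIndex_left C N]
    exact Subgroup.relIndex_mul_index inf_le_left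
  have h2 : C.relIndex N * N.index = (C ⊓ N).index := by
    rw [← Subgroup.inf_relIndex_right C N]
    exact Subgroup.relIndex_mul_index inf_le_right
  have h3 : N.relIndex C * (C ⊔ N).index = N.index := by
    rw [← Subgroup.relIndex_sup_right C N]
    exact Subgroup.relIndex_mul_index le_sup_right
  have h4 : N.relIndex C ≠ 0 := by
    have : (N.subgroupOf C).index ≠ 0 := Subgroup.index_ne_zero_of_finite
    exact this
  have h5 : N.relIndex C * C.index = N.relIndex C * (C.relIndex N * (C ⊔ N).index) := by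
    rw [h1, ← h2, ← h3]; ring
  exact Nat.eq_of_mul_eq_mul_left (Nat.pos_of_ne_zero h4) h5

/-- If `A ≤ C` and `A` normalizes `B`, then `|AB : C ∩ AB| = |B : C ∩ B|`. -/
theorem relIndex_sup_eq_of_le {G : Type*} [Group G] [Finite G] (A B C : Subgroup G) (hAC : A ≤ C)
    (hAB : A ≤ Subgroup.normalizer (B : Set G)) : C.relIndex (A ⊔ B) = C.relIndex B := by
  have hBL : B ≤ A ⊔ B := le_sup_right
  have hnorm : (B.subgroupOf (A ⊔ B)).Normal := by
    rw [Subgroup.normal_subgroupOf_iff_le_normalizer hBL]
    exact sup_le hAB Subgroup.le_normalizer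
  have h := index_eq_relIndex_mul_index_sup (C.subgroupOf (A ⊔ B)) (B.subgroupOf (A ⊔ B))
  have htop : C.subgroupOf (A ⊔ B) ⊔ B.subgroupOf (A ⊔ B) = ⊤ := by
    rw [eq_top_iff]
    have h1 : (A ⊔ B).subgroupOf (A ⊔ B) = A.subgroupOf (A ⊔ B) ⊔ B.subgroupOf (A ⊔ B) :=
      Subgroup.subgroupOf_sup le_sup_left le_sup_right
    rw [Subgroup.subgroupOf_self] at h1
    rw [h1]
    refine sup_le_sup_right ?_ _
    intro x hx
    rw [Subgroup.mem_subgroupOf] at hx ⊢
    exact hAC hx
  rw [htop, Subgroup.index_top, mul_one, Subgroup.relIndex_subgroupOf hBL] at h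
  exact h

/-- Frattini: for a Sylow subgroup `P` and a normal subgroup `K`, `N_G(PK) = N_G(P) K`. -/
theorem normalizer_sylow_sup_eq {G : Type*} [Group G] [Finite G] (p : ℕ) [Fact p.Prime]
    (P : Sylow p G) (K : Subgroup G) [K.Normal] :
    Subgroup.normalizer (((P : Subgroup G) ⊔ K : Subgroup G) : Set G) =
      Subgroup.normalizer (P : Set G) ⊔ K := by
  apply le_antisymm
  · intro g hg
    have hgP : ((g • P : Sylow p G) : Subgroup G) ≤ (P : Subgroup G) ⊔ K := by
      intro x hx
      have hx' : x ∈ g • P := hx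
      rw [mem_smul_sylow] at hx'
      have h1 : g⁻¹ * x * g ∈ (P : Subgroup G) ⊔ K := le_sup_left (a := (P : Subgroup G)) hx'
      have h2 := (Subgroup.mem_normalizer_iff.mp hg (g⁻¹ * x * g)).mp h1
      have e : g * (g⁻¹ * x * g) * g⁻¹ = x := by group
      rwa [e] at h2
    have hPle : (P : Subgroup G) ≤ (P : Subgroup G) ⊔ K := le_sup_left
    obtain ⟨m, hm⟩ := MulAction.exists_smul_eq ((P : Subgroup G) ⊔ K : Subgroup G)
      (P.subtype hPle) ((g • P).subtype hgP)
    rw [Sylow.smul_subtype hPle m] at hm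
    have hmP : (m : G) • P = g • P := Sylow.subtype_injective hm
    have hmem : (m : G)⁻¹ * g ∈ Subgroup.normalizer (P : Set G) := by
      rw [← Sylow.smul_eq_iff_mem_normalizer, mul_smul, ← hmP, inv_smul_smul]
    have hm' : (m : G) ∈ Subgroup.normalizer (P : Set G) ⊔ K := by
      have : (P : Subgroup G) ⊔ K ≤ Subgroup.normalizer (P : Set G) ⊔ K :=
        sup_le_sup_right Subgroup.le_normalizer K
      exact this m.2
    have e : g = (m : G) * ((m : G)⁻¹ * g) := by group
    rw [e]
    exact mul_mem hm' (Subgroup.mem_sup_left hmem)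
  · apply sup_le
    · intro g hg0
      have hg : g ∈ Subgroup.normalizer ((P : Subgroup G) : Set G) := hg0
      rw [Subgroup.mem_normalizer_iff_map_conj_eq] at hg ⊢
      rw [Subgroup.map_sup]
      have hK : K.map (MulAut.conj g : G →* G) = K := by
        have := (Subgroup.normalizer_eq_top (H := K))
        have hgK : g ∈ Subgroup.normalizer (K : Set G) := this ▸ Subgroup.mem_top g
        exact Subgroup.mem_normalizer_iff_map_conj_eq.mp hgK
      have hP' : (P : Subgroup G).map (MulAut.conj g : G →* G) = (P : Subgroup G) := hg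
      rw [hK, hP']
    · exact le_sup_right.trans Subgroup.le_normalizer

/-- The number of Sylow subgroups of a quotient. -/
theorem card_sylow_quotient_eq_index {G : Type*} [Group G] [Finite G] (p : ℕ) [Fact p.Prime]
    (P : Sylow p G) (K : Subgroup G) [K.Normal] :
    Nat.card (Sylow p (G ⧸ K)) = (Subgroup.normalizer (P : Set G) ⊔ K).index := by
  rw [Sylow.card_eq_index_normalizer (P.mapSurjective (QuotientGroup.mk'_surjective K)),
    ← Subgroup.index_comap_of_surjective _ (QuotientGroup.mk'_surjective K),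
    ← normalizer_sylow_sup_eq]
  congr 1
  have h1 : ((P.mapSurjective (QuotientGroup.mk'_surjective K) : Sylow p (G ⧸ K)) : Set (G ⧸ K)) =
      (((P : Subgroup G).map (QuotientGroup.mk' K) : Subgroup (G ⧸ K)) : Set (G ⧸ K)) := rfl
  rw [h1, Subgroup.comap_normalizer_eq_of_surjective _ (QuotientGroup.mk'_surjective K),
    Subgroup.comap_map_eq, QuotientGroup.ker_mk']

/-- M. Hall's reduction: `n_p(G) = n_p(G/K) * |K : N_K(P)|`. -/
theorem card_sylow_eq_card_quotient_mul_relIndex {G : Type*} [Group G] [Finite G] (p : ℕ)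
    [Fact p.Prime] (P : Sylow p G) (K : Subgroup G) [K.Normal] :
    Nat.card (Sylow p G) =
      Nat.card (Sylow p (G ⧸ K)) * (Subgroup.normalizer (P : Set G)).relIndex K := by
  rw [card_sylow_quotient_eq_index p P K, Sylow.card_eq_index_normalizer P,
    index_eq_relIndex_mul_index_sup (Subgroup.normalizer (P : Set G)) K, mul_comm]

/-- The second factor in M. Hall's reduction is congruent to `1` modulo `p`. -/
theorem relIndex_normalizer_sylow_modEq_one {G : Type*} [Group G] [Finite G] (p : ℕ)
    [Fact p.Prime] (P : Sylow p G) (K : Subgroup G) [K.Normal] :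
    (Subgroup.normalizer (P : Set G)).relIndex K ≡ 1 [MOD p] := by
  have h := card_sylow_eq_card_quotient_mul_relIndex p P K
  have h1 : Nat.card (Sylow p G) ≡ 1 [MOD p] := card_sylow_modEq_one p G
  have h2 : Nat.card (Sylow p (G ⧸ K)) ≡ 1 [MOD p] := card_sylow_modEq_one p (G ⧸ K)
  rw [h] at h1
  have h3 : Nat.card (Sylow p (G ⧸ K)) * (Subgroup.normalizer (P : Set G)).relIndex K ≡
      1 * (Subgroup.normalizer (P : Set G)).relIndex K [MOD p] := Nat.ModEq.mul_right _ h2
  rw [one_mul] at h3
  exact h3.symm.trans h1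

/-- The quotient by a normal `p`-subgroup has the same number of Sylow `p`-subgroups. -/
theorem card_sylow_quotient_of_isPGroup {L : Type*} [Group L] [Finite L] (p : ℕ) [Fact p.Prime]
    (D : Subgroup L) [D.Normal] (hD : IsPGroup p D) :
    Nat.card (Sylow p (L ⧸ D)) = Nat.card (Sylow p L) := by
  symm
  apply Nat.card_congr
  refine Equiv.ofBijective
    (Sylow.mapSurjective (QuotientGroup.mk'_surjective D) : Sylow p L → Sylow p (L ⧸ D)) ⟨?_, ?_⟩
  · intro P Q hPQ
    have h1 : (P : Subgroup L).map (QuotientGroup.mk' D) = (Q : Subgroup L).map (QuotientGroup.mk' D) := by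
      have := congrArg (fun R : Sylow p (L ⧸ D) => (R : Subgroup (L ⧸ D))) hPQ
      simpa using this
    have h2 : (P : Subgroup L) ⊔ D = (Q : Subgroup L) ⊔ D := by
      have := congrArg (Subgroup.comap (QuotientGroup.mk' D)) h1
      rwa [Subgroup.comap_map_eq, Subgroup.comap_map_eq, QuotientGroup.ker_mk'] at this
    rw [sup_eq_left.mpr (hD.le_sylow_of_normal P), sup_eq_left.mpr (hD.le_sylow_of_normal Q)] at h2
    exact Sylow.ext h2
  · exact Sylow.mapSurjective_surjective (QuotientGroup.mk'_surjective D) p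

/-- The number of Sylow subgroups of a subgroup `L` containing the Sylow subgroup `P` of `G`. -/
theorem card_sylow_subgroup_eq_relIndex {G : Type*} [Group G] [Finite G] (p : ℕ) [Fact p.Prime]
    (P : Sylow p G) (L : Subgroup G) (hPL : (P : Subgroup G) ≤ L) :
    Nat.card (Sylow p L) = (Subgroup.normalizer (P : Set G)).relIndex L := by
  rw [Sylow.card_eq_index_normalizer (P.subtype hPL)]
  have h1 : ((P.subtype hPL : Sylow p L) : Set L) =
      (((P : Subgroup G).subgroupOf L : Subgroup L) : Set L) := rfl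
  rw [h1, ← Subgroup.subgroupOf_normalizer_eq hPL]
  rfl

/-- The number of Sylow subgroups of a normal subgroup `K`. -/
theorem card_sylow_normal_eq_relIndex {G : Type*} [Group G] [Finite G] (p : ℕ) [Fact p.Prime]
    (P : Sylow p G) (K : Subgroup G) [K.Normal] :
    Nat.card (Sylow p K) =
      (Subgroup.normalizer (((P : Subgroup G) ⊓ K : Subgroup G) : Set G)).relIndex K := by
  have hpg : IsPGroup p ((P : Subgroup G).subgroupOf K) := P.isPGroup'.comap_subtype
  have hidx : ¬ p ∣ ((P : Subgroup G).subgroupOf K).index := by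
    intro hdvd
    exact P.not_dvd_index (hdvd.trans (relIndex_dvd_index_of_normal_right (P : Subgroup G) K))
  rw [Sylow.card_eq_index_normalizer (hpg.toSylow hidx)]
  have h1 : ((hpg.toSylow hidx : Sylow p K) : Set K) =
      ((((P : Subgroup G) ⊓ K).subgroupOf K : Subgroup K) : Set K) := by
    rw [Subgroup.inf_subgroupOf_right]
    rfl
  rw [h1, ← Subgroup.subgroupOf_normalizer_eq inf_le_right]
  rfl

end Cfsg.Agent.Lib.helper76
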