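import Mathlib
import Cfsg.Agent.Lib.helper76.SylowBasic

set_option autoImplicit false

namespace Cfsg.Agent.Lib.helper76

open scoped Pointwise

/-- Sylow subgroups of `G` lie in a normal subgroup of index prime to `p`. -/
theorem sylow_le_of_normal_of_not_dvd_index {G : Type*} [Group G] [Finite G] (p : ℕ) [Fact p.Prime]
    (H : Subgroup G) [H.Normal] (hp : ¬ p ∣ H.index) (P : Sylow p G) : (P : Subgroup G) ≤ H := by
  obtain ⟨P₀, hP₀⟩ := exists_sylow_le_of_not_dvd_index p H hp
  obtain ⟨g, rfl⟩ := MulAction.exists_smul_eq G P₀ P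
  intro x hx
  have hx' : x ∈ g • P₀ := hx
  rw [mem_smul_sylow] at hx'
  have h1 : g⁻¹ * x * g ∈ H := hP₀ hx'
  have h2 := ‹H.Normal›.conj_mem _ h1 g
  have e : g * (g⁻¹ * x * g) * g⁻¹ = x := by group
  rwa [e] at h2

/-- A normal subgroup of index prime to `p` has the same number of Sylow `p`-subgroups. -/
theorem card_sylow_of_normal_of_not_dvd_index {G : Type*} [Group G] [Finite G] (p : ℕ)
    [Fact p.Prime] (H : Subgroup G) [H.Normal] (hp : ¬ p ∣ H.index) :
    Nat.card (Sylow p H) = Nat.card (Sylow p G) := by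
  symm
  apply Nat.card_congr
  refine Equiv.ofBijective
    (fun P : Sylow p G => P.subtype (sylow_le_of_normal_of_not_dvd_index p H hp P)) ⟨?_, ?_⟩
  · intro P Q hPQ
    exact Sylow.subtype_injective hPQ
  · intro Q
    have hpg : IsPGroup p ((Q : Subgroup H).map H.subtype) := Q.isPGroup'.map H.subtype
    have hidx : ¬ p ∣ ((Q : Subgroup H).map H.subtype).index := by
      rw [Subgroup.index_map_subtype]
      exact Nat.Prime.not_dvd_mul Fact.out Q.not_dvd_index hp
    refine ⟨hpg.toSylow hidx, ?_⟩
    apply Sylow.ext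
    rw [Sylow.coe_subtype, IsPGroup.toSylow_coe]
    ext x
    rw [Subgroup.mem_subgroupOf, Subgroup.mem_map]
    constructor
    · rintro ⟨y, hy, hyx⟩
      have : y = x := Subtype.ext hyx
      rw [← this]; exact hy
    · intro hx
      exact ⟨x, hx, rfl⟩

/-- The quotient by a central subgroup has the same number of Sylow `p`-subgroups. -/
theorem card_sylow_quotient_of_le_center {K : Type*} [Group K] [Finite K] (p : ℕ) [Fact p.Prime]
    (Z : Subgroup K) [Z.Normal] (hZ : Z ≤ Subgroup.center K) :
    Nat.card (Sylow p (K ⧸ Z)) = Nat.card (Sylow p K) := by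
  symm
  apply Nat.card_congr
  refine Equiv.ofBijective
    (Sylow.mapSurjective (QuotientGroup.mk'_surjective Z) : Sylow p K → Sylow p (K ⧸ Z)) ⟨?_, ?_⟩
  · intro P Q hPQ
    have h1 : (P : Subgroup K).map (QuotientGroup.mk' Z) = (Q : Subgroup K).map (QuotientGroup.mk' Z) := by
      have := congrArg (fun R : Sylow p (K ⧸ Z) => (R : Subgroup (K ⧸ Z))) hPQ
      simpa using this
    have h2 : (P : Subgroup K) ⊔ Z = (Q : Subgroup K) ⊔ Z := by
      have := congrArg (Subgroup.comap (QuotientGroup.mk' Z)) h1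
      rwa [Subgroup.comap_map_eq, Subgroup.comap_map_eq, QuotientGroup.ker_mk'] at this
    have hQle : (Q : Subgroup K) ≤ Subgroup.normalizer (P : Set K) := by
      have h3 : (Q : Subgroup K) ≤ (P : Subgroup K) ⊔ Z := h2 ▸ le_sup_left
      refine h3.trans (sup_le Subgroup.le_normalizer ?_)
      intro z hz
      have hzc := hZ hz
      change z ∈ Subgroup.normalizer ((P : Subgroup K) : Set K)
      rw [Subgroup.mem_normalizer_iff]
      intro y
      have : z * y * z⁻¹ = y := by
        rw [Subgroup.mem_center_iff] at hzc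
        rw [← hzc y]; group
      rw [this]
    have h4 := Q.isPGroup'.inf_normalizer_sylow P
    rw [inf_eq_left.mpr hQle] at h4
    have hQP : (Q : Subgroup K) ≤ P := inf_eq_left.mp h4.symm
    exact Sylow.ext (Q.is_maximal' P.isPGroup' hQP)
  · exact Sylow.mapSurjective_surjective (QuotientGroup.mk'_surjective Z) p

end Cfsg.Agent.Lib.helper76
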