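import Mathlib
import Cfsg.Agent.Lib.helper76.Hall
import Cfsg.Agent.Lib.helper76.SylowCount

set_option autoImplicit false

namespace Cfsg.Agent.Lib.helper76

open scoped Pointwise

/-- If a Sylow `p`-subgroup `P` normalizes `Q`, then `|Q : N_Q(P)| ≡ 1 [MOD p]`. -/
theorem relIndex_normalizer_sylow_modEq_one_of_le_normalizer {G : Type*} [Group G] [Finite G]
    (p : ℕ) [Fact p.Prime] (P : Sylow p G) (Q : Subgroup G)
    (hPQ : (P : Subgroup G) ≤ Subgroup.normalizer (Q : Set G)) :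
    (Subgroup.normalizer (P : Set G)).relIndex Q ≡ 1 [MOD p] := by
  set L : Subgroup G := (P : Subgroup G) ⊔ Q with hL
  have hPL : (P : Subgroup G) ≤ L := le_sup_left
  have hQL : Q ≤ L := le_sup_right
  have : (Q.subgroupOf L).Normal := by
    rw [Subgroup.normal_subgroupOf_iff_le_normalizer hQL]
    exact sup_le hPQ Subgroup.le_normalizer
  have h := relIndex_normalizer_sylow_modEq_one p (P.subtype hPL) (Q.subgroupOf L)
  have h1 : ((P.subtype hPL : Sylow p L) : Set L) =
      (((P : Subgroup G).subgroupOf L : Subgroup L) : Set L) := rfl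
  rw [h1, ← Subgroup.subgroupOf_normalizer_eq hPL, Subgroup.relIndex_subgroupOf hQL] at h
  exact h

/-- A `p`-subgroup `A` acting on the Sylow `q`-subgroups, whose number is prime to `p`,
normalizes one of them. -/
theorem exists_sylow_normalized_of_not_dvd_card {H : Type*} [Group H] [Finite H] (p q : ℕ)
    [Fact p.Prime] [Fact q.Prime] (A : Subgroup H) (hA : IsPGroup p A)
    (hn : ¬ p ∣ Nat.card (Sylow q H)) :
    ∃ Q : Sylow q H, A ≤ Subgroup.normalizer (Q : Set H) := by
  have h := hA.card_modEq_card_fixedPoints (Sylow q H)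
  have hne : (MulAction.fixedPoints A (Sylow q H)).Nonempty := by
    by_contra hemp
    rw [Set.not_nonempty_iff_eq_empty] at hemp
    rw [hemp] at h
    have h0 : Nat.card ((∅ : Set (Sylow q H)) : Type _) = 0 := by simp
    rw [h0] at h
    exact hn ((Nat.modEq_zero_iff_dvd).mp h)
  obtain ⟨Q, hQ⟩ := hne
  exact ⟨Q, (Subgroup.sylow_mem_fixedPoints_iff A).mp hQ⟩

section Complement

variable {G : Type*} [Group G] [Finite G] (p : ℕ) [Fact p.Prime] (P : Sylow p G)
  (K : Subgroup G) [K.Normal]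

omit [Finite G] [Fact (Nat.Prime p)] in
/-- The index of a normal complement of a Sylow subgroup. -/
theorem index_eq_card_of_isCompl (hPK : (P : Subgroup G) ⊓ K = ⊥)
    (hPK' : (P : Subgroup G) ⊔ K = ⊤) : K.index = Nat.card P := by
  rw [← Subgroup.relIndex_top_right, ← hPK', Subgroup.relIndex_sup_right,
    ← Subgroup.inf_relIndex_left (P : Subgroup G) K, hPK, Subgroup.relIndex_bot_left]

/-- A normal complement of a Sylow `p`-subgroup has order prime to `p`. -/
theorem not_dvd_card_of_isCompl (hPK : (P : Subgroup G) ⊓ K = ⊥)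
    (hPK' : (P : Subgroup G) ⊔ K = ⊤) : ¬ p ∣ Nat.card K := by
  have h1 := index_eq_card_of_isCompl p P K hPK hPK'
  have h2 : Nat.card K * K.index = Nat.card G := K.card_mul_index
  have h3 : (P : Subgroup G).index * Nat.card P = Nat.card G := (P : Subgroup G).index_mul_card
  have h4 : Nat.card K = (P : Subgroup G).index := by
    rw [h1, ← h3] at h2
    exact Nat.eq_of_mul_eq_mul_right Nat.card_pos h2
  rw [h4]; exact P.not_dvd_index

/-- The index of a normal complement of a Sylow `p`-subgroup is prime to `q ≠ p`. -/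
theorem not_dvd_index_of_isCompl (hPK : (P : Subgroup G) ⊓ K = ⊥)
    (hPK' : (P : Subgroup G) ⊔ K = ⊤) (q : ℕ) [Fact q.Prime] (hq : q ≠ p) : ¬ q ∣ K.index := by
  rw [index_eq_card_of_isCompl p P K hPK hPK']
  obtain ⟨n, hn⟩ := IsPGroup.iff_card.mp P.isPGroup'
  rw [hn]
  intro h
  exact hq ((Nat.prime_dvd_prime_iff_eq Fact.out Fact.out).mp (Nat.Prime.dvd_of_dvd_pow Fact.out h))

/-- `q`-subgroups lie in the normal `p`-complement. -/
theorem le_of_isPGroup_of_isCompl (hPK : (P : Subgroup G) ⊓ K = ⊥)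
    (hPK' : (P : Subgroup G) ⊔ K = ⊤) (q : ℕ) [Fact q.Prime] (hq : q ≠ p) (Q : Subgroup G)
    (hQ : IsPGroup q Q) : Q ≤ K := by
  obtain ⟨Q', hQ'⟩ := hQ.exists_le_sylow
  exact hQ'.trans (sylow_le_of_normal_of_not_dvd_index q K
    (not_dvd_index_of_isCompl p P K hPK hPK' q hq) Q')

/-- In a group with a normal `p`-complement, the number of Sylow `q`-subgroups of any subgroup
is prime to `p`. -/
theorem not_dvd_card_sylow_subgroup_of_isCompl (hPK : (P : Subgroup G) ⊓ K = ⊥)
    (hPK' : (P : Subgroup G) ⊔ K = ⊤) (q : ℕ) [Fact q.Prime] (hq : q ≠ p) (M : Subgroup G) :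
    ¬ p ∣ Nat.card (Sylow q M) := by
  have hidx : ¬ q ∣ (K.subgroupOf M).index := fun h =>
    not_dvd_index_of_isCompl p P K hPK hPK' q hq (h.trans (Subgroup.relIndex_dvd_index_of_normal K M))
  rw [← card_sylow_of_normal_of_not_dvd_index q (K.subgroupOf M) hidx]
  intro h
  obtain ⟨Q⟩ := (inferInstance : Nonempty (Sylow q (K.subgroupOf M)))
  have h1 : Nat.card (Sylow q (K.subgroupOf M)) ∣ Nat.card (K.subgroupOf M) :=
    (Sylow.card_dvd_index Q).trans (Subgroup.index_dvd_card _)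
  have h2 : Nat.card (K.subgroupOf M) ∣ Nat.card K :=
    Subgroup.card_comap_dvd_of_injective K M.subtype M.subtype_injective
  exact not_dvd_card_of_isCompl p P K hPK hPK' (h.trans (h1.trans h2))

omit [Finite G] [Fact (Nat.Prime p)] in
/-- Elements of the normal complement normalizing `P` centralize `P`. -/
theorem commute_of_mem_normalizer_of_isCompl (hPK : (P : Subgroup G) ⊓ K = ⊥)
    (x a : G) (hx : x ∈ Subgroup.normalizer (P : Set G)) (hxK : x ∈ K) (ha : a ∈ P) :
    x * a = a * x := by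
  have h1 : x * a * x⁻¹ ∈ (P : Subgroup G) := (Subgroup.mem_normalizer_iff.mp hx a).mp ha
  have h2 : x * a * x⁻¹ * a⁻¹ ∈ (P : Subgroup G) := mul_mem h1 (inv_mem ha)
  have h3 : x * a * x⁻¹ * a⁻¹ ∈ K := by
    have : x * a * x⁻¹ * a⁻¹ = x * (a * x⁻¹ * a⁻¹) := by group
    rw [this]
    exact mul_mem hxK (‹K.Normal›.conj_mem _ (inv_mem hxK) a)
  have h4 : x * a * x⁻¹ * a⁻¹ ∈ (P : Subgroup G) ⊓ K := ⟨h2, h3⟩
  rw [hPK, Subgroup.mem_bot] at h4
  have : x * a = (x * a * x⁻¹ * a⁻¹) * (a * x) := by group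
  rw [this, h4, one_mul]

/-- Main lemma: a `P`-invariant Sylow `q`-subgroup `Q` such that `N_G(P) ∩ Q` is Sylow in
`N_G(P)`. -/
theorem exists_invariant_sylow_of_isCompl (hPK : (P : Subgroup G) ⊓ K = ⊥)
    (hPK' : (P : Subgroup G) ⊔ K = ⊤) (q : ℕ) [Fact q.Prime] (hq : q ≠ p) :
    ∃ Q : Subgroup G, IsPGroup q Q ∧ ¬ q ∣ Q.index ∧
      (P : Subgroup G) ≤ Subgroup.normalizer (Q : Set G) ∧
      ¬ q ∣ (Subgroup.normalizer (P : Set G) ⊓ Q).relIndex (Subgroup.normalizer (P : Set G)) := by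
  set NP : Subgroup G := Subgroup.normalizer (P : Set G) with hNP
  obtain ⟨Q₀s⟩ := (inferInstance : Nonempty (Sylow q NP))
  set Q₀ : Subgroup G := (Q₀s : Subgroup NP).map NP.subtype with hQ₀
  have hQ₀q : IsPGroup q Q₀ := Q₀s.isPGroup'.map NP.subtype
  have hQ₀NP : Q₀ ≤ NP := Subgroup.map_subtype_le _
  have hQ₀K : Q₀ ≤ K := le_of_isPGroup_of_isCompl p P K hPK hPK' q hq Q₀ hQ₀q
  have hcomm : ∀ x ∈ Q₀, ∀ a ∈ (P : Subgroup G), x * a = a * x := fun x hx a ha =>
    commute_of_mem_normalizer_of_isCompl p P K hPK x a (hQ₀NP hx) (hQ₀K hx) ha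
  have hPQ₀ : (P : Subgroup G) ≤ Subgroup.normalizer (Q₀ : Set G) := by
    rw [Subgroup.le_normalizer_iff]
    intro a ha x hx
    have : a * x * a⁻¹ = x := by
      rw [← hcomm x hx a ha]; group
    rw [this]; exact hx
  let S : Set (Subgroup G) :=
    {Q | IsPGroup q Q ∧ Q₀ ≤ Q ∧ (P : Subgroup G) ≤ Subgroup.normalizer (Q : Set G)}
  obtain ⟨Q, ⟨hQq, hQ₀Q, hPQ⟩, hmax⟩ := Set.exists_max_image S (fun Q => Nat.card Q)
    (Set.toFinite _) ⟨Q₀, hQ₀q, le_refl _, hPQ₀⟩
  refine ⟨Q, hQq, ?_, hPQ, ?_⟩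
  · -- `Q` is a Sylow subgroup
    set M : Subgroup G := Subgroup.normalizer (Q : Set G) with hM
    have hQM : Q ≤ M := Subgroup.le_normalizer
    have hnq : ¬ p ∣ Nat.card (Sylow q M) :=
      not_dvd_card_sylow_subgroup_of_isCompl p P K hPK hPK' q hq M
    obtain ⟨Q₂, hQ₂⟩ := exists_sylow_normalized_of_not_dvd_card p q
      ((P : Subgroup G).subgroupOf M) P.isPGroup'.comap_subtype hnq
    set Q₂' : Subgroup G := (Q₂ : Subgroup M).map M.subtype with hQ₂'
    have hnormal : (Q.subgroupOf M).Normal := by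
      rw [Subgroup.normal_subgroupOf_iff_le_normalizer hQM]
    have hpg : IsPGroup q (Q.subgroupOf M) := hQq.comap_subtype
    have hle : Q.subgroupOf M ≤ Q₂ := hpg.le_sylow_of_normal Q₂
    have hQQ₂' : Q ≤ Q₂' := by
      rw [← Subgroup.map_subgroupOf_eq_of_le hQM]
      exact Subgroup.map_mono hle
    have hPQ₂' : (P : Subgroup G) ≤ Subgroup.normalizer (Q₂' : Set G) := by
      rw [← Subgroup.map_subgroupOf_eq_of_le hPQ]
      exact (Subgroup.map_mono hQ₂).trans (Subgroup.le_normalizer_map M.subtype)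
    have hcard := hmax Q₂' ⟨Q₂.isPGroup'.map M.subtype, hQ₀Q.trans hQQ₂', hPQ₂'⟩
    have heq : Q = Q₂' := Subgroup.eq_of_le_of_card_ge hQQ₂' hcard
    have heq2 : Q.subgroupOf M = Q₂ := by
      rw [heq, hQ₂']
      exact Subgroup.comap_map_eq_self_of_injective M.subtype_injective _
    have hnd : ¬ q ∣ (Q.subgroupOf M).index := by
      rw [heq2]; exact Q₂.not_dvd_index
    obtain ⟨n, hn⟩ := IsPGroup.iff_card.mp hQq
    intro hdvd
    have hdvd' : q ^ (n + 1) ∣ Nat.card G := by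
      rw [← Q.card_mul_index, hn, pow_succ]
      exact Nat.mul_dvd_mul_left _ hdvd
    exact hnd (Sylow.prime_dvd_card_quotient_normalizer hdvd' hn)
  · -- `NP ⊓ Q` contains `Q₀`
    have hle : (Q₀s : Subgroup NP) ≤ (NP ⊓ Q).subgroupOf NP := by
      intro x hx
      rw [Subgroup.mem_subgroupOf]
      exact ⟨x.2, hQ₀Q (Subgroup.mem_map_of_mem _ hx)⟩
    intro h
    exact Q₀s.not_dvd_index (h.trans (Subgroup.index_dvd_of_le hle))

/-- In a group with a normal `p`-complement, the `q`-part of the number of Sylow `p`-subgroups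
is congruent to `1` modulo `p`, for every prime `q ≠ p`. -/
theorem pow_factorization_card_sylow_modEq_one_of_isCompl (hPK : (P : Subgroup G) ⊓ K = ⊥)
    (hPK' : (P : Subgroup G) ⊔ K = ⊤) (q : ℕ) [Fact q.Prime] (hq : q ≠ p) :
    q ^ (Nat.card (Sylow p G)).factorization q ≡ 1 [MOD p] := by
  obtain ⟨Q, hQq, hQidx, hPQ, hNPQ⟩ := exists_invariant_sylow_of_isCompl p P K hPK hPK' q hq
  rw [Sylow.card_eq_index_normalizer P]
  set NP : Subgroup G := Subgroup.normalizer (P : Set G) with hNP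
  have hmod := relIndex_normalizer_sylow_modEq_one_of_le_normalizer p P Q hPQ
  rw [← hNP] at hmod
  have hqp : q.Prime := Fact.out
  have e1 : Nat.card Q * Q.index = Nat.card G := Q.card_mul_index
  have e2 : Nat.card (NP ⊓ Q : Subgroup G) * (NP ⊓ Q).relIndex NP = Nat.card NP := by
    have := Subgroup.relIndex_mul_relIndex ⊥ (NP ⊓ Q) NP bot_le inf_le_left
    rwa [Subgroup.relIndex_bot_left, Subgroup.relIndex_bot_left] at this
  have e3 : Nat.card (NP ⊓ Q : Subgroup G) * NP.relIndex Q = Nat.card Q := by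
    have := Subgroup.relIndex_mul_relIndex ⊥ (NP ⊓ Q) Q bot_le inf_le_right
    rwa [Subgroup.relIndex_bot_left, Subgroup.relIndex_bot_left, Subgroup.inf_relIndex_right]
      at this
  have e4 : Nat.card NP * NP.index = Nat.card G := NP.card_mul_index
  have hG0 : Nat.card G ≠ 0 := Nat.card_pos.ne'
  have hQ0 : Nat.card Q ≠ 0 := Nat.card_pos.ne'
  have hNP0 : Nat.card NP ≠ 0 := Nat.card_pos.ne'
  have hI0 : Nat.card (NP ⊓ Q : Subgroup G) ≠ 0 := Nat.card_pos.ne'
  have hQi0 : Q.index ≠ 0 := fun h => by rw [h, mul_zero] at e1; exact hG0 e1.symm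
  have hNPi0 : NP.index ≠ 0 := fun h => by rw [h, mul_zero] at e4; exact hG0 e4.symm
  have hr0 : (NP ⊓ Q).relIndex NP ≠ 0 := fun h => by rw [h, mul_zero] at e2; exact hNP0 e2.symm
  have hs0 : NP.relIndex Q ≠ 0 := fun h => by rw [h, mul_zero] at e3; exact hQ0 e3.symm
  have f1 : (Nat.card G).factorization q = (Nat.card Q).factorization q := by
    rw [← e1, Nat.factorization_mul hQ0 hQi0, Finsupp.add_apply,
      Nat.factorization_eq_zero_of_not_dvd hQidx, add_zero]
  have f2 : (Nat.card NP).factorization q = (Nat.card (NP ⊓ Q : Subgroup G)).factorization q := by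
    rw [← e2, Nat.factorization_mul hI0 hr0, Finsupp.add_apply,
      Nat.factorization_eq_zero_of_not_dvd hNPQ, add_zero]
  have f3 : (Nat.card Q).factorization q =
      (Nat.card (NP ⊓ Q : Subgroup G)).factorization q + (NP.relIndex Q).factorization q := by
    rw [← e3, Nat.factorization_mul hI0 hs0, Finsupp.add_apply]
  have f4 : (Nat.card G).factorization q =
      (Nat.card NP).factorization q + NP.index.factorization q := by
    rw [← e4, Nat.factorization_mul hNP0 hNPi0, Finsupp.add_apply]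
  have f5 : NP.index.factorization q = (NP.relIndex Q).factorization q := by omega
  obtain ⟨n, hn⟩ := IsPGroup.iff_card.mp hQq
  have hdvd : NP.relIndex Q ∣ q ^ n := by
    rw [← hn]; exact Subgroup.relIndex_dvd_card _ _
  obtain ⟨c, -, hc⟩ := (Nat.dvd_prime_pow hqp).mp hdvd
  rw [f5, hc, hqp.factorization_pow, Finsupp.single_eq_same, ← hc]
  exact hmod

end Complement

end Cfsg.Agent.Lib.helper76
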