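import Mathlib
import Cfsg.Prelude.Def_OddOrderLocal
import Cfsg.Agent.S1350
import Cfsg.Agent.S1403
import Cfsg.Agent.S1404
import Cfsg.Agent.S1406
import Cfsg.Agent.S1409
import Cfsg.Agent.S1410
import Cfsg.Agent.S1414
import Cfsg.Agent.S1416
import Cfsg.Agent.S1417
import Cfsg.Agent.S1424
import Cfsg.Agent.Lib.helper55.BGSigmaJ
import Cfsg.Agent.Lib.helper25.BGSigmaConj
import Cfsg.Agent.Lib.helper1.Coprime
import Cfsg.Agent.Lib.helper26.PRank
import Cfsg.Agent.Lib.helper86.BG1424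
import Cfsg.Agent.Lib.helper27.Radical
import Cfsg.Agent.Lib.helper3.BGCross
import Cfsg.Agent.Lib.helper71.BGTwelveFourB
import Cfsg.Agent.Lib.helper71.BGTwelveThree
import Cfsg.Agent.Lib.helper13.BG11b

/-!
# Bender–Glauberman 13.4, the "H-side" of the bad case (piece K of S1428)

`bg134_hside`: in the configuration `p ∈ τ₁(M)`, `P ≤ M` of order `p`, `N_G(P) ≤ H`, `p ∈ α(H)`,
`R ≤ C_M(P)` of prime order `r ∉ σ(M)`, `r ∈ τ₁(H)`, and `W := [C_{M_σ}(P), R] ≠ 1`: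
`r ∈ τ₁(M)`, `M = M_β (M ∩ H)`, `H = H_β (M ∩ H)`, every prime divisor of `|W|` lies in `σ(H)`,
and `N_G(X) ≤ H` for every nontrivial `X ≤ W`.  The pure coprime-action lemma is an explicit
hypothesis `hLX`.
-/

set_option autoImplicit false

namespace Cfsg.Agent.Lib.helper76

open Cfsg Subgroup
open scoped commutatorElement

variable {G : Type*} [Group G]

/-- A subgroup of prime order is commutative (elementwise). -/
theorem k_comm_of_card_prime {p : ℕ} [Fact p.Prime] (P : Subgroup G) (hP : Nat.card P = p) :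
    ∀ a ∈ P, ∀ b ∈ P, a * b = b * a := by
  haveI : IsCyclic ↥P := isCyclic_of_prime_card hP
  intro a ha b hb
  have h := (IsCyclic.commGroup (α := ↥P)).mul_comm ⟨a, ha⟩ ⟨b, hb⟩
  exact congrArg Subtype.val h

/-- Elements of a subgroup of prime order `p` have `p`-th power one. -/
theorem k_pow_of_card_prime {p : ℕ} (P : Subgroup G) (hP : Nat.card P = p) :
    ∀ a ∈ P, a ^ p = 1 := by
  intro a ha
  have h : (⟨a, ha⟩ : ↥P) ^ Nat.card ↥P = 1 := pow_card_eq_one'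
  rw [hP] at h
  exact congrArg Subtype.val h

/-- A subgroup of prime order is elementary abelian. -/
theorem k_elemAb_of_card_prime {p : ℕ} [Fact p.Prime] (P : Subgroup G) (hP : Nat.card P = p) :
    Cfsg.IsElementaryAbelian p P :=
  (Cfsg.Agent.Lib.helper8.bg_elemAb_iff P).2 ⟨k_comm_of_card_prime P hP, k_pow_of_card_prime P hP⟩

/-- `[Y, R] ≤ Y` when `R` normalizes `Y`. -/
theorem k_comm_le_left {Y R : Subgroup G} (h : R ≤ normalizer (Y : Set G)) : ⁅Y, R⁆ ≤ Y := by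
  rw [Subgroup.commutator_le]
  intro y hy r hr
  have h1 : r * y⁻¹ * r⁻¹ ∈ Y := (Subgroup.mem_normalizer_iff.mp (h hr) y⁻¹).mp (Y.inv_mem hy)
  have h2 : ⁅y, r⁆ = y * (r * y⁻¹ * r⁻¹) := by rw [commutatorElement_def]; group
  rw [h2]
  exact Y.mul_mem hy h1

/-- `[C, C] ≤ C`. -/
theorem k_comm_le_of_le {Y R C : Subgroup G} (hY : Y ≤ C) (hR : R ≤ C) : ⁅Y, R⁆ ≤ C := by
  rw [Subgroup.commutator_le]
  intro y hy r hr
  rw [commutatorElement_def]
  exact C.mul_mem (C.mul_mem (C.mul_mem (hY hy) (hR hr)) (C.inv_mem (hY hy))) (C.inv_mem (hR hr))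

/-- If `M = B D` with `B` normalized by `M` and `D ≤ M`, then `M' ≤ B D'`. -/
theorem k_comm_le {M B D : Subgroup G} (hBn : M ≤ normalizer (B : Set G)) (hDM : D ≤ M)
    (hfac : ∀ m ∈ M, ∃ b ∈ B, ∃ d ∈ D, m = b * d) : ⁅M, M⁆ ≤ B ⊔ ⁅D, D⁆ := by
  rw [Subgroup.commutator_le]
  intro x hx y hy
  obtain ⟨b₁, hb₁, d₁, hd₁, rfl⟩ := hfac x hx
  obtain ⟨b₂, hb₂, d₂, hd₂, rfl⟩ := hfac y hy
  have hn : ∀ m ∈ M, ∀ b ∈ B, m * b * m⁻¹ ∈ B := fun m hm b hb =>
    (Subgroup.mem_normalizer_iff.mp (hBn hm) b).mp hb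
  have hd₁M := hDM hd₁
  have hd₂M := hDM hd₂
  have hcM : d₁ * d₂ * d₁⁻¹ ∈ M := M.mul_mem (M.mul_mem hd₁M hd₂M) (M.inv_mem hd₁M)
  have hkD : ⁅d₁, d₂⁆ ∈ ⁅D, D⁆ := Subgroup.commutator_mem_commutator hd₁ hd₂
  have hkM : ⁅d₁, d₂⁆ ∈ M := by
    rw [commutatorElement_def]
    exact M.mul_mem (M.mul_mem (M.mul_mem hd₁M hd₂M) (M.inv_mem hd₁M)) (M.inv_mem hd₂M)
  have e : ⁅b₁ * d₁, b₂ * d₂⁆ =
      (b₁ * (d₁ * b₂ * d₁⁻¹) * ((d₁ * d₂ * d₁⁻¹) * b₁⁻¹ * (d₁ * d₂ * d₁⁻¹)⁻¹) *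
        (⁅d₁, d₂⁆ * b₂⁻¹ * ⁅d₁, d₂⁆⁻¹)) * ⁅d₁, d₂⁆ := by
    simp only [commutatorElement_def]; group
  rw [e]
  refine (B ⊔ ⁅D, D⁆).mul_mem (le_sup_left (a := B) ?_) (le_sup_right (b := ⁅D, D⁆) hkD)
  exact B.mul_mem (B.mul_mem (B.mul_mem hb₁ (hn d₁ hd₁M b₂ hb₂)) (hn _ hcM _ (B.inv_mem hb₁)))
    (hn _ hkM _ (B.inv_mem hb₂))

/-- If `H ∩ C_G(X)` lies in a unique maximal subgroup (`X ≤ H` nontrivial, `H` maximal), then
`N_G(X) ≤ H`. -/
theorem k_normalizer_le [Finite G] (hG : Cfsg.IsMinSimpleOddOrder G) {H X : Subgroup G}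
    (hH : IsCoatom H) (hXH : X ≤ H) (hX1 : X ≠ ⊥)
    (hu : Cfsg.InUniqueMaximal (H ⊓ centralizer (X : Set G))) : normalizer (X : Set G) ≤ H := by
  have hXtop : X ≠ ⊤ := fun h => hH.1 (top_le_iff.mp (h ▸ hXH))
  have hN : normalizer (X : Set G) ≠ ⊤ :=
    Cfsg.Agent.Lib.helper71.BG12.normalizer_ne_top' hG hX1 hXtop
  obtain ⟨L, hL, hNL⟩ := (eq_top_or_exists_le_coatom (normalizer (X : Set G))).resolve_left hN
  have hKL : H ⊓ centralizer (X : Set G) ≤ L :=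
    inf_le_right.trans ((Subgroup.centralizer_le_normalizer (X : Set G)).trans hNL)
  have hLH : L = H :=
    Cfsg.Agent.Lib.helper71.BG12.eq_of_inUniqueMaximal hu hH inf_le_left hL hKL
  exact hLH ▸ hNL

/-- In a `p`-group `T` of rank at least 3 containing `P` of order `p`, the centralizer of `P` in `T`
contains an elementary abelian subgroup of order greater than `p`. -/
theorem k_exists_elemAb_in_cent [Finite G] {p : ℕ} [Fact p.Prime] (T P : Subgroup G)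
    (hT : IsPGroup p T) (hPT : P ≤ T) (hP : Nat.card P = p) (hr : ¬ Cfsg.PRankLE p 2 ↥T) :
    ∃ B : Subgroup G, B ≤ T ⊓ centralizer (P : Set G) ∧ Cfsg.IsElementaryAbelian p B ∧
      p ^ 1 < Nat.card B := by
  have hpp : p.Prime := Fact.out
  have hPcomm := k_comm_of_card_prime P hP
  have hPe := k_elemAb_of_card_prime P hP
  have hPcent : P ≤ centralizer (P : Set G) := by
    intro a ha
    rw [Subgroup.mem_centralizer_iff]
    intro b hb
    exact hPcomm b hb a ha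
  -- a central element of order `p`
  haveI : Nontrivial ↥T := by
    have h1 : 1 < Nat.card ↥T :=
      lt_of_lt_of_le (hP ▸ hpp.one_lt) (Nat.le_of_dvd Nat.card_pos (Subgroup.card_dvd_of_le hPT))
    exact (Finite.one_lt_card_iff_nontrivial).mp h1
  haveI : Nontrivial ↥(Subgroup.center ↥T) := hT.center_nontrivial
  have hcp : p ∣ Nat.card ↥(Subgroup.center ↥T) := by
    have hZp : IsPGroup p ↥(Subgroup.center ↥T) := hT.to_subgroup _
    obtain ⟨n, hn⟩ := IsPGroup.iff_card.mp hZp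
    have h1 : 1 < Nat.card ↥(Subgroup.center ↥T) := Finite.one_lt_card
    rw [hn] at h1 ⊢
    cases n with
    | zero => simp at h1
    | succ k => exact dvd_pow_self p (Nat.succ_ne_zero k)
  obtain ⟨z, hz⟩ := exists_prime_orderOf_dvd_card' p hcp
  set z' : G := ((z : ↥T) : G) with hz'def
  have hz'T : z' ∈ T := (z : ↥T).2
  have hz'ord : orderOf z' = p := by
    rw [hz'def, Subgroup.orderOf_coe, Subgroup.orderOf_coe]; exact hz
  have hz'p : z' ^ p = 1 := by rw [← hz'ord]; exact pow_orderOf_eq_one z'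
  have hz'c : ∀ t ∈ T, t * z' = z' * t := by
    intro t ht
    have h := Subgroup.mem_center_iff.mp z.2 ⟨t, ht⟩
    exact congrArg Subtype.val h
  by_cases hzP : z' ∈ P
  · -- `P ≤ Z(T)`, so `T ≤ C(P)`
    have hz'1 : z' ≠ 1 := by
      intro h
      rw [h, orderOf_one] at hz'ord
      exact hpp.one_lt.ne hz'ord
    have hPz : zpowers z' = P := Cfsg.Agent.Lib.helper26.p0_eq_zpowers p P hP z' hzP hz'1
    have hTc : T ≤ centralizer (P : Set G) := by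
      intro t ht
      rw [Subgroup.mem_centralizer_iff]
      intro x hx
      rw [← hPz] at hx
      obtain ⟨k, rfl⟩ := Subgroup.mem_zpowers_iff.mp hx
      exact ((Commute.zpow_left (hz'c t ht).symm k)).eq
    unfold Cfsg.PRankLE at hr
    push Not at hr
    obtain ⟨B', hB'c, hB'e, hB'card⟩ := hr
    refine ⟨B'.map T.subtype, le_inf (Subgroup.map_subtype_le B') ((Subgroup.map_subtype_le B').trans hTc),
      Cfsg.Agent.Lib.helper8.bg_elemAb_map B' ⟨hB'c, hB'e⟩, ?_⟩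
    rw [Subgroup.card_map_of_injective T.subtype_injective]
    calc p ^ 1 < p ^ 2 := Nat.pow_lt_pow_right hpp.one_lt (by norm_num)
      _ < Nat.card ↥B' := hB'card
  · obtain ⟨hBe, hBcard⟩ := Cfsg.Agent.Lib.helper71.BG12.elemAb_sup_zpowers hPe hz'p
      (fun x hx => hz'c x (hPT hx)) hzP
    refine ⟨P ⊔ zpowers z', ?_, hBe, ?_⟩
    · refine sup_le (le_inf hPT hPcent) ?_
      rw [Subgroup.zpowers_le]
      refine Subgroup.mem_inf.mpr ⟨hz'T, ?_⟩
      rw [Subgroup.mem_centralizer_iff]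
      intro x hx
      exact hz'c x (hPT hx)
    · rw [pow_one]; rw [hP] at hBcard; exact hBcard

/-- The pure coprime-action lemma ("LEMMA X"), as a hypothesis on `G`. -/
def KLemmaX (G : Type*) [Group G] : Prop :=
  ∀ (S Y R : Subgroup G) (p : ℕ), p.Prime → IsPGroup p S → (Nat.card R).Prime → Nat.card R ≠ p →
      (Nat.card Y).Coprime p → (Nat.card Y).Coprime (Nat.card R) → R ≤ Subgroup.normalizer (Y : Set G) →
      Y ≤ Subgroup.normalizer (S : Set G) → R ≤ Subgroup.normalizer (S : Set G) →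
      IsCyclic ↥(S ⊓ Subgroup.centralizer (R : Set G)) →
      (∀ x ∈ S ⊓ Subgroup.centralizer (R : Set G), x ^ p = 1 →
        x ∈ Subgroup.centralizer ((⁅Y, R⁆ : Subgroup G) : Set G)) →
      ⁅Y, R⁆ ≤ Subgroup.centralizer (S : Set G)

/-- The uniqueness hypothesis, from S1403. -/
theorem k_hU [Finite G] (hG : Cfsg.IsMinSimpleOddOrder G) : Cfsg.Agent.Lib.helper8.BGUniqHyp G :=
  fun K hK h1 h2 => Cfsg.Agent.S1403.result hG K hK h1 h2

/-- The fusion hypothesis, from S1404. -/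
theorem k_hF [Finite G] (hG : Cfsg.IsMinSimpleOddOrder G) : Cfsg.Agent.Lib.helper8.BGFusHyp G := by
  intro M hM p hp X hXp hX1 hXM g hg
  have : Fact p.Prime := ⟨hp.1⟩
  exact (Cfsg.Agent.S1404.result hG M hM p hp X hXp hX1 hXM).1 g hg

/-- The `p`-length hypothesis, from S1410. -/
theorem k_hPL [Finite G] (hG : Cfsg.IsMinSimpleOddOrder G) : Cfsg.Agent.Lib.helper8.BGPLenHyp G := by
  intro p hp H hH
  have : Fact p.Prime := ⟨hp⟩
  exact Cfsg.Agent.S1410.result hG p H hH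

/-- Step S: `W = [C_{M_σ}(P), R]` centralizes an elementary abelian `p`-subgroup of `H_α` of order
greater than `p`. -/
theorem k_step_S [Finite G] (hG : Cfsg.IsMinSimpleOddOrder G) (hLX : KLemmaX G)
    (M H : Subgroup G) (hM : IsCoatom M) (hH : IsCoatom H)
    (p : ℕ) (hp : p ∈ Cfsg.tau1 M) (P : Subgroup G) (hP : Nat.card P = p)
    (hNH : Subgroup.normalizer (P : Set G) ≤ H) (hpH : p ∈ Cfsg.alpha H)
    (R : Subgroup G) (hRM : R ≤ M) (hRP : R ≤ Subgroup.centralizer (P : Set G)) (hR : (Nat.card R).Prime)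
    (hrM : Nat.card R ∉ Cfsg.sigma M) (hrH : Nat.card R ∈ Cfsg.tau1 H) :
    ∃ B : Subgroup G, B ≤ Cfsg.alphaCore H ∧ Cfsg.IsElementaryAbelian p B ∧ p ^ 1 < Nat.card B ∧
      ⁅Cfsg.sigmaCore M ⊓ Subgroup.centralizer (P : Set G), R⁆ ≤ Subgroup.centralizer (B : Set G) := by
  classical
  have hpp : p.Prime := hp.1
  haveI : Fact p.Prime := ⟨hpp⟩
  haveI : Fact (Nat.card R).Prime := ⟨hR⟩
  have hU := k_hU hG
  have hF := k_hF hG
  have hHtop : H ≠ ⊤ := hH.1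
  have hCPH : centralizer (P : Set G) ≤ H := (Subgroup.centralizer_le_normalizer (P : Set G)).trans hNH
  have hPp : IsPGroup p P := IsPGroup.of_card (n := 1) (by rw [hP, pow_one])
  have hPcomm := k_comm_of_card_prime P hP
  have hPcent : P ≤ centralizer (P : Set G) := by
    intro a ha
    rw [Subgroup.mem_centralizer_iff]
    intro b hb
    exact hPcomm b hb a ha
  have hPH : P ≤ H := hPcent.trans hCPH
  have hRH : R ≤ H := hRP.trans hCPH
  have hYH : Cfsg.sigmaCore M ⊓ centralizer (P : Set G) ≤ H := inf_le_right.trans hCPH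
  have hpσM : p ∉ Cfsg.sigma M := hp.2.1
  have hpσH : p ∈ Cfsg.sigma H := Cfsg.Agent.Lib.helper8.bg_alpha_sub_sigma hG hU H hH hpH
  have hnc : ∀ g : G, H ≠ M.map (MulAut.conj g).toMonoidHom := by
    intro g hg
    apply hpσM
    rw [← Cfsg.Agent.Lib.helper3.sigma_map_conj M g, ← hg]
    exact hpσH
  have hrσH : Nat.card R ∉ Cfsg.sigma H := hrH.2.1
  have hrαH : Nat.card R ∉ Cfsg.alpha H := fun h =>
    hrσH (Cfsg.Agent.Lib.helper8.bg_alpha_sub_sigma hG hU H hH h)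
  have hrp : Nat.card R ≠ p := fun h => hrσH (h ▸ hpσH)
  have hYσ : ∀ s : ℕ, s.Prime →
      s ∣ Nat.card ↥(Cfsg.sigmaCore M ⊓ centralizer (P : Set G)) → s ∈ Cfsg.sigma M := by
    intro s hs hsd
    exact Cfsg.Agent.Lib.helper71.BG12.mem_sigma_of_dvd_card_sigmaCore M hs
      (hsd.trans (Subgroup.card_dvd_of_le inf_le_left))
  have hYα : ∀ s : ℕ, s.Prime →
      s ∣ Nat.card ↥(Cfsg.sigmaCore M ⊓ centralizer (P : Set G)) → s ∉ Cfsg.alpha H := by
    intro s hs hsd hα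
    exact Cfsg.Agent.Lib.helper55.BGJ.not_mem_alpha_of_sigma hU hM hH hnc (hYσ s hs hsd) hα
  have hRY : R ≤ normalizer ((Cfsg.sigmaCore M ⊓ centralizer (P : Set G) : Subgroup G) : Set G) :=
    Cfsg.Agent.Lib.helper13.le_normalizer_inf
      (hRM.trans (Cfsg.Agent.Lib.helper71.BGA.le_normalizer_sigmaCore M))
      (hRP.trans Subgroup.le_normalizer)
  set Y := Cfsg.sigmaCore M ⊓ centralizer (P : Set G) with hYdef
  set A := Y ⊔ R with hAdef
  have hAH : A ≤ H := sup_le hYH hRH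
  have hAcP : A ≤ centralizer (P : Set G) := sup_le inf_le_right hRP
  have hAcard : Nat.card ↥A ∣ Nat.card ↥Y * Nat.card ↥R := by
    have h := Cfsg.Agent.Lib.helper27.card_sup_dvd_mul_of_le_normalizer R Y hRY
    rw [sup_comm, mul_comm] at h
    exact h
  have hcop : (Nat.card ↥A).Coprime (Nat.card ↥(Cfsg.alphaCore H)) := by
    refine Nat.Coprime.coprime_dvd_left hAcard (Nat.Coprime.mul_left ?_ ?_)
    · refine Nat.coprime_of_dvd ?_
      intro s hs hsY hsα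
      exact hYα s hs hsY (Cfsg.Agent.Lib.helper71.BG12.mem_alpha_of_dvd_card_alphaCore H hs hsα)
    · refine (Nat.Prime.coprime_iff_not_dvd hR).2 ?_
      intro h
      exact hrαH (Cfsg.Agent.Lib.helper71.BG12.mem_alpha_of_dvd_card_alphaCore H hR h)
  have hAα : A ≤ normalizer (Cfsg.alphaCore H : Set G) :=
    hAH.trans (Cfsg.Agent.Lib.helper71.BGA.le_normalizer_alphaCore H)
  have hAsolv : Group.IsSolvable ↥A := hG.2.2.2 A (fun h => hHtop (top_le_iff.mp (h ▸ hAH)))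
  have hαidx : ¬ p ∣ (Cfsg.piCore (Cfsg.alpha H) ↥H).index :=
    (Cfsg.Agent.Lib.helper8.bg_alpha_core_main hG hU hF H hH).1 p hpH
  have hPα : P ≤ Cfsg.alphaCore H :=
    Cfsg.Agent.Lib.helper71.BGA.le_map_of_isPGroup (Cfsg.piCore (Cfsg.alpha H) ↥H) hαidx hPH hPp
  have hAP : A ≤ normalizer (P : Set G) := hAcP.trans (Subgroup.centralizer_le_normalizer (P : Set G))
  obtain ⟨T, hPT, hAT⟩ := Cfsg.Agent.Lib.helper1.exists_invariant_sylow_ge (p := p) A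
    (Cfsg.alphaCore H) hAα hcop (Or.inl hAsolv) P hPα hPp hAP
  set T' : Subgroup G := (T : Subgroup ↥(Cfsg.alphaCore H)).map (Cfsg.alphaCore H).subtype with hT'def
  have hT'p : IsPGroup p ↥T' := T.2.map _
  have hT'α : T' ≤ Cfsg.alphaCore H := Subgroup.map_subtype_le _
  have hT'r : ¬ Cfsg.PRankLE p 2 ↥T' := by
    have hα2 : ¬ Cfsg.PRankLE p 2 ↥H := hpH.2
    unfold Cfsg.PRankLE at hα2
    push Not at hα2
    obtain ⟨B₀, hB₀c, hB₀e, hB₀card⟩ := hα2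
    have hB₀E : Cfsg.IsElementaryAbelian p (B₀.map H.subtype) :=
      Cfsg.Agent.Lib.helper8.bg_elemAb_map B₀ ⟨hB₀c, hB₀e⟩
    have hB₀α : B₀.map H.subtype ≤ Cfsg.alphaCore H :=
      Cfsg.Agent.Lib.helper71.BGA.le_map_of_isPGroup (Cfsg.piCore (Cfsg.alpha H) ↥H) hαidx
        (Subgroup.map_subtype_le B₀) (Cfsg.Agent.Lib.helper71.BG12.isPGroup_of_elemAb hB₀E)
    refine Cfsg.Agent.Lib.helper71.BGA.not_prankLE_sylow_map T hB₀α hB₀E ?_
    rw [Subgroup.card_map_of_injective H.subtype_injective]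
    exact hB₀card
  obtain ⟨B, hBle, hBe, hBcard⟩ := k_exists_elemAb_in_cent T' P hT'p hPT hP hT'r
  set S' := T' ⊓ centralizer (P : Set G) with hS'def
  have hS'p : IsPGroup p ↥S' := hT'p.to_le inf_le_left
  have hPS' : P ≤ S' := le_inf hPT hPcent
  have hAS' : A ≤ normalizer (S' : Set G) :=
    Cfsg.Agent.Lib.helper13.le_normalizer_inf hAT (hAcP.trans Subgroup.le_normalizer)
  have hS'α : S' ≤ Cfsg.alphaCore H := inf_le_left.trans hT'α
  have hPcR : P ≤ centralizer (R : Set G) := Subgroup.le_centralizer_iff.mp hRP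
  have hcyc : IsCyclic ↥(S' ⊓ centralizer (R : Set G)) := by
    by_contra hncyc
    obtain ⟨B₁, hB₁le, hB₁e, hB₁card⟩ := Cfsg.Agent.Lib.helper13.exists_elemAb_sq_of_not_cyclic hG.1
      (S' ⊓ centralizer (R : Set G)) (hS'p.to_le inf_le_left) hncyc
    have hB₁K : B₁ ≤ Cfsg.alphaCore H ⊓ centralizer (R : Set G) :=
      hB₁le.trans (inf_le_inf_right _ hS'α)
    have hrk : ¬ Cfsg.RankLE 1 ↥(Cfsg.alphaCore H ⊓ centralizer (R : Set G)) := by
      intro hK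
      refine Cfsg.Agent.Lib.helper8.bg_not_rankLE_of_elemAb hpp hB₁e (k := 1) ?_ ?_
      · rw [hB₁card]; exact Nat.pow_lt_pow_right hpp.one_lt (by norm_num)
      · intro s hs
        exact Cfsg.Agent.Lib.helper26.prankLE_mono hB₁K (hK s hs)
    have hu := Cfsg.Agent.S1406.result hG H hH R hRH
      (fun s hs hsd => by
        have : s = Nat.card R := (Nat.prime_dvd_prime_iff_eq hs hR).mp hsd
        rw [this]; exact hrαH) hrk
    have hR1 : R ≠ ⊥ := by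
      intro h
      rw [h, Subgroup.card_bot] at hR
      exact Nat.not_prime_one hR
    have hNR : normalizer (R : Set G) ≤ H := k_normalizer_le hG hH hRH hR1 hu
    have h9 := Cfsg.Agent.S1409.result hG H hH (Nat.card R) hrσH R rfl hNR
    exact h9.1.2 hrH.2.2.2.2
  have hfix : ∀ x ∈ S' ⊓ centralizer (R : Set G), x ^ p = 1 →
      x ∈ centralizer ((⁅Y, R⁆ : Subgroup G) : Set G) := by
    intro x hx hxp
    have hWcP : ⁅Y, R⁆ ≤ centralizer (P : Set G) := k_comm_le_of_le inf_le_right hRP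
    have hPcW : P ≤ centralizer ((⁅Y, R⁆ : Subgroup G) : Set G) := Subgroup.le_centralizer_iff.mp hWcP
    by_cases hx1 : x = 1
    · rw [hx1]; exact Subgroup.one_mem _
    · apply hPcW
      have hPD : P ≤ S' ⊓ centralizer (R : Set G) := le_inf hPS' hPcR
      have hord : orderOf x = p := orderOf_eq_prime hxp hx1
      have hc1 : Nat.card ↥(P.subgroupOf (S' ⊓ centralizer (R : Set G))) = p := by
        rw [Nat.card_congr (Subgroup.subgroupOfEquivOfLe hPD).toEquiv]; exact hP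
      have hc2 : Nat.card ↥(zpowers (⟨x, hx⟩ : ↥(S' ⊓ centralizer (R : Set G)))) = p := by
        rw [Nat.card_zpowers, ← hord]
        exact Subgroup.orderOf_mk x hx
      have heq := Cfsg.Agent.Lib.helper13.cyclic_subgroup_eq_of_card
        (P.subgroupOf (S' ⊓ centralizer (R : Set G)))
        (zpowers (⟨x, hx⟩ : ↥(S' ⊓ centralizer (R : Set G)))) (hc1.trans hc2.symm)
      have hmem : (⟨x, hx⟩ : ↥(S' ⊓ centralizer (R : Set G))) ∈
          P.subgroupOf (S' ⊓ centralizer (R : Set G)) := by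
        rw [heq]; exact Subgroup.mem_zpowers _
      exact Subgroup.mem_subgroupOf.mp hmem
  have hYcop_p : (Nat.card ↥Y).Coprime p :=
    Nat.Coprime.symm ((Nat.Prime.coprime_iff_not_dvd hpp).2 (fun h => hpσM (hYσ p hpp h)))
  have hYcop_r : (Nat.card ↥Y).Coprime (Nat.card ↥R) :=
    Nat.Coprime.symm ((Nat.Prime.coprime_iff_not_dvd hR).2 (fun h => hrM (hYσ _ hR h)))
  have hWS : ⁅Y, R⁆ ≤ centralizer (S' : Set G) :=
    hLX S' Y R p hpp hS'p hR hrp hYcop_p hYcop_r hRY (le_sup_left.trans hAS')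
      (le_sup_right.trans hAS') hcyc hfix
  exact ⟨B, hBle.trans hS'α, hBe, hBcard,
    hWS.trans (Subgroup.centralizer_le (SetLike.coe_subset_coe.mpr hBle))⟩

/-- Step N: `N_G(X) ≤ H` for every nontrivial subgroup `X` of `W`. -/
theorem k_step_N [Finite G] (hG : Cfsg.IsMinSimpleOddOrder G)
    (H : Subgroup G) (hH : IsCoatom H)
    (p : ℕ) (hpp : p.Prime) (Y W B : Subgroup G) (hYH : Y ≤ H) (hWY : W ≤ Y)
    (hYα : ∀ s : ℕ, s.Prime → s ∣ Nat.card ↥Y → s ∉ Cfsg.alpha H)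
    (hBα : B ≤ Cfsg.alphaCore H) (hBe : Cfsg.IsElementaryAbelian p B) (hBcard : p ^ 1 < Nat.card B)
    (hWB : W ≤ centralizer (B : Set G))
    (X : Subgroup G) (hX1 : X ≠ ⊥) (hXW : X ≤ W) : normalizer (X : Set G) ≤ H := by
  have hXH : X ≤ H := (hXW.trans hWY).trans hYH
  have hBK : B ≤ Cfsg.alphaCore H ⊓ centralizer (X : Set G) :=
    le_inf hBα (Subgroup.le_centralizer_iff.mp (hXW.trans hWB))
  have hrk : ¬ Cfsg.RankLE 1 ↥(Cfsg.alphaCore H ⊓ centralizer (X : Set G)) := by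
    intro hK
    refine Cfsg.Agent.Lib.helper8.bg_not_rankLE_of_elemAb hpp hBe (k := 1) hBcard ?_
    intro s hs
    exact Cfsg.Agent.Lib.helper26.prankLE_mono hBK (hK s hs)
  have hu := Cfsg.Agent.S1406.result hG H hH X hXH
    (fun s hs hsd => hYα s hs (hsd.trans (Subgroup.card_dvd_of_le (hXW.trans hWY)))) hrk
  exact k_normalizer_le hG hH hXH hX1 hu

/-- Step Q: a prime divisor `q` of `|W|` lies in `σ(H)`; a Sylow `q`-subgroup of `M ∩ H` is Sylow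
in `H` with normalizer in `M`. -/
theorem k_step_Q [Finite G] (hG : Cfsg.IsMinSimpleOddOrder G)
    (M H : Subgroup G) (hM : IsCoatom M) (hH : IsCoatom H) (hMH : H ≠ M)
    (p : ℕ) (hpp : p.Prime) (P : Subgroup G) (hPM : P ≤ M) (hPH : P ≤ H) (hP : Nat.card P = p)
    (hpσH : p ∈ Cfsg.sigma H)
    (W : Subgroup G) (hWM : W ≤ M) (hWH : W ≤ H)
    (hWσ : ∀ s : ℕ, s.Prime → s ∣ Nat.card ↥W → s ∈ Cfsg.sigma M)
    (hN : ∀ X : Subgroup G, X ≠ ⊥ → X ≤ W → normalizer (X : Set G) ≤ H)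
    (q : ℕ) (hq : q.Prime) (hqW : q ∣ Nat.card ↥W) :
    q ∈ Cfsg.sigma H ∧ ∃ Sq : Subgroup G, Sq ≤ M ⊓ H ∧ IsPGroup q Sq ∧ ¬ q ∣ Sq.relIndex H ∧
      normalizer (Sq : Set G) ≤ M := by
  classical
  haveI : Fact q.Prime := ⟨hq⟩
  haveI : Fact p.Prime := ⟨hpp⟩
  have hU := k_hU hG
  have hF := k_hF hG
  obtain ⟨x, hx⟩ := exists_prime_orderOf_dvd_card' q hqW
  set x' : G := (x : G) with hx'def
  have hx'ord : orderOf x' = q := by rw [hx'def, Subgroup.orderOf_coe]; exact hx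
  have hx'W : x' ∈ W := x.2
  have hx'1 : x' ≠ 1 := by
    intro h
    rw [h, orderOf_one] at hx'ord
    exact hq.one_lt.ne hx'ord
  set X := zpowers x' with hXdef
  have hXW : X ≤ W := by rw [hXdef, Subgroup.zpowers_le]; exact hx'W
  have hXcard : Nat.card ↥X = q := by rw [hXdef, Nat.card_zpowers, hx'ord]
  have hXq : IsPGroup q ↥X := IsPGroup.of_card (n := 1) (by rw [hXcard, pow_one])
  have hX1 : X ≠ ⊥ := by
    intro h
    apply hx'1
    have h2 : x' ∈ (⊥ : Subgroup G) := h ▸ Subgroup.mem_zpowers x'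
    exact Subgroup.mem_bot.mp h2
  have hNX := hN X hX1 hXW
  have hqM : q ∈ Cfsg.sigma M := hWσ q hq hqW
  have hXM : X ≤ M := hXW.trans hWM
  have hXH : X ≤ H := hXW.trans hWH
  have hXMH : X ≤ M ⊓ H := le_inf hXM hXH
  obtain ⟨S, hS⟩ := (hXq.comap_subtype (K := M ⊓ H)).exists_le_sylow
  have hXS : X ≤ (S : Subgroup ↥(M ⊓ H)).map (M ⊓ H).subtype := by
    intro y hy
    exact Subgroup.mem_map.mpr ⟨⟨y, hXMH hy⟩,
      hS (show (⟨y, hXMH hy⟩ : ↥(M ⊓ H)) ∈ X.comap (M ⊓ H).subtype from hy), rfl⟩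
  obtain ⟨-, hNS, hidx⟩ :=
    Cfsg.Agent.S1424.result hG M hM q hqM X hXq hX1 hXM H hH hMH hNX S hXS
  set Sq : Subgroup G := (S : Subgroup ↥(M ⊓ H)).map (M ⊓ H).subtype with hSqdef
  have hSqle : Sq ≤ M ⊓ H := Subgroup.map_subtype_le _
  have hSqq : IsPGroup q ↥Sq := S.2.map _
  have hSq1 : Sq ≠ ⊥ := fun h => hX1 (le_bot_iff.mp (h ▸ hXS))
  refine ⟨?_, Sq, hSqle, hSqq, hidx, hNS⟩
  by_contra hqσH
  by_cases hcyc : IsCyclic ↥Sq
  · have h1 : normalizer (Sq : Set G) ≤ H :=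
      (Cfsg.Agent.Lib.helper86.BG1424.normalizer_le_of_le_cyclic hcyc hXS).trans hNX
    exact hqσH (Cfsg.Agent.Lib.helper3.mem_sigma_of_sylow hq Sq (hSqle.trans inf_le_right) hSqq
      hSq1 hidx h1)
  · obtain ⟨A, hASq, hAe, hAcard⟩ :=
      Cfsg.Agent.Lib.helper13.exists_elemAb_sq_of_not_cyclic hG.1 Sq hSqq hcyc
    have hAH : A ≤ H := hASq.trans (hSqle.trans inf_le_right)
    have hAM : A ≤ M := hASq.trans (hSqle.trans inf_le_left)
    have hr1 : ¬ Cfsg.PRankLE q 1 ↥H := by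
      intro h
      have h2 := h (A.subgroupOf H) (Cfsg.Agent.Lib.helper8.bg_elemAb_subgroupOf H hAe).1
        (Cfsg.Agent.Lib.helper8.bg_elemAb_subgroupOf H hAe).2
      rw [Nat.card_congr (Subgroup.subgroupOfEquivOfLe hAH).toEquiv, hAcard] at h2
      exact absurd h2 (not_le.mpr (Nat.pow_lt_pow_right hq.one_lt (by norm_num)))
    have hr2 : Cfsg.PRankLE q 2 ↥H := by
      by_contra h
      exact hqσH (Cfsg.Agent.Lib.helper8.bg_alpha_sub_sigma hG hU H hH ⟨hq, h⟩)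
    have hτ2 : q ∈ Cfsg.tau2 H := ⟨hq, hqσH, hr2, hr1⟩
    obtain ⟨-, -, -, -, h5, -⟩ := Cfsg.Agent.S1417.result hG H hH q hτ2 A ⟨hAH, hAe, hAcard⟩
    have hbot : Cfsg.sigmaCore H ⊓ M = ⊥ := h5 M hM (Ne.symm hMH) hAM
    have hPσ : P ≤ Cfsg.sigmaCore H :=
      Cfsg.Agent.Lib.helper55.BGJ.le_sigmaCore_of_le hG hU hF H hH P hPH
        (fun s hs hsd => by
          rw [hP] at hsd
          have h3 : s = p := (Nat.prime_dvd_prime_iff_eq hs hpp).mp hsd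
          rw [h3]; exact hpσH)
    have hPbot : P ≤ ⊥ := hbot ▸ le_inf hPσ hPM
    have hP0 : P = ⊥ := le_bot_iff.mp hPbot
    rw [hP0, Subgroup.card_bot] at hP
    exact hpp.one_lt.ne hP

/-- **Bender–Glauberman 13.4, H-side of the bad case** (piece K of S1428). -/
theorem bg134_hside {G : Type*} [Group G] [Finite G] (hG : Cfsg.IsMinSimpleOddOrder G)
    (hLX : ∀ (S Y R : Subgroup G) (p : ℕ), p.Prime → IsPGroup p S → (Nat.card R).Prime → Nat.card R ≠ p →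
      (Nat.card Y).Coprime p → (Nat.card Y).Coprime (Nat.card R) → R ≤ Subgroup.normalizer (Y : Set G) →
      Y ≤ Subgroup.normalizer (S : Set G) → R ≤ Subgroup.normalizer (S : Set G) →
      IsCyclic ↥(S ⊓ Subgroup.centralizer (R : Set G)) →
      (∀ x ∈ S ⊓ Subgroup.centralizer (R : Set G), x ^ p = 1 → x ∈ Subgroup.centralizer ((⁅Y, R⁆ : Subgroup G) : Set G)) →
      ⁅Y, R⁆ ≤ Subgroup.centralizer (S : Set G))
    (M H : Subgroup G) (hM : IsCoatom M) (hH : IsCoatom H)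
    (p : ℕ) (hp : p ∈ Cfsg.tau1 M) (P : Subgroup G) (hPM : P ≤ M) (hP : Nat.card P = p)
    (hNH : Subgroup.normalizer (P : Set G) ≤ H) (hpH : p ∈ Cfsg.alpha H)
    (R : Subgroup G) (hRM : R ≤ M) (hRP : R ≤ Subgroup.centralizer (P : Set G)) (hR : (Nat.card R).Prime)
    (hrM : Nat.card R ∉ Cfsg.sigma M) (hrH : Nat.card R ∈ Cfsg.tau1 H)
    (hW : ¬ Cfsg.sigmaCore M ⊓ Subgroup.centralizer (P : Set G) ≤ Subgroup.centralizer (R : Set G)) :
    Nat.card R ∈ Cfsg.tau1 M ∧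
    (∀ m ∈ M, ∃ b ∈ Cfsg.piCoreOf (Cfsg.beta M) M, ∃ d ∈ M ⊓ H, m = b * d) ∧
    (∀ h ∈ H, ∃ b ∈ Cfsg.piCoreOf (Cfsg.beta H) H, ∃ d ∈ M ⊓ H, h = b * d) ∧
    (∀ q : ℕ, q.Prime → q ∣ Nat.card ↥(⁅Cfsg.sigmaCore M ⊓ Subgroup.centralizer (P : Set G), R⁆ : Subgroup G) → q ∈ Cfsg.sigma H) ∧
    (∀ X : Subgroup G, X ≠ ⊥ → X ≤ ⁅Cfsg.sigmaCore M ⊓ Subgroup.centralizer (P : Set G), R⁆ → Subgroup.normalizer (X : Set G) ≤ H) := by
  classical
  have hpp : p.Prime := hp.1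
  haveI : Fact p.Prime := ⟨hpp⟩
  have hU := k_hU hG
  have hF := k_hF hG
  have hPL := k_hPL hG
  haveI : Fact (Nat.card R).Prime := ⟨hR⟩
  obtain ⟨B, hBα, hBe, hBcard, hWB⟩ :=
    k_step_S hG hLX M H hM hH p hp P hP hNH hpH R hRM hRP hR hrM hrH
  have hCPH : centralizer (P : Set G) ≤ H := (Subgroup.centralizer_le_normalizer (P : Set G)).trans hNH
  have hPcomm := k_comm_of_card_prime P hP
  have hPcent : P ≤ centralizer (P : Set G) := by
    intro a ha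
    rw [Subgroup.mem_centralizer_iff]
    intro b hb
    exact hPcomm b hb a ha
  have hPH : P ≤ H := hPcent.trans hCPH
  have hRH : R ≤ H := hRP.trans hCPH
  have hpσM : p ∉ Cfsg.sigma M := hp.2.1
  have hpσH : p ∈ Cfsg.sigma H := Cfsg.Agent.Lib.helper8.bg_alpha_sub_sigma hG hU H hH hpH
  have hMH : H ≠ M := fun h => hpσM (h ▸ hpσH)
  have hnc : ∀ g : G, H ≠ M.map (MulAut.conj g).toMonoidHom := by
    intro g hg
    apply hpσM
    rw [← Cfsg.Agent.Lib.helper3.sigma_map_conj M g, ← hg]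
    exact hpσH
  have hnc' : ∀ g : G, M ≠ H.map (MulAut.conj g).toMonoidHom := by
    intro g hg
    apply hpσM
    rw [hg, Cfsg.Agent.Lib.helper3.sigma_map_conj H g]
    exact hpσH
  have hYH : Cfsg.sigmaCore M ⊓ centralizer (P : Set G) ≤ H := inf_le_right.trans hCPH
  have hYM : Cfsg.sigmaCore M ⊓ centralizer (P : Set G) ≤ M :=
    inf_le_left.trans (Cfsg.Agent.Lib.helper71.BGA.sigmaCore_le M)
  have hRY : R ≤ normalizer ((Cfsg.sigmaCore M ⊓ centralizer (P : Set G) : Subgroup G) : Set G) :=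
    Cfsg.Agent.Lib.helper13.le_normalizer_inf
      (hRM.trans (Cfsg.Agent.Lib.helper71.BGA.le_normalizer_sigmaCore M))
      (hRP.trans Subgroup.le_normalizer)
  have hYσ : ∀ s : ℕ, s.Prime →
      s ∣ Nat.card ↥(Cfsg.sigmaCore M ⊓ centralizer (P : Set G)) → s ∈ Cfsg.sigma M := by
    intro s hs hsd
    exact Cfsg.Agent.Lib.helper71.BG12.mem_sigma_of_dvd_card_sigmaCore M hs
      (hsd.trans (Subgroup.card_dvd_of_le inf_le_left))
  have hYα : ∀ s : ℕ, s.Prime →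
      s ∣ Nat.card ↥(Cfsg.sigmaCore M ⊓ centralizer (P : Set G)) → s ∉ Cfsg.alpha H := by
    intro s hs hsd hα
    exact Cfsg.Agent.Lib.helper55.BGJ.not_mem_alpha_of_sigma hU hM hH hnc (hYσ s hs hsd) hα
  set Y := Cfsg.sigmaCore M ⊓ centralizer (P : Set G) with hYdef
  have hWY : ⁅Y, R⁆ ≤ Y := k_comm_le_left hRY
  have hN : ∀ X : Subgroup G, X ≠ ⊥ → X ≤ ⁅Y, R⁆ → normalizer (X : Set G) ≤ H :=
    fun X hX1 hXW => k_step_N hG H hH p hpp Y ⁅Y, R⁆ B hYH hWY hYα hBα hBe hBcard hWB X hX1 hXW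
  have hWσ : ∀ s : ℕ, s.Prime → s ∣ Nat.card ↥(⁅Y, R⁆ : Subgroup G) → s ∈ Cfsg.sigma M :=
    fun s hs hsd => hYσ s hs (hsd.trans (Subgroup.card_dvd_of_le hWY))
  have hQ := fun (q : ℕ) (hq : q.Prime) (hqW : q ∣ Nat.card ↥(⁅Y, R⁆ : Subgroup G)) =>
    k_step_Q hG M H hM hH hMH p hpp P hPM hPH hP hpσH ⁅Y, R⁆ (hWY.trans hYM) (hWY.trans hYH)
      hWσ hN q hq hqW
  have hW1 : (⁅Y, R⁆ : Subgroup G) ≠ ⊥ := by
    intro h
    exact hW (Subgroup.commutator_eq_bot_iff_le_centralizer.mp h)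
  have hWc : Nat.card ↥(⁅Y, R⁆ : Subgroup G) ≠ 1 := fun h => hW1 (Subgroup.card_eq_one.mp h)
  obtain ⟨q, hq, hqW⟩ := Nat.exists_prime_and_dvd hWc
  haveI : Fact q.Prime := ⟨hq⟩
  obtain ⟨hqσH, Sq, hSqle, hSqq, hidx, hNS⟩ := hQ q hq hqW
  have hqσM : q ∈ Cfsg.sigma M := hWσ q hq hqW
  have hSqH : Sq ≤ H := hSqle.trans inf_le_right
  have hSqM : Sq ≤ M := hSqle.trans inf_le_left
  have hSqidx : ¬ q ∣ Sq.index := by
    rw [← Subgroup.relIndex_mul_index hSqH]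
    intro h
    rcases (Nat.Prime.dvd_mul hq).mp h with h | h
    · exact hidx h
    · exact Cfsg.Agent.Lib.helper8.bg_sigma_not_dvd_index H hqσH h
  have hNSH : normalizer (Sq : Set G) ≤ H :=
    Cfsg.Agent.Lib.helper13.sigma_normalizer_le H hqσH Sq hSqH hSqq hSqidx
  have hidxM : ¬ q ∣ Sq.relIndex M :=
    fun h => hSqidx (h.trans (Subgroup.relIndex_dvd_index_of_le hSqM))
  have hr2H : Cfsg.PRankLE q 2 ↥H := by
    by_contra h
    exact Cfsg.Agent.Lib.helper55.BGJ.not_mem_alpha_of_sigma hU hM hH hnc hqσM ⟨hq, h⟩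
  have hr2M : Cfsg.PRankLE q 2 ↥M := by
    by_contra h
    exact Cfsg.Agent.Lib.helper55.BGJ.not_mem_alpha_of_sigma hU hH hM hnc' hqσH ⟨hq, h⟩
  have hfacH : ∀ h ∈ H, ∃ b ∈ Cfsg.piCoreOf (Cfsg.beta H) H, ∃ d ∈ M ⊓ H, h = b * d := by
    intro h hh
    obtain ⟨b, hb, n, hn, rfl⟩ :=
      Cfsg.Agent.Lib.helper25.BGT.bg_beta_frattini hG H hH q hqσH hr2H Sq hSqH hSqq hidx h hh
    exact ⟨b, hb, n, Subgroup.mem_inf.mpr ⟨hNS (Subgroup.mem_inf.mp hn).2, (Subgroup.mem_inf.mp hn).1⟩, rfl⟩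
  have hfacM : ∀ m ∈ M, ∃ b ∈ Cfsg.piCoreOf (Cfsg.beta M) M, ∃ d ∈ M ⊓ H, m = b * d := by
    intro m hm
    obtain ⟨b, hb, n, hn, rfl⟩ :=
      Cfsg.Agent.Lib.helper25.BGT.bg_beta_frattini hG M hM q hqσM hr2M Sq hSqM hSqq hidxM m hm
    exact ⟨b, hb, n, Subgroup.mem_inf.mpr ⟨(Subgroup.mem_inf.mp hn).1, hNSH (Subgroup.mem_inf.mp hn).2⟩, rfl⟩
  have hrβM : Nat.card R ∉ Cfsg.beta M := fun h =>
    hrM (Cfsg.Agent.Lib.helper8.bg_alpha_sub_sigma hG hU M hM h.1)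
  have hτ : Nat.card R ∈ Cfsg.tau1 M := by
    refine ⟨hR, hrM, Subgroup.card_dvd_of_le hRM, ?_, ?_⟩
    · intro hd
      have hBn : M ≤ normalizer (Cfsg.piCoreOf (Cfsg.beta M) M : Set G) :=
        Cfsg.Agent.Lib.helper25.BGT.le_normalizer_piCoreOf (Cfsg.beta M) M
      have hle : ⁅M, M⁆ ≤ Cfsg.piCoreOf (Cfsg.beta M) M ⊔ ⁅M ⊓ H, M ⊓ H⁆ :=
        k_comm_le hBn inf_le_left hfacM
      have hDD : ⁅M ⊓ H, M ⊓ H⁆ ≤ M := k_comm_le_of_le inf_le_left inf_le_left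
      have h1 : Nat.card ↥(Cfsg.piCoreOf (Cfsg.beta M) M ⊔ ⁅M ⊓ H, M ⊓ H⁆) ∣
          Nat.card ↥(⁅M ⊓ H, M ⊓ H⁆ : Subgroup G) * Nat.card ↥(Cfsg.piCoreOf (Cfsg.beta M) M) := by
        have h := Cfsg.Agent.Lib.helper27.card_sup_dvd_mul_of_le_normalizer ⁅M ⊓ H, M ⊓ H⁆
          (Cfsg.piCoreOf (Cfsg.beta M) M) (hDD.trans hBn)
        rw [sup_comm] at h
        exact h
      have h2 : Nat.card R ∣
          Nat.card ↥(⁅M ⊓ H, M ⊓ H⁆ : Subgroup G) * Nat.card ↥(Cfsg.piCoreOf (Cfsg.beta M) M) :=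
        (hd.trans (Subgroup.card_dvd_of_le hle)).trans h1
      rcases (Nat.Prime.dvd_mul hR).mp h2 with h3 | h3
      · exact hrH.2.2.2.1 (h3.trans (Subgroup.card_dvd_of_le
          (Subgroup.commutator_mono inf_le_right inf_le_right)))
      · exact hrβM ((Cfsg.Agent.S1414.result hG M hM).1.2.1 _ hR h3)
    · by_contra hrk
      obtain ⟨A₁, hA₁M, hA₁p, hA₁r⟩ := Cfsg.Agent.Lib.helper26.exists_pgroup_of_not_prankLE M hrk
      have hidxr : ∀ s : ℕ, s.Prime → s ∣ Nat.card ↥A₁ → ¬ s ∣ (H ⊓ M).relIndex M := by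
        intro s hs hsd
        obtain ⟨k, hk⟩ := IsPGroup.iff_card.mp hA₁p
        rw [hk] at hsd
        have hsr : s = Nat.card R := (Nat.prime_dvd_prime_iff_eq hs hR).mp (hs.dvd_of_dvd_pow hsd)
        rw [hsr]
        exact Cfsg.Agent.Lib.helper55.BGJ.caseA_index hG hU hF hPL hM hqσM Sq hSqq
          (le_inf hSqH hSqM) hNSH hidxM hR hrβM
      obtain ⟨l, hl⟩ := Cfsg.Agent.Lib.helper55.BGJ.exists_conj_le_of_relIndex (hG.2.2.2 M hM.1)
        hA₁M hidxr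
      apply hA₁r
      refine Cfsg.Agent.Lib.helper26.prankLE_mono hl ?_
      refine (Cfsg.Agent.Lib.helper26.prankLE_map_iff (MulAut.conj l).toMonoidHom
        (MulAut.conj l).injective (H ⊓ M)).mpr ?_
      exact Cfsg.Agent.Lib.helper26.prankLE_mono inf_le_left hrH.2.2.2.2
  exact ⟨hτ, hfacM, hfacH, fun q hq hqW => (hQ q hq hqW).1, hN⟩

end Cfsg.Agent.Lib.helper76
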