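import Mathlib
import Cfsg.Agent.Lib.helper13.BGExc
import Cfsg.Agent.Lib.helper8.BGTwelve
import Cfsg.Agent.Lib.helper36.BGX1
import Cfsg.Agent.Lib.helper71.BGTenB
import Cfsg.Agent.Lib.helper76.SylowBasic
import Cfsg.Agent.S1403
import Cfsg.Agent.S1404
import Cfsg.Agent.S1406
import Cfsg.Agent.S1414

/-!
Bender–Glauberman Lemma 12.3 (in the forms `P12_3a`, `P12_3b` of `Cfsg.Agent.Lib.helper13.BGExc`)
from the section 11 interface (`P11_2`, `P11_4`, `P11_7`).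
-/

set_option autoImplicit false
open Cfsg

namespace Cfsg.Agent.Lib.helper76

open Cfsg.Agent.Lib.helper13 Cfsg.Agent.Lib.helper8

variable {G : Type*} [Group G]

/-- An element of order prime to `q` lies in every normal subgroup of `q`-power index. -/
theorem bg123_mem_of_index_pow {X : Type*} [Group X] [Finite X] {q : ℕ} (N : Subgroup X) [N.Normal]
    {k : ℕ} (hk : N.index = q ^ k) (y : X) (hy : (orderOf y).Coprime q) : y ∈ N := by
  have h1 : ((QuotientGroup.mk' N) y) ^ (q ^ k) = 1 := by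
    have hc : Nat.card (X ⧸ N) = q ^ k := by rw [← hk]; exact (Subgroup.index_eq_card N).symm
    rw [← hc]; exact pow_card_eq_one'
  have h2 : ((QuotientGroup.mk' N) y) ^ orderOf y = 1 := by
    rw [← map_pow, pow_orderOf_eq_one, map_one]
  have h3 := pow_gcd_eq_one.mpr ⟨h1, h2⟩
  have h4 : Nat.gcd (q ^ k) (orderOf y) = 1 := Nat.Coprime.pow_left k hy.symm
  rw [h4, pow_one] at h3
  exact (QuotientGroup.eq_one_iff y).mp h3

/-- Primes dividing `|M_σ|` lie in `σ(M)`. -/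
theorem bg123_sigma_of_dvd [Finite G] (M : Subgroup G) {q : ℕ} (hq : q.Prime)
    (h : q ∣ Nat.card (sigmaCore M)) : q ∈ sigma M := by
  have hcard : Nat.card (sigmaCore M) = Nat.card (piCore (sigma M) ↥M) := by
    unfold sigmaCore
    exact Subgroup.card_map_of_injective M.subtype_injective
  rw [hcard] at h
  exact Cfsg.Agent.Lib.helper65.piCore_isPiGrp (G := M) (sigma M) q hq h

/-- Primes dividing `|M_α|` lie in `α(M)`. -/
theorem bg123_alpha_of_dvd [Finite G] (M : Subgroup G) {q : ℕ} (hq : q.Prime)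
    (h : q ∣ Nat.card (alphaCore M)) : q ∈ alpha M := by
  have hcard : Nat.card (alphaCore M) = Nat.card (piCore (alpha M) ↥M) := by
    unfold alphaCore
    exact Subgroup.card_map_of_injective M.subtype_injective
  rw [hcard] at h
  exact Cfsg.Agent.Lib.helper65.piCore_isPiGrp (G := M) (alpha M) q hq h

/-- Conjugating by an element of `H` does not move `H`. -/
theorem bg123_map_conj_of_mem {H : Subgroup G} {g : G} (hg : g ∈ H) :
    H.map (MulAut.conj g).toMonoidHom = H := by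
  ext x
  rw [Cfsg.Agent.Lib.helper36.bgx_mem_map_conj]
  constructor
  · intro h
    have : x = g * (g⁻¹ * x * g) * g⁻¹ := by group
    rw [this]
    exact H.mul_mem (H.mul_mem hg h) (H.inv_mem hg)
  · intro h
    exact H.mul_mem (H.mul_mem (H.inv_mem hg) h) hg

/-- `M = gHg⁻¹` gives `H = g⁻¹Mg`. -/
theorem bg123_conj_symm {M H : Subgroup G} {g : G} (h : M = H.map (MulAut.conj g).toMonoidHom) :
    H = M.map (MulAut.conj g⁻¹).toMonoidHom := by
  ext x
  rw [Cfsg.Agent.Lib.helper36.bgx_mem_map_conj, h, Cfsg.Agent.Lib.helper36.bgx_mem_map_conj]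
  have : g⁻¹ * (g⁻¹⁻¹ * x * g⁻¹) * g = x := by group
  rw [this]

/-- A prime in `α(M) ∩ σ(H)` forces `M` to be a conjugate of `H` (B-G 10.12(a)). -/
theorem bg123_conj_of_alpha_sigma [Finite G] (hU : BGUniqHyp G)
    (M H : Subgroup G) (hM : IsCoatom M) (hH : IsCoatom H) {q : ℕ} (hqα : q ∈ alpha M)
    (hqσ : q ∈ sigma H) : ∃ g : G, M = H.map (MulAut.conj g).toMonoidHom := by
  have hqp : q.Prime := hqα.1
  have : Fact q.Prime := ⟨hqp⟩
  obtain ⟨B, hBM, hBe, hcard⟩ :=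
    (Cfsg.Agent.Lib.helper28.not_pRankLE_subgroup_iff q 2 M).mp hqα.2
  have hidx : ¬ q ∣ H.index := bg_sigma_not_dvd_index H hqσ
  obtain ⟨S, hSH⟩ := exists_sylow_le_of_not_dvd_index q H hidx
  have hBp : IsPGroup q B := by
    intro b
    refine ⟨1, ?_⟩
    rw [pow_one]
    exact Subtype.ext (by simpa using hBe.2 b b.2)
  obtain ⟨g, hg⟩ := Cfsg.Agent.Lib.helper36.bgx_exists_conj_le S hBp
  have hB' : B ≤ H.map (MulAut.conj g⁻¹).toMonoidHom := by
    intro b hb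
    rw [Cfsg.Agent.Lib.helper36.bgx_mem_map_conj]
    have h1 : g * b * g⁻¹ ∈ (S : Subgroup G) := hg ⟨b, hb, rfl⟩
    simpa using hSH h1
  have hBU : InUniqueMaximal B := by
    refine hU B ?_ ?_ (Or.inl ?_)
    · intro h
      exact hM.1 (top_le_iff.mp (h ▸ hBM))
    · exact bg_not_rankLE_of_elemAb hqp hBe
        (lt_of_le_of_lt (Nat.pow_le_pow_right hqp.pos (by norm_num)) hcard)
    · exact bg_not_rankLE_of_elemAb hqp hBe hcard
  exact ⟨g⁻¹, hBU.unique ⟨hM, hBM⟩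
    ⟨Cfsg.Agent.Lib.helper71.BGA.isCoatom_map_conj hH g⁻¹, hB'⟩⟩

/-- If `p ∈ σ(H)` and `N_G(A₀) ≤ H` for a nontrivial `p`-subgroup `A₀`, then `H` is the only
conjugate of `H` containing `A₀` (B-G 12.2(b)). -/
theorem bg123_conj_eq (hF : BGFusHyp G) (H : Subgroup G) (hH : IsCoatom H) {p : ℕ}
    (hp : p ∈ sigma H) (A₀ : Subgroup G) (hA₀p : IsPGroup p A₀) (hA₀1 : A₀ ≠ ⊥)
    (hN : Subgroup.normalizer (A₀ : Set G) ≤ H) (g : G)
    (hg : A₀ ≤ H.map (MulAut.conj g).toMonoidHom) : H.map (MulAut.conj g).toMonoidHom = H := by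
  have hA₀H : A₀ ≤ H := Subgroup.le_normalizer.trans hN
  have h1 : A₀.map (MulAut.conj g⁻¹).toMonoidHom ≤ H := by
    rintro _ ⟨y, hy, rfl⟩
    have h2 := (Cfsg.Agent.Lib.helper36.bgx_mem_map_conj).mp (hg hy)
    show g⁻¹ * y * g⁻¹⁻¹ ∈ H
    simpa using h2
  obtain ⟨m, hm, c, hc, hgmc⟩ := hF H hH p hp A₀ hA₀p hA₀1 hA₀H g⁻¹ h1
  have hcH : c ∈ H := hN (Subgroup.centralizer_le_normalizer _ hc)
  have hgH : g ∈ H := by
    have h3 : g⁻¹ ∈ H := by rw [hgmc]; exact H.mul_mem hm hcH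
    simpa using H.inv_mem h3
  exact bg123_map_conj_of_mem hgH

/-- In the situation of B-G 12.3, `A ≤ H`. -/
theorem bg123_le {p : ℕ} {A₀ A H : Subgroup G} (hAe : IsElementaryAbelian p A) (hA₀A : A₀ ≤ A)
    (hN : Subgroup.normalizer (A₀ : Set G) ≤ H) : A ≤ H := by
  intro a ha
  apply hN
  apply Subgroup.centralizer_le_normalizer
  rw [Subgroup.mem_centralizer_iff]
  intro h hh
  exact ((bg_elemAb_iff A).mp hAe).1 h (hA₀A hh) a ha

/-- If `x ∈ H_σ A` has order prime to `p` (`A` a `p`-subgroup of `H`), then `x ∈ H_σ`. -/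
theorem bg123_mem_sigmaCore_of_sup [Finite G] (H : Subgroup G) {p : ℕ} [Fact p.Prime]
    (A : Subgroup G) (hAH : A ≤ H) (hAp : IsPGroup p A) (c : G) (hc : c ∈ sigmaCore H ⊔ A)
    (hcop : (orderOf c).Coprime p) : c ∈ sigmaCore H := by
  have hmap : (piCore (sigma H) ↥H ⊔ A.subgroupOf H).map H.subtype = sigmaCore H ⊔ A := by
    rw [Subgroup.map_sup, Subgroup.map_subgroupOf_eq_of_le hAH]
    rfl
  have hc' : c ∈ (piCore (sigma H) ↥H ⊔ A.subgroupOf H).map H.subtype := by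
    rw [hmap]; exact hc
  obtain ⟨y, hy, rfl⟩ := hc'
  have hA' : IsPGroup p (A.subgroupOf H) :=
    hAp.comap_of_injective H.subtype H.subtype_injective
  have hcop' : (orderOf y).Coprime p := by
    have : orderOf (H.subtype y) = orderOf y :=
      orderOf_injective H.subtype H.subtype_injective y
    rw [← this]; exact hcop
  have h3 := bg_mem_of_mem_sup_pgroup (piCore (sigma H) ↥H) (A.subgroupOf H) hA' y hy hcop'
  exact ⟨y, h3, rfl⟩

/-- The commutator `d a d⁻¹ a⁻¹` lies in `H_σ` when `d ∈ H`, `a ∈ A`, its order is prime to `p`, and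
`H_σ A` is normal in `H` (`p ∈ σ(H)`, or `H` exceptional and B-G 11.7). -/
theorem bg123_comm_mem_sigmaCore [Finite G] (hG : IsMinSimpleOddOrder G) (hU : BGUniqHyp G)
    (hF : BGFusHyp G) (h7 : P11_7 G) (H : Subgroup G) (hH : IsCoatom H) {p : ℕ} [Fact p.Prime]
    (A₀ A : Subgroup G) (hAH : A ≤ H) (hAe : IsElementaryAbelian p A) (hA2 : Nat.card A = p ^ 2)
    (hA₀A : A₀ ≤ A) (hA₀c : Nat.card A₀ = p) (hN : Subgroup.normalizer (A₀ : Set G) ≤ H)
    (d a : G) (hdH : d ∈ H) (ha : a ∈ A) (hcop : (orderOf (d * a * d⁻¹ * a⁻¹)).Coprime p) :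
    d * a * d⁻¹ * a⁻¹ ∈ sigmaCore H := by
  have hpp : p.Prime := Fact.out
  have hAp : IsPGroup p A := IsPGroup.of_card hA2
  have hnH := Cfsg.Agent.Lib.helper71.BGA.le_normalizer_sigmaCore H
  by_cases hpH : p ∈ sigma H
  · have h1 : A ≤ sigmaCore H := bg_pgroup_le_sigmaCore hG hU hF H hH hpH A hAH hAp
    have h2 : d * a * d⁻¹ ∈ sigmaCore H :=
      (Subgroup.mem_normalizer_iff.mp (hnH hdH) a).mp (h1 ha)
    exact (sigmaCore H).mul_mem h2 ((sigmaCore H).inv_mem (h1 ha))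
  · have hE : Exc H p A₀ A := ⟨hH, hpp, hpH, hAH, hAe, hA2, hA₀A, hA₀c, hN⟩
    have hn7 := h7 H p A₀ A hE
    have h2 : d * a * d⁻¹ ∈ sigmaCore H ⊔ A :=
      (Subgroup.mem_normalizer_iff.mp (hn7 hdH) a).mp ((le_sup_right : A ≤ sigmaCore H ⊔ A) ha)
    have h3 : d * a * d⁻¹ * a⁻¹ ∈ sigmaCore H ⊔ A :=
      (sigmaCore H ⊔ A).mul_mem h2
        ((sigmaCore H ⊔ A).inv_mem ((le_sup_right : A ≤ sigmaCore H ⊔ A) ha))
    exact bg123_mem_sigmaCore_of_sup H A hAH hAp _ h3 hcop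

/-- `x = 1` from `d a d⁻¹ a⁻¹ = 1`. -/
theorem bg123_comm_of_eq_one {d a : G} (h : d * a * d⁻¹ * a⁻¹ = 1) : a * d = d * a := by
  have : d * a = (d * a * d⁻¹ * a⁻¹) * (a * d) := by group
  rw [this, h, one_mul]

/-- B-G 12.3 (a). -/
theorem p12_3a [Finite G] (hG : IsMinSimpleOddOrder G) (h4 : P11_4 G) (h7 : P11_7 G) :
    P12_3a G := by
  have hU : BGUniqHyp G := fun K hK h1 h2 => Cfsg.Agent.S1403.result hG K hK h1 h2
  have hF : BGFusHyp G := by
    intro M hM p hp X hXp hX1 hXM g hg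
    have : Fact p.Prime := ⟨hp.1⟩
    exact (Cfsg.Agent.S1404.result hG M hM p hp X hXp hX1 hXM).1 g hg
  intro M H hM hH hHM p _ A₀ A hAM hAe hA2 hA₀A hA₀c hN hpσ
  have hpp : p.Prime := Fact.out
  have hAp : IsPGroup p A := IsPGroup.of_card hA2
  have hA₀p : IsPGroup p A₀ := IsPGroup.of_card (n := 1) (by rw [hA₀c, pow_one])
  have hA₀1 : A₀ ≠ ⊥ := by
    intro h
    rw [h, Subgroup.card_bot] at hA₀c
    exact hpp.one_lt.ne hA₀c
  have hAH : A ≤ H := bg123_le hAe hA₀A hN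
  have hnM := Cfsg.Agent.Lib.helper71.BGA.le_normalizer_sigmaCore M
  have hcopM := bg_sigmaCore_card_coprime M hpp hpσ
  rintro d ⟨hdM, hdH⟩
  rw [Subgroup.mem_centralizer_iff]
  intro a ha
  have haM : a ∈ M := hAM ha
  have hxM : d * a * d⁻¹ * a⁻¹ ∈ sigmaCore M := by
    have h1 : a * d⁻¹ * a⁻¹ ∈ sigmaCore M :=
      (Subgroup.mem_normalizer_iff.mp (hnM haM) d⁻¹).mp ((sigmaCore M).inv_mem hdM)
    have : d * a * d⁻¹ * a⁻¹ = d * (a * d⁻¹ * a⁻¹) := by group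
    rw [this]
    exact (sigmaCore M).mul_mem hdM h1
  have hdvd : orderOf (d * a * d⁻¹ * a⁻¹) ∣ Nat.card (sigmaCore M) := by
    have := orderOf_dvd_natCard (⟨d * a * d⁻¹ * a⁻¹, hxM⟩ : sigmaCore M)
    rwa [Subgroup.orderOf_mk] at this
  have hord : (orderOf (d * a * d⁻¹ * a⁻¹)).Coprime p := Nat.Coprime.coprime_dvd_left hdvd hcopM
  have hxH : d * a * d⁻¹ * a⁻¹ ∈ sigmaCore H :=
    bg123_comm_mem_sigmaCore hG hU hF h7 H hH A₀ A hAH hAe hA2 hA₀A hA₀c hN d a hdH ha hord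
  apply bg123_comm_of_eq_one
  by_contra hne
  by_cases hpH : p ∈ sigma H
  · -- a prime q dividing the order of x lies in σ(M) ∩ σ(H)
    have hord1 : orderOf (d * a * d⁻¹ * a⁻¹) ≠ 1 := fun h => hne (orderOf_eq_one_iff.mp h)
    obtain ⟨q, hq, hqd⟩ := Nat.exists_prime_and_dvd hord1
    have : Fact q.Prime := ⟨hq⟩
    have hqM : q ∈ sigma M := bg123_sigma_of_dvd M hq (hqd.trans hdvd)
    have hdvdH : orderOf (d * a * d⁻¹ * a⁻¹) ∣ Nat.card (sigmaCore H) := by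
      have := orderOf_dvd_natCard (⟨d * a * d⁻¹ * a⁻¹, hxH⟩ : sigmaCore H)
      rwa [Subgroup.orderOf_mk] at this
    have hqH : q ∈ sigma H := bg123_sigma_of_dvd H hq (hqd.trans hdvdH)
    have hqp : q ≠ p := fun h => hpσ (h ▸ hqM)
    have hqα : q ∉ alpha H := by
      intro hα
      obtain ⟨g, hg⟩ := bg123_conj_of_alpha_sigma hU H M hH hM hα hqM
      have hg' := bg123_conj_symm hg
      have h5 := bg123_conj_eq hF H hH hpH A₀ hA₀p hA₀1 hN g⁻¹ (hg' ▸ (hA₀A.trans hAM))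
      exact hHM (by rw [← h5, ← hg'])
    have h14 := ((Cfsg.Agent.S1414.result hG H hH).2.2.2.2 q hq hqH.2.1 (fun hb => hqα hb.1)).2.1
    obtain ⟨N, hNn, hNcop, k, hk⟩ := bgNpc_of_hasNormalPComplement h14
    have hA1 : A ≤ sigmaCore H := bg_pgroup_le_sigmaCore hG hU hF H hH hpH A hAH hAp
    have hnH := Cfsg.Agent.Lib.helper71.BGA.le_normalizer_sigmaCore H
    have hb : d * a * d⁻¹ ∈ sigmaCore H :=
      (Subgroup.mem_normalizer_iff.mp (hnH hdH) a).mp (hA1 ha)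
    have hpq : Nat.Coprime p q := (Nat.coprime_primes hpp hq).mpr (fun h => hqp h.symm)
    have hoa : (orderOf (⟨a, hA1 ha⟩ : sigmaCore H)).Coprime q := by
      rw [Subgroup.orderOf_mk]
      exact Nat.Coprime.coprime_dvd_left (orderOf_dvd_of_pow_eq_one (hAe.2 a ha)) hpq
    have hob : (orderOf (⟨d * a * d⁻¹, hb⟩ : sigmaCore H)).Coprime q := by
      rw [Subgroup.orderOf_mk]
      refine Nat.Coprime.coprime_dvd_left (orderOf_dvd_of_pow_eq_one ?_) hpq
      rw [conj_pow, hAe.2 a ha, mul_one, mul_inv_cancel]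
    have hNa := bg123_mem_of_index_pow N hk _ hoa
    have hNb := bg123_mem_of_index_pow N hk _ hob
    have hNx : (⟨d * a * d⁻¹, hb⟩ : sigmaCore H) * (⟨a, hA1 ha⟩ : sigmaCore H)⁻¹ ∈ N :=
      N.mul_mem hNb (N.inv_mem hNa)
    have hox : orderOf ((⟨d * a * d⁻¹, hb⟩ : sigmaCore H) * (⟨a, hA1 ha⟩ : sigmaCore H)⁻¹) =
        orderOf (d * a * d⁻¹ * a⁻¹) := by
      rw [← Subgroup.orderOf_coe]
      rfl
    have h6 : orderOf (d * a * d⁻¹ * a⁻¹) ∣ Nat.card N := by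
      rw [← hox]
      have := orderOf_dvd_natCard (⟨_, hNx⟩ : N)
      rwa [Subgroup.orderOf_mk] at this
    have h7' : q ∣ Nat.card N := hqd.trans h6
    have h8 : q = 1 := Nat.Coprime.eq_one_of_dvd hNcop.symm h7'
    exact hq.one_lt.ne' h8
  · have hE : Exc H p A₀ A := ⟨hH, hpp, hpH, hAH, hAe, hA2, hA₀A, hA₀c, hN⟩
    refine hHM (h4 H p A₀ A hE M hM hAM ?_).symm
    intro hbot
    have h9 : d * a * d⁻¹ * a⁻¹ ∈ sigmaCore M ⊓ sigmaCore H := ⟨hxM, hxH⟩
    rw [hbot, Subgroup.mem_bot] at h9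
    exact hne h9

/-- B-G 12.3 (b'). -/
theorem p12_3b [Finite G] (hG : IsMinSimpleOddOrder G) (h2 : P11_2 G) (h7 : P11_7 G) :
    P12_3b G := by
  have hU : BGUniqHyp G := fun K hK h1 h2 => Cfsg.Agent.S1403.result hG K hK h1 h2
  have hF : BGFusHyp G := by
    intro M hM p hp X hXp hX1 hXM g hg
    have : Fact p.Prime := ⟨hp.1⟩
    exact (Cfsg.Agent.S1404.result hG M hM p hp X hXp hX1 hXM).1 g hg
  intro M H hM hH hHM p _ A₀ A hAM hAe hA2 hA₀A hA₀c hN hpα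
  have hpp : p.Prime := Fact.out
  have hAp : IsPGroup p A := IsPGroup.of_card hA2
  have hA₀p : IsPGroup p A₀ := IsPGroup.of_card (n := 1) (by rw [hA₀c, pow_one])
  have hA₀1 : A₀ ≠ ⊥ := by
    intro h
    rw [h, Subgroup.card_bot] at hA₀c
    exact hpp.one_lt.ne hA₀c
  have hA₀M : A₀ ≤ M := hA₀A.trans hAM
  have hAH : A ≤ H := bg123_le hAe hA₀A hN
  have hCH : Subgroup.centralizer (A₀ : Set G) ≤ H :=
    fun c hc => hN (Subgroup.centralizer_le_normalizer _ hc)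
  refine ⟨?_, ?_⟩
  · by_contra hr
    have hXα : ∀ q : ℕ, q.Prime → q ∣ Nat.card A₀ → q ∉ alpha M := by
      intro q hq hqd
      rw [hA₀c] at hqd
      have : q = p := (Nat.prime_dvd_prime_iff_eq hq hpp).mp hqd
      rw [this]; exact hpα
    have hu := Cfsg.Agent.S1406.result hG M hM A₀ hA₀M hXα hr
    exact hHM (hu.unique ⟨hH, inf_le_right.trans hCH⟩ ⟨hM, inf_le_left⟩)
  · rintro d ⟨hdα, hdC⟩
    have hdM : d ∈ M := Cfsg.Agent.Lib.helper71.BGA.alphaCore_le M hdα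
    have hdH : d ∈ H := hCH hdC
    have hnα := Cfsg.Agent.Lib.helper71.BGA.le_normalizer_alphaCore M
    rw [Subgroup.mem_centralizer_iff]
    intro a ha
    have haM : a ∈ M := hAM ha
    have hxα : d * a * d⁻¹ * a⁻¹ ∈ alphaCore M := by
      have h1 : a * d⁻¹ * a⁻¹ ∈ alphaCore M :=
        (Subgroup.mem_normalizer_iff.mp (hnα haM) d⁻¹).mp ((alphaCore M).inv_mem hdα)
      have : d * a * d⁻¹ * a⁻¹ = d * (a * d⁻¹ * a⁻¹) := by group
      rw [this]
      exact (alphaCore M).mul_mem hdα h1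
    have hdvd : orderOf (d * a * d⁻¹ * a⁻¹) ∣ Nat.card (alphaCore M) := by
      have := orderOf_dvd_natCard (⟨d * a * d⁻¹ * a⁻¹, hxα⟩ : alphaCore M)
      rwa [Subgroup.orderOf_mk] at this
    have hcopα : (Nat.card (alphaCore M)).Coprime p :=
      ((Nat.Prime.coprime_iff_not_dvd hpp).mpr
        (fun h => hpα (bg123_alpha_of_dvd M hpp h))).symm
    have hord : (orderOf (d * a * d⁻¹ * a⁻¹)).Coprime p := Nat.Coprime.coprime_dvd_left hdvd hcopα
    have hxH : d * a * d⁻¹ * a⁻¹ ∈ sigmaCore H :=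
      bg123_comm_mem_sigmaCore hG hU hF h7 H hH A₀ A hAH hAe hA2 hA₀A hA₀c hN d a hdH ha hord
    apply bg123_comm_of_eq_one
    by_contra hne
    have hord1 : orderOf (d * a * d⁻¹ * a⁻¹) ≠ 1 := fun h => hne (orderOf_eq_one_iff.mp h)
    obtain ⟨q, hq, hqd⟩ := Nat.exists_prime_and_dvd hord1
    have hqα : q ∈ alpha M := bg123_alpha_of_dvd M hq (hqd.trans hdvd)
    have hdvdH : orderOf (d * a * d⁻¹ * a⁻¹) ∣ Nat.card (sigmaCore H) := by
      have := orderOf_dvd_natCard (⟨d * a * d⁻¹ * a⁻¹, hxH⟩ : sigmaCore H)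
      rwa [Subgroup.orderOf_mk] at this
    have hqH : q ∈ sigma H := bg123_sigma_of_dvd H hq (hqd.trans hdvdH)
    obtain ⟨g, hg⟩ := bg123_conj_of_alpha_sigma hU M H hM hH hqα hqH
    by_cases hpH : p ∈ sigma H
    · have h5 := bg123_conj_eq hF H hH hpH A₀ hA₀p hA₀1 hN g (hg ▸ hA₀M)
      exact hHM (by rw [hg, h5])
    · have hE : Exc H p A₀ A := ⟨hH, hpp, hpH, hAH, hAe, hA2, hA₀A, hA₀c, hN⟩
      have hgH : g ∉ H := by
        intro hgH
        exact hHM (by rw [hg, bg123_map_conj_of_mem hgH])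
      have h6 := (h2 H p A₀ A hE g hgH (hg ▸ hAM)).1
      have hxM : d * a * d⁻¹ * a⁻¹ ∈ M := Cfsg.Agent.Lib.helper71.BGA.alphaCore_le M hxα
      have h9 : d * a * d⁻¹ * a⁻¹ ∈ sigmaCore H ⊓ H.map (MulAut.conj g).toMonoidHom :=
        ⟨hxH, hg ▸ hxM⟩
      rw [h6, Subgroup.mem_bot] at h9
      exact hne h9

end Cfsg.Agent.Lib.helper76
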