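import Mathlib
import Cfsg.Agent.Lib.helper44.SL3Defs

/-!
# S2287 pieces C1e (`core1_dfix`) and C1f (`core1_balance`)

Self-contained (own copies of the span lemma and of bi-additivity under prefixed names).
-/

set_option autoImplicit false

namespace Cfsg.Agent.Lib.helper44.SL3

open Polynomial

/-- Own copy of the span lemma: an additively closed set containing `s * μ ^ n` for all `n`
contains `s * a` for all `a`, when `μ` generates the field over the prime field. -/
theorem h76_span_mul {F : Type*} [Field F] {p : ℕ} [Fact p.Prime] [Algebra (ZMod p) F]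
    (μ s : F) (hμ : Algebra.adjoin (ZMod p) {μ} = ⊤) (S : Set F) (h0 : (0 : F) ∈ S)
    (hadd : ∀ a b, a ∈ S → b ∈ S → a + b ∈ S) (hpow : ∀ n : ℕ, s * μ ^ n ∈ S) :
    ∀ a : F, s * a ∈ S := by
  classical
  haveI : NeZero p := ⟨(Fact.out : p.Prime).ne_zero⟩
  let T : AddSubmonoid F :=
    { carrier := S, add_mem' := fun {a b} ha hb => hadd a b ha hb, zero_mem' := h0 }
  have key : ∀ f : (ZMod p)[X], s * aeval μ f ∈ T := by
    intro f
    induction f using Polynomial.induction_on' with
    | add f g hf hg =>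
      rw [map_add, mul_add]; exact T.add_mem hf hg
    | monomial n c =>
      rw [Polynomial.aeval_monomial]
      have hc : algebraMap (ZMod p) F c = ((c.val : ℕ) : F) := by
        conv_lhs => rw [← ZMod.natCast_zmod_val c]
        rw [map_natCast]
      rw [hc]
      have e : s * (((c.val : ℕ) : F) * μ ^ n) = c.val • (s * μ ^ n) := by
        rw [nsmul_eq_mul]; ring
      rw [e]
      exact T.nsmul_mem (hpow n) _
  intro a
  have ha : a ∈ Algebra.adjoin (ZMod p) {μ} := by rw [hμ]; trivial
  rw [Algebra.adjoin_singleton_eq_range_aeval] at ha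
  obtain ⟨f, rfl⟩ := ha
  exact key f

/-- An additive map into a group sends `0` to `1`. -/
theorem h76_map_zero {G : Type*} [Group G] {F : Type*} [Field F] (x : F → G)
    (x_add : ∀ a b, x (a + b) = x a * x b) : x 0 = 1 := by
  have h : x 0 * x 0 = x 0 * 1 := by rw [mul_one, ← x_add, add_zero]
  exact mul_left_cancel h

/-- Own copy of bi-additivity of the commutator pairing (from centrality). -/
theorem h76_biadd {G : Type*} [Group G] {F : Type*} [Field F] (x y : F → G)
    (x_add : ∀ a b, x (a + b) = x a * x b) (y_add : ∀ a b, y (a + b) = y a * y b)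
    (hcen : ∀ a b a', Commute (x a') (cm (x a) (y b)) ∧ Commute (y a') (cm (x a) (y b))) :
    (∀ a a' b, cm (x (a + a')) (y b) = cm (x a) (y b) * cm (x a') (y b)) ∧
    (∀ a b b', cm (x a) (y (b + b')) = cm (x a) (y b) * cm (x a) (y b')) := by
  constructor
  · intro a a' b
    have h1 : cm (x a' * x a) (y b) =
        x a' * cm (x a) (y b) * (x a')⁻¹ * cm (x a') (y b) := by
      unfold cm; group
    have h2 : x a' * cm (x a) (y b) * (x a')⁻¹ = cm (x a) (y b) := by
      rw [((hcen a b a').1).eq, mul_inv_cancel_right]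
    rw [add_comm, x_add, h1, h2]
  · intro a b b'
    have h1 : cm (x a) (y b * y b') =
        cm (x a) (y b) * (y b * cm (x a) (y b') * (y b)⁻¹) := by
      unfold cm; group
    have h2 : y b * cm (x a) (y b') * (y b)⁻¹ = cm (x a) (y b') := by
      rw [((hcen a b' b).2).eq, mul_inv_cancel_right]
    rw [y_add, h1, h2]

theorem h76_cm_one_left {G : Type*} [Group G] (v : G) : cm 1 v = 1 := by
  unfold cm; group

theorem h76_cm_one_right {G : Type*} [Group G] (u : G) : cm u 1 = 1 := by
  unfold cm; group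

theorem h76_cm_conj {G : Type*} [Group G] (t u v : G) :
    t * cm u v * t⁻¹ = cm (t * u * t⁻¹) (t * v * t⁻¹) := by
  unfold cm; group

-- C1e
theorem core1_dfix {G : Type*} [Group G] {F : Type*} [Field F] [Fintype F] {p : ℕ}
    [Fact p.Prime] [Algebra (ZMod p) F] (x y : F → G) (h g d : G) (ω κ : F)
    (hT : IsTor1 x y h g d ω κ) (hκ : Algebra.adjoin (ZMod p) {κ} = ⊤)
    (hω : Algebra.adjoin (ZMod p) {ω} = ⊤) (hω0 : ω ≠ 0) (hκ0 : κ ≠ 0)
    (hcen : ∀ a b a', Commute (x a') (cm (x a) (y b)) ∧ Commute (y a') (cm (x a) (y b))) :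
    ∀ a b, cm (x (κ * a)) (y b) = cm (x a) (y (κ * b)) := by
  obtain ⟨hbx, hby⟩ := h76_biadd x y hT.x_add hT.y_add hcen
  have hx0 := h76_map_zero x hT.x_add
  have hy0 := h76_map_zero y hT.y_add
  have hdg : Commute d g := hT.gd.symm
  have hdh : Commute d h := hT.hd.symm
  have hg : ∀ n : ℕ, Commute d (cm (x (κ ^ n)) (y 1)) := by
    intro n
    induction n with
    | zero => simpa using hT.z_d
    | succ n ih =>
      have e : cm (x (κ ^ (n + 1))) (y 1) = g * cm (x (κ ^ n)) (y 1) * g⁻¹ := by
        have e1 : κ ^ (n + 1) = κ * κ ^ n := by ring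
        rw [h76_cm_conj, hT.g_x, hT.g_y, e1]
      rw [e]
      exact (Commute.mul_right hdg ih).mul_right hdg.inv_right
  have hhg : ∀ m n : ℕ, Commute d (cm (x (ω ^ m * κ ^ n)) (y (ω ^ m))) := by
    intro m n
    induction m with
    | zero => simpa using hg n
    | succ m ih =>
      have e : cm (x (ω ^ (m + 1) * κ ^ n)) (y (ω ^ (m + 1))) =
          h * cm (x (ω ^ m * κ ^ n)) (y (ω ^ m)) * h⁻¹ := by
        have e1 : ω ^ (m + 1) * κ ^ n = ω * (ω ^ m * κ ^ n) := by ring
        have e2 : ω ^ (m + 1) = ω * ω ^ m := by ring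
        rw [h76_cm_conj, hT.h_x, hT.h_y, e1, e2]
      rw [e]
      exact (Commute.mul_right hdh ih).mul_right hdh.inv_right
  have hQ1 : ∀ (m : ℕ) (a : F), Commute d (cm (x a) (y (ω ^ m))) := by
    intro m a
    have hS : ∀ a : F, ω ^ m * a ∈ {a : F | Commute d (cm (x a) (y (ω ^ m)))} := by
      apply h76_span_mul κ (ω ^ m) hκ
      · show Commute d (cm (x 0) (y (ω ^ m)))
        rw [hx0, h76_cm_one_left]; exact Commute.one_right d
      · intro a b ha hb
        show Commute d (cm (x (a + b)) (y (ω ^ m)))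
        rw [hbx]; exact Commute.mul_right ha hb
      · intro n; exact hhg m n
    have h3 := hS ((ω ^ m)⁻¹ * a)
    rw [mul_inv_cancel_left₀ (pow_ne_zero m hω0)] at h3
    exact h3
  have hQ : ∀ a b : F, Commute d (cm (x a) (y b)) := by
    intro a b
    have hS : ∀ b : F, (1 : F) * b ∈ {b : F | Commute d (cm (x a) (y b))} := by
      apply h76_span_mul ω 1 hω
      · show Commute d (cm (x a) (y 0))
        rw [hy0, h76_cm_one_right]; exact Commute.one_right d
      · intro b b' hb hb'
        show Commute d (cm (x a) (y (b + b')))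
        rw [hby]; exact Commute.mul_right hb hb'
      · intro n
        show Commute d (cm (x a) (y (1 * ω ^ n)))
        rw [one_mul]; exact hQ1 n a
    have h3 := hS b
    rw [one_mul] at h3
    exact h3
  intro a b
  have h1 : d⁻¹ * cm (x (κ * a)) (y b) * d = cm (x a) (y (κ * b)) := by
    have h4 := h76_cm_conj d⁻¹ (x (κ * a)) (y b)
    rw [inv_inv] at h4
    rw [h4, hT.d_y]
    congr 1
    rw [← hT.d_x]; group
  have h2 : d⁻¹ * cm (x (κ * a)) (y b) * d = cm (x (κ * a)) (y b) := by
    have h5 := (hQ (κ * a) b).eq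
    rw [mul_assoc, ← h5, inv_mul_cancel_left]
  rw [← h2, h1]

-- C1f
theorem core1_balance {G : Type*} [Group G] {F : Type*} [Field F] [Fintype F] {p : ℕ}
    [Fact p.Prime] [Algebra (ZMod p) F] (x y : F → G) (κ : F)
    (x_add : ∀ a b, x (a + b) = x a * x b) (y_add : ∀ a b, y (a + b) = y a * y b)
    (hcen : ∀ a b a', Commute (x a') (cm (x a) (y b)) ∧ Commute (y a') (cm (x a) (y b)))
    (hκ : Algebra.adjoin (ZMod p) {κ} = ⊤)
    (hstep : ∀ a b, cm (x (κ * a)) (y b) = cm (x a) (y (κ * b))) :
    ∀ a b, cm (x a) (y b) = cm (x (a * b)) (y 1) := by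
  obtain ⟨hbx, hby⟩ := h76_biadd x y x_add y_add hcen
  have hx0 := h76_map_zero x x_add
  have hy0 := h76_map_zero y y_add
  have hR : ∀ s : F, (1 : F) * s ∈
      {s : F | ∀ a b, cm (x (s * a)) (y b) = cm (x a) (y (s * b))} := by
    apply h76_span_mul κ 1 hκ
    · show ∀ a b, cm (x (0 * a)) (y b) = cm (x a) (y (0 * b))
      intro a b
      rw [zero_mul, zero_mul, hx0, hy0, h76_cm_one_left, h76_cm_one_right]
    · intro s s' hs hs'
      show ∀ a b, cm (x ((s + s') * a)) (y b) = cm (x a) (y ((s + s') * b))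
      intro a b
      rw [add_mul, add_mul, hbx, hby, hs a b, hs' a b]
    · intro n
      show ∀ a b, cm (x (1 * κ ^ n * a)) (y b) = cm (x a) (y (1 * κ ^ n * b))
      induction n with
      | zero => intro a b; simp
      | succ n ih =>
        intro a b
        have e1 : 1 * κ ^ (n + 1) * a = κ * (1 * κ ^ n * a) := by ring
        have e2 : 1 * κ ^ (n + 1) * b = 1 * κ ^ n * (κ * b) := by ring
        rw [e1, e2, hstep, ih]
  intro a b
  have h3 : ∀ a' b', cm (x (1 * b * a')) (y b') = cm (x a') (y (1 * b * b')) := hR b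
  have h4 := h3 a 1
  rw [one_mul, mul_one] at h4
  rw [mul_comm a b]; exact h4.symm

end Cfsg.Agent.Lib.helper44.SL3
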