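import Mathlib
import Cfsg.Agent.Lib.helper42.AICDefs

/-!
S2202 piece E3a (helper76): the block stabilizer of a Sylow 2-subgroup exists.
Also: membership in the centralizer of a conjugate Sylow subgroup.
-/

set_option autoImplicit false

open Cfsg.Agent.Lib.helper42.AIC

namespace Cfsg.Agent.Lib.helper76.AIC

/-- membership in a conjugate Sylow subgroup. -/
theorem h76_mem_smul {G : Type*} [Group G] (g : G) (P : Sylow 2 G) (y : G) :
    y ∈ ((g • P : Sylow 2 G) : Subgroup G) ↔ g⁻¹ * y * g ∈ (P : Subgroup G) := by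
  rw [Sylow.coe_subgroup_smul, Subgroup.mem_pointwise_smul_iff_inv_smul_mem]
  simp [MulAut.smul_def]

/-- membership in the centralizer of a conjugate Sylow subgroup. -/
theorem mem_cp_smul {G : Type*} [Group G] (g : G) (P : Sylow 2 G) (x : G) :
    x ∈ CP (g • P) ↔ g⁻¹ * x * g ∈ CP P := by
  constructor
  · intro hx
    rw [Subgroup.mem_centralizer_iff] at hx ⊢
    intro y hy
    have hy' : g * y * g⁻¹ ∈ ((g • P : Sylow 2 G) : Subgroup G) := by
      rw [h76_mem_smul]
      have e : g⁻¹ * (g * y * g⁻¹) * g = y := by group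
      rw [e]
      exact hy
    have h1 := hx _ hy'
    calc y * (g⁻¹ * x * g) = g⁻¹ * ((g * y * g⁻¹) * x) * g := by group
      _ = g⁻¹ * (x * (g * y * g⁻¹)) * g := by rw [h1]
      _ = g⁻¹ * x * g * y := by group
  · intro hx
    rw [Subgroup.mem_centralizer_iff] at hx ⊢
    intro y hy
    have hy' : g⁻¹ * y * g ∈ (P : Subgroup G) := (h76_mem_smul g P y).1 hy
    have h1 := hx _ hy'
    calc y * x = g * ((g⁻¹ * y * g) * (g⁻¹ * x * g)) * g⁻¹ := by group
      _ = g * ((g⁻¹ * x * g) * (g⁻¹ * y * g)) * g⁻¹ := by rw [h1]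
      _ = x * y := by group

/-- conjugation preserves the order. -/
theorem h76_orderOf_conj {G : Type*} [Group G] (g x : G) : orderOf (g * x * g⁻¹) = orderOf x := by
  have h := (MulAut.conj g).orderOf_eq x
  rwa [MulAut.conj_apply] at h

/-- conjugation preserves the order. -/
theorem h76_orderOf_conj' {G : Type*} [Group G] (g x : G) : orderOf (g⁻¹ * x * g) = orderOf x := by
  have h := h76_orderOf_conj g⁻¹ x
  rwa [inv_inv] at h

/-- E3a -/
theorem exists_blockStab {G : Type*} [Group G] (P : Sylow 2 G) :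
    ∃ M : Subgroup G, IsBlockStab M P := by
  have key : ∀ g x : G, (x ∈ CP (g • P) ↔ g⁻¹ * x * g ∈ CP P) := fun g x => mem_cp_smul g P x
  refine ⟨{ carrier := {g | ∀ x : G, Odd (orderOf x) → (x ∈ CP (g • P) ↔ x ∈ CP P)}
            mul_mem' := ?_
            one_mem' := ?_
            inv_mem' := ?_ }, fun g => Iff.rfl⟩
  · intro a b ha hb x hx
    rw [key]
    have e : (a * b)⁻¹ * x * (a * b) = b⁻¹ * (a⁻¹ * x * a) * b := by group
    rw [e, ← key b, hb (a⁻¹ * x * a) (by rw [h76_orderOf_conj']; exact hx), ← key a]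
    exact ha x hx
  · intro x _
    rw [one_smul]
  · intro a ha x hx
    rw [key]
    have h := ha (a * x * a⁻¹) (by rw [h76_orderOf_conj]; exact hx)
    rw [key] at h
    have e : a⁻¹ * (a * x * a⁻¹) * a = x := by group
    rw [e] at h
    rw [inv_inv]
    exact h.symm

end Cfsg.Agent.Lib.helper76.AIC
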