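import Mathlib
import Cfsg.Prelude.Def_Involutions
import Cfsg.Agent.Lib.helper42.AICDefs
import Cfsg.Agent.Lib.helper42.AIC_A
import Cfsg.Agent.Lib.helper26.StronglyEmbedded
import Cfsg.Agent.Lib.helper76.AIC_E3a

/-!
S2202 piece E3b (helper76): a proper block stabilizer is strongly embedded.
-/

set_option autoImplicit false

open Cfsg.Agent.Lib.helper42.AIC

namespace Cfsg.Agent.Lib.helper76.AIC

/-- the normalizer of `P` lies in the block stabilizer of `P`. -/
theorem np_le_blockStab {G : Type*} [Group G] (P : Sylow 2 G) (M : Subgroup G)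
    (hM : IsBlockStab M P) : NP P ≤ M := by
  intro g hg
  rw [hM g]
  intro x _
  have h : g • P = P := Sylow.smul_eq_iff_mem_normalizer.mpr hg
  rw [h]

/-- an involution of a subgroup `M ≥ P` lies in an `M`-conjugate of `P`. -/
theorem exists_smul_of_inv_mem {G : Type*} [Group G] [Finite G] (P : Sylow 2 G) (M : Subgroup G)
    (hPM : (P : Subgroup G) ≤ M) {s : G} (hsM : s ∈ M) (hs : orderOf s = 2) :
    ∃ m ∈ M, s ∈ ((m • P : Sylow 2 G) : Subgroup G) := by
  have hp : IsPGroup 2 (Subgroup.zpowers (⟨s, hsM⟩ : M)) := by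
    apply IsPGroup.of_card (n := 1)
    rw [Nat.card_zpowers, Subgroup.orderOf_mk, hs, pow_one]
  obtain ⟨R, hR⟩ := hp.exists_le_sylow
  obtain ⟨m, hm⟩ := MulAction.exists_smul_eq M (P.subtype hPM) R
  have h1 : (⟨s, hsM⟩ : M) ∈ ((m • P.subtype hPM : Sylow 2 M) : Subgroup M) := by
    rw [hm]
    exact hR (Subgroup.mem_zpowers _)
  rw [Cfsg.Agent.Lib.helper42.AIC.mem_smul_sylow] at h1
  rw [Sylow.coe_subtype, Subgroup.mem_subgroupOf] at h1
  refine ⟨(m : G), m.2, ?_⟩
  rw [Cfsg.Agent.Lib.helper42.AIC.mem_smul_sylow]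
  simpa using h1

/-- E3b -/
theorem block_se {G : Type*} [Group G] [Finite G] (hA : AIC G) (hnc : NCyc G) (P : Sylow 2 G)
    (M : Subgroup G) (hM : IsBlockStab M P) (hMtop : M ≠ ⊤) : Cfsg.IsStronglyEmbedded M := by
  have hNP : NP P ≤ M := np_le_blockStab P M hM
  have hPM : (P : Subgroup G) ≤ M := le_trans Subgroup.le_normalizer hNP
  refine ⟨hMtop, ?_, ?_⟩
  · -- `M` has even order
    obtain ⟨n, hn⟩ := IsPGroup.iff_card.mp P.2
    have hn0 : n ≠ 0 := by
      rintro rfl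
      rw [pow_zero] at hn
      apply hnc P
      have : Subsingleton ↥(P : Subgroup G) := (Nat.card_eq_one_iff_unique.mp hn).1
      exact isCyclic_of_subsingleton
    have h2 : 2 ∣ Nat.card (P : Subgroup G) := by
      rw [hn]
      exact dvd_pow_self 2 hn0
    exact (even_iff_two_dvd).mpr (h2.trans (Subgroup.card_dvd_of_le hPM))
  · intro g hg
    by_contra hodd
    rw [Nat.not_odd_iff_even] at hodd
    have h2 : 2 ∣ Nat.card ↥(M ⊓ M.map (MulAut.conj g).toMonoidHom) := even_iff_two_dvd.mp hodd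
    obtain ⟨t', ht'⟩ := exists_prime_orderOf_dvd_card' (G := ↥(M ⊓ M.map (MulAut.conj g).toMonoidHom)) 2 h2
    have ht : orderOf (t' : G) = 2 := by rw [Subgroup.orderOf_coe, ht']
    have htM : (t' : G) ∈ M := (Subgroup.mem_inf.mp t'.2).1
    have htg : g⁻¹ * (t' : G) * g ∈ M :=
      (Cfsg.Agent.Lib.helper26.SE.mem_map_conj_iff M g _).mp (Subgroup.mem_inf.mp t'.2).2
    have ht1 : (t' : G) ≠ 1 := by
      intro h
      rw [h, orderOf_one] at ht
      norm_num at ht
    have ht2 : orderOf (g⁻¹ * (t' : G) * g) = 2 := by rw [h76_orderOf_conj', ht]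
    obtain ⟨m, hm, hmt⟩ := exists_smul_of_inv_mem P M hPM htM ht
    obtain ⟨m', hm', hmt'⟩ := exists_smul_of_inv_mem P M hPM htg ht2
    have hmt2 : (t' : G) ∈ (((g * m') • P : Sylow 2 G) : Subgroup G) := by
      rw [Cfsg.Agent.Lib.helper42.AIC.mem_smul_sylow] at hmt' ⊢
      have e : (g * m')⁻¹ * (t' : G) * (g * m') = m'⁻¹ * (g⁻¹ * (t' : G) * g) * m' := by group
      rw [e]
      exact hmt'
    have heq : m • P = (g * m') • P :=
      Cfsg.Agent.Lib.helper42.AIC.sylow_ti hA hnc (m • P) ((g * m') • P) hmt hmt2 ht1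
    have hfix : (m⁻¹ * (g * m')) • P = P := by
      rw [mul_smul, ← heq, inv_smul_smul]
    have hN : m⁻¹ * (g * m') ∈ M := hNP (Sylow.smul_eq_iff_mem_normalizer.mp hfix)
    apply hg
    have e : g = m * (m⁻¹ * (g * m')) * m'⁻¹ := by group
    rw [e]
    exact M.mul_mem (M.mul_mem hm hN) (M.inv_mem hm')

end Cfsg.Agent.Lib.helper76.AIC
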