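import Mathlib
import Cfsg.Prelude.Def_Involutions
import Cfsg.Agent.Lib.helper42.AICDefs
import Cfsg.Agent.Lib.helper42.AIC_A
import Cfsg.Agent.Lib.helper26.StronglyEmbedded
import Cfsg.Agent.Lib.helper69.AIC_O1
import Cfsg.Agent.Lib.helper76.AIC_E3a

/-!
S2202 piece E3c (helper76): the counting inequality for a strongly embedded block stabilizer.
-/

set_option autoImplicit false

open Cfsg.Agent.Lib.helper42.AIC

namespace Cfsg.Agent.Lib.helper76.AIC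

/-- E3c -/
theorem block_ineq {G : Type*} [Group G] [Finite G] (hA : AIC G) (hnc : NCyc G) (hD : Dich G)
    (P : Sylow 2 G) (M : Subgroup G) (hM : IsBlockStab M P) (hSE : Cfsg.IsStronglyEmbedded M)
    (u : G) (hu : orderOf u = 2) (huM : u ∉ M) :
    Nat.card {t : G // orderOf t = 2 ∧ t ∈ M} *
        Nat.card ↥((M ⊓ M.map (MulAut.conj u).toMonoidHom) ⊓ CP P) ≤
      Nat.card ↥(M ⊓ M.map (MulAut.conj u).toMonoidHom) := by
  classical
  have huu : u * u = 1 := by rw [← pow_two, ← hu, pow_orderOf_eq_one]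
  have hui : u⁻¹ = u := inv_eq_of_mul_eq_one_left huu
  have hodd : Odd (Nat.card ↥(M ⊓ M.map (MulAut.conj u).toMonoidHom)) := hSE.2.2 u huM
  have hmemM₂ : ∀ x : G, x ∈ M ⊓ M.map (MulAut.conj u).toMonoidHom ↔ x ∈ M ∧ u * x * u ∈ M := by
    intro x
    rw [Subgroup.mem_inf, Cfsg.Agent.Lib.helper26.SE.mem_map_conj_iff, hui]
  have hnorm : ∀ d ∈ M ⊓ M.map (MulAut.conj u).toMonoidHom,
      u * d * u⁻¹ ∈ M ⊓ M.map (MulAut.conj u).toMonoidHom := by
    intro d hd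
    rw [hmemM₂] at hd ⊢
    rw [hui]
    refine ⟨hd.2, ?_⟩
    have e : u * (u * d * u) * u = d := by
      calc u * (u * d * u) * u = (u * u) * d * (u * u) := by group
        _ = d := by rw [huu]; group
    rw [e]
    exact hd.1
  have hO1 := Cfsg.Agent.Lib.helper69.AIC.card_inverted (M ⊓ M.map (MulAut.conj u).toMonoidHom)
    hodd u huu hnorm
  -- the inverted elements correspond to the involutions of the coset `u M`
  have hfwd : ∀ d : G, d ∈ M ⊓ M.map (MulAut.conj u).toMonoidHom → u * d * u⁻¹ = d⁻¹ →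
      orderOf (u * d) = 2 ∧ u⁻¹ * (u * d) ∈ M := by
    intro d hdM hd
    rw [hui] at hd
    have hsq : (u * d) ^ 2 = 1 := by
      rw [pow_two]
      calc u * d * (u * d) = (u * d * u) * d := by group
        _ = 1 := by rw [hd]; group
    have hne : u * d ≠ 1 := by
      intro h
      apply huM
      have hdu : d = u := by
        have h' : d = u⁻¹ := eq_inv_of_mul_eq_one_right h
        rw [h', hui]
      rw [← hdu]
      exact ((hmemM₂ d).mp hdM).1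
    refine ⟨orderOf_eq_prime hsq hne, ?_⟩
    have e : u⁻¹ * (u * d) = d := by group
    rw [e]
    exact ((hmemM₂ d).mp hdM).1
  have hbwd : ∀ i : G, orderOf i = 2 → u⁻¹ * i ∈ M →
      u * i ∈ M ⊓ M.map (MulAut.conj u).toMonoidHom ∧ u * (u * i) * u⁻¹ = (u * i)⁻¹ := by
    intro i hi hiM
    have hi2 : i * i = 1 := by rw [← pow_two, ← hi, pow_orderOf_eq_one]
    have hii : i⁻¹ = i := inv_eq_of_mul_eq_one_left hi2
    rw [hui] at hiM
    have e : u * (u * i) * u = (u * i)⁻¹ := by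
      calc u * (u * i) * u = (u * u) * i * u := by group
        _ = i * u := by rw [huu, one_mul]
        _ = i⁻¹ * u⁻¹ := by rw [hii, hui]
        _ = (u * i)⁻¹ := by group
    refine ⟨?_, ?_⟩
    · rw [hmemM₂]
      refine ⟨hiM, ?_⟩
      rw [e]
      exact M.inv_mem hiM
    · rw [hui]
      exact e
  have hinv : Nat.card {d : G // d ∈ M ⊓ M.map (MulAut.conj u).toMonoidHom ∧ u * d * u⁻¹ = d⁻¹} =
      Nat.card {t : G // orderOf t = 2 ∧ t ∈ M} := by
    rw [← Cfsg.Agent.Lib.helper26.SE.card_coset_eq hSE u]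
    apply Nat.card_congr
    refine ⟨fun d => ⟨u * d.1, hfwd d.1 d.2.1 d.2.2⟩, fun i => ⟨u * i.1, hbwd i.1 i.2.1 i.2.2⟩,
      ?_, ?_⟩
    · intro d
      apply Subtype.ext
      show u * (u * d.1) = d.1
      rw [← mul_assoc, huu, one_mul]
    · intro i
      apply Subtype.ext
      show u * (u * i.1) = i.1
      rw [← mul_assoc, huu, one_mul]
  -- elements of `M₂` have odd order
  have hoddM₂ : ∀ e ∈ M ⊓ M.map (MulAut.conj u).toMonoidHom, Odd (orderOf e) := by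
    intro e he
    have h1 : orderOf (⟨e, he⟩ : ↥(M ⊓ M.map (MulAut.conj u).toMonoidHom)) ∣
        Nat.card ↥(M ⊓ M.map (MulAut.conj u).toMonoidHom) := orderOf_dvd_natCard _
    rw [Subgroup.orderOf_mk] at h1
    exact Odd.of_dvd_nat hodd h1
  -- a common element of `M₂`, `C(P)` and `C(u • P)` is trivial
  have hC : ∀ e ∈ M ⊓ M.map (MulAut.conj u).toMonoidHom, e ∈ CP P → e ∈ CP (u • P) → e = 1 := by
    intro e he heP heQ
    by_contra he1
    apply huM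
    rw [hM u]
    intro x hx
    exact ⟨hD (u • P) P ⟨e, he1, hoddM₂ e he, heQ, heP⟩ x hx,
      hD P (u • P) ⟨e, he1, hoddM₂ e he, heP, heQ⟩ x hx⟩
  -- `M` normalizes the odd part of `C(P)`
  have hN1 : ∀ m ∈ M, ∀ k : G, Odd (orderOf k) → k ∈ CP P → m * k * m⁻¹ ∈ CP P := by
    intro m hm k hk hkP
    have h1 := (hM m⁻¹).1 (M.inv_mem hm) k hk
    have h2 := mem_cp_smul m⁻¹ P k
    rw [inv_inv] at h2
    exact h2.mp (h1.mpr hkP)
  -- the corresponding statement for `u • P`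
  have hN2 : ∀ y ∈ M ⊓ M.map (MulAut.conj u).toMonoidHom, ∀ k : G, Odd (orderOf k) → k ∈ CP P →
      y * (u * k * u⁻¹) * y⁻¹ ∈ CP (u • P) := by
    intro y hy k hk hkP
    have hm : u * y * u ∈ M := ((hmemM₂ y).mp hy).2
    have h1 := hN1 (u * y * u) hm k hk hkP
    have h2 := Cfsg.Agent.Lib.helper42.AIC.conj_mem_cp u P h1
    have e : u * ((u * y * u) * k * (u * y * u)⁻¹) * u⁻¹ = y * (u * k * u⁻¹) * y⁻¹ := by
      calc u * ((u * y * u) * k * (u * y * u)⁻¹) * u⁻¹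
          = (u * u) * y * (u * k * u⁻¹) * y⁻¹ * (u⁻¹ * u⁻¹) := by group
        _ = y * (u * k * u⁻¹) * y⁻¹ := by rw [hui, huu]; group
    rw [e] at h2
    exact h2
  -- `x` and `u x u⁻¹` commute
  have hcomm : ∀ x ∈ M ⊓ M.map (MulAut.conj u).toMonoidHom, x ∈ CP P →
      (u * x * u⁻¹) * x = x * (u * x * u⁻¹) := by
    intro x hx hxP
    have hx' := hnorm x hx
    have hxo := hoddM₂ x hx
    have hx'Q : u * x * u⁻¹ ∈ CP (u • P) := Cfsg.Agent.Lib.helper42.AIC.conj_mem_cp u P hxP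
    have hc1 : (u * x * u⁻¹) * x * (u * x * u⁻¹)⁻¹ * x⁻¹ ∈ M ⊓ M.map (MulAut.conj u).toMonoidHom :=
      Subgroup.mul_mem _ (Subgroup.mul_mem _ (Subgroup.mul_mem _ hx' hx) (Subgroup.inv_mem _ hx'))
        (Subgroup.inv_mem _ hx)
    have hc2 : (u * x * u⁻¹) * x * (u * x * u⁻¹)⁻¹ * x⁻¹ ∈ CP P :=
      Subgroup.mul_mem _ (hN1 _ ((hmemM₂ _).mp hx').1 x hxo hxP) (Subgroup.inv_mem _ hxP)
    have hc3 : (u * x * u⁻¹) * x * (u * x * u⁻¹)⁻¹ * x⁻¹ ∈ CP (u • P) := by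
      have e : (u * x * u⁻¹) * x * (u * x * u⁻¹)⁻¹ * x⁻¹ =
          (u * x * u⁻¹) * (x * (u * x * u⁻¹) * x⁻¹)⁻¹ := by group
      rw [e]
      exact Subgroup.mul_mem _ hx'Q (Subgroup.inv_mem _ (hN2 x hx x hxo hxP))
    have h1 := hC _ hc1 hc2 hc3
    have e : (u * x * u⁻¹) * x = ((u * x * u⁻¹) * x * (u * x * u⁻¹)⁻¹ * x⁻¹) * (x * (u * x * u⁻¹)) := by
      group
    rw [e, h1, one_mul]
  -- the injection `x ↦ x * (u x u⁻¹)` into the centralizer of `u`
  have hinj : Nat.card ↥((M ⊓ M.map (MulAut.conj u).toMonoidHom) ⊓ CP P) ≤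
      Nat.card {d : G // d ∈ M ⊓ M.map (MulAut.conj u).toMonoidHom ∧ u * d = d * u} := by
    apply Nat.card_le_card_of_injective
      (fun x : ↥((M ⊓ M.map (MulAut.conj u).toMonoidHom) ⊓ CP P) =>
        (⟨x.1 * (u * x.1 * u⁻¹), Subgroup.mul_mem _ (Subgroup.mem_inf.mp x.2).1
            (hnorm _ (Subgroup.mem_inf.mp x.2).1), by
          have hc := hcomm x.1 (Subgroup.mem_inf.mp x.2).1 (Subgroup.mem_inf.mp x.2).2
          calc u * (x.1 * (u * x.1 * u⁻¹)) = (u * x.1 * u⁻¹) * ((u * u) * x.1 * u⁻¹) := by group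
            _ = (u * x.1 * u⁻¹) * x.1 * u⁻¹ := by rw [huu]; group
            _ = x.1 * (u * x.1 * u⁻¹) * u⁻¹ := by rw [hc]
            _ = x.1 * (u * x.1 * u⁻¹) * u := by rw [hui]⟩ :
          {d : G // d ∈ M ⊓ M.map (MulAut.conj u).toMonoidHom ∧ u * d = d * u}))
    intro x y hxy
    have hxy' : x.1 * (u * x.1 * u⁻¹) = y.1 * (u * y.1 * u⁻¹) := congrArg Subtype.val hxy
    have hx := Subgroup.mem_inf.mp x.2
    have hy := Subgroup.mem_inf.mp y.2
    have he : y.1⁻¹ * x.1 = (u * y.1 * u⁻¹) * (u * x.1 * u⁻¹)⁻¹ := by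
      calc y.1⁻¹ * x.1 = y.1⁻¹ * (x.1 * (u * x.1 * u⁻¹)) * (u * x.1 * u⁻¹)⁻¹ := by group
        _ = y.1⁻¹ * (y.1 * (u * y.1 * u⁻¹)) * (u * x.1 * u⁻¹)⁻¹ := by rw [hxy']
        _ = (u * y.1 * u⁻¹) * (u * x.1 * u⁻¹)⁻¹ := by group
    have h1 : y.1⁻¹ * x.1 ∈ M ⊓ M.map (MulAut.conj u).toMonoidHom :=
      Subgroup.mul_mem _ (Subgroup.inv_mem _ hy.1) hx.1
    have h2 : y.1⁻¹ * x.1 ∈ CP P := Subgroup.mul_mem _ (Subgroup.inv_mem _ hy.2) hx.2
    have h3 : y.1⁻¹ * x.1 ∈ CP (u • P) := by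
      rw [he]
      exact Subgroup.mul_mem _ (Cfsg.Agent.Lib.helper42.AIC.conj_mem_cp u P hy.2)
        (Subgroup.inv_mem _ (Cfsg.Agent.Lib.helper42.AIC.conj_mem_cp u P hx.2))
    have h4 := hC _ h1 h2 h3
    apply Subtype.ext
    have : x.1 = y.1 * (y.1⁻¹ * x.1) := by group
    rw [this, h4, mul_one]
  calc Nat.card {t : G // orderOf t = 2 ∧ t ∈ M} *
        Nat.card ↥((M ⊓ M.map (MulAut.conj u).toMonoidHom) ⊓ CP P)
      ≤ Nat.card {t : G // orderOf t = 2 ∧ t ∈ M} *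
        Nat.card {d : G // d ∈ M ⊓ M.map (MulAut.conj u).toMonoidHom ∧ u * d = d * u} :=
        Nat.mul_le_mul_left _ hinj
    _ = Nat.card ↥(M ⊓ M.map (MulAut.conj u).toMonoidHom) := by rw [← hinv]; exact hO1

end Cfsg.Agent.Lib.helper76.AIC
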