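import Mathlib
import Cfsg.Agent.Lib.helper24.SroReal
import Cfsg.Agent.Lib.helper49.SreNEGM
import Cfsg.Agent.Lib.helper63.SuTI10

/-! S5973 split (helper24), piece R2SB (insurance copy by helper76, prefixed name
`h76_stp_neg_suff`, verbatim statement of `stp_neg_suff`): `q` odd, an isometry `x` of
`Σ xᵢyᵢ` with `x² = -1` fixes a totally singular `m`-space.

* `q ≡ 1 (mod 4)`: a subspace of the `ι₀`-eigenspace (`ι₀² = -1`), which is totally singular of
  dimension `d`.
* `q ≡ 3 (mod 4)`: by helper49's `sre_neg_minus` an invariant nondegenerate `X` of dimension `2e`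
  contains an invariant nondegenerate `N` of dimension `4`, of type `+1`; a singular `v ≠ 0` of
  `N` gives the invariant totally singular plane `⟨v, T v⟩`; recurse in `N^⊥ ∩ X`.  The type
  `(-1)^d` of the whole space is `+1`, so `d` is even and hence `m` is even. -/

set_option autoImplicit false
set_option linter.unusedSectionVars false
set_option linter.unusedVariables false
set_option linter.style.haveILetI false
set_option linter.deprecated false

namespace Cfsg.Agent.Lib.helper24

open Module Cfsg.Agent.Lib.helper45 Cfsg.Agent.Lib.helper49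

universe u

section stpr2sb

variable {F : Type u} [Field F] [Fintype F]

/-- the invariant totally singular plane `⟨v, T v⟩` of a singular `v ≠ 0` -/
theorem h76_stp_plane {V : Type u} [AddCommGroup V] [Module F V] [FiniteDimensional F V]
    (Q : QuadraticForm F V) (h2 : (2 : F) ≠ 0) (T : Module.End F V) (hT : ∀ v, Q (T v) = Q v)
    (hT2 : T * T = -1) (hns : ∀ a : F, a * a ≠ -1) (v : V) (hv : Q v = 0) (hv0 : v ≠ 0) :
    (∀ w ∈ Submodule.span F {v, T v}, Q w = 0) ∧
      finrank F (Submodule.span F {v, T v}) = 2 ∧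
      (∀ w ∈ Submodule.span F {v, T v}, T w ∈ Submodule.span F {v, T v}) := by
  have hTT : ∀ x, T (T x) = -x := by
    intro x
    have h1 := congrArg (fun S : Module.End F V => S x) hT2
    simpa using h1
  have hvT : QuadraticMap.polar Q v (T v) = 0 := by
    have h1 := sr_iso_polar Q T hT v (T v)
    rw [hTT, QuadraticMap.polar_neg_right, QuadraticMap.polar_comm] at h1
    have h3 : (2 : F) * QuadraticMap.polar Q v (T v) = 0 := by linear_combination -h1
    exact (mul_eq_zero.mp h3).resolve_left h2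
  have hsq : ∀ α β : F, α * α + β * β = 0 → α = 0 ∧ β = 0 := by
    intro α β h4
    have hβ : β = 0 := by
      by_contra hβ
      apply hns (α / β)
      field_simp
      linear_combination h4
    rw [hβ] at h4
    have hα : α = 0 := by
      have h5 : α * α = 0 := by linear_combination h4
      exact mul_self_eq_zero.mp h5
    exact ⟨hα, hβ⟩
  refine ⟨?_, ?_, ?_⟩
  · intro w hw
    obtain ⟨α, β, rfl⟩ := Submodule.mem_span_pair.mp hw
    rw [QuadraticMap.map_add (⇑Q), QuadraticMap.map_smul, QuadraticMap.map_smul,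
      QuadraticMap.polar_smul_left, QuadraticMap.polar_smul_right, hvT, hT, hv, smul_eq_mul,
      smul_eq_mul, smul_eq_mul, smul_eq_mul]
    ring
  · have hli : LinearIndependent F ![v, T v] := by
      rw [LinearIndependent.pair_iff]
      intro α β hαβ
      have h1 : α • T v - β • v = 0 := by
        have h3 := congrArg (fun y => T y) hαβ
        simp only [map_add, map_smul, hTT, map_zero, smul_neg] at h3
        rw [← h3]
        abel
      have h4 : (α * α + β * β) • v = 0 := by
        have h5 : (α * α + β * β) • v = α • (α • v + β • T v) - β • (α • T v - β • v) := by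
          rw [smul_add, smul_sub, smul_smul, smul_smul, smul_smul, smul_smul, add_smul,
            mul_comm β α]
          abel
        rw [h5, hαβ, h1, smul_zero, smul_zero, sub_zero]
      exact hsq α β ((smul_eq_zero.mp h4).resolve_right hv0)
    have h := finrank_span_eq_card hli
    rw [Matrix.range_cons_cons_empty] at h
    rw [h]
    rfl
  · intro w hw
    obtain ⟨a, b, rfl⟩ := Submodule.mem_span_pair.mp hw
    rw [map_add, map_smul, map_smul, hTT]
    apply Submodule.mem_span_pair.mpr
    refine ⟨-b, a, ?_⟩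
    rw [neg_smul, smul_neg]
    abel

/-- `-1` a nonsquare: invariant totally singular subspaces of every dimension `2k`, `2k ≤ e`,
inside an invariant nondegenerate subspace of dimension `2e`. -/
theorem h76_stp_neg_ts {V : Type u} [AddCommGroup V] [Module F V] [FiniteDimensional F V]
    (Q : QuadraticForm F V) (h2 : (2 : F) ≠ 0) (T : Module.End F V) (hT : ∀ v, Q (T v) = Q v)
    (hT2 : T * T = -1) (hns : ∀ a : F, a * a ≠ -1) (k : ℕ) :
    ∀ (X : Submodule F V), SpNd (QuadraticMap.polarBilin Q) X → (∀ x ∈ X, T x ∈ X) →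
      ∀ e : ℕ, finrank F X = 2 * e → 2 * k ≤ e →
      ∃ U : Submodule F V, U ≤ X ∧ (∀ u ∈ U, Q u = 0) ∧ (∀ u ∈ U, T u ∈ U) ∧
        finrank F U = 2 * k := by
  have hTT : ∀ x, T (T x) = -x := by
    intro x
    have h1 := congrArg (fun S : Module.End F V => S x) hT2
    simpa using h1
  induction k with
  | zero =>
    intro X hX hXinv e hdim hke
    refine ⟨⊥, bot_le, ?_, ?_, by rw [finrank_bot]⟩
    · intro u hu
      rw [(Submodule.mem_bot F).mp hu, map_zero]
    · intro u hu
      rw [(Submodule.mem_bot F).mp hu, map_zero]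
      exact Submodule.zero_mem _
  | succ k ih =>
    intro X hX hXinv e hdim hke
    obtain ⟨-, hex⟩ := sre_neg_minus Q h2 T hT hT2 hns X hX hXinv e hdim
    obtain ⟨N, hNX, hNnd, hNinv, hNdim⟩ := hex 2 (by omega)
    obtain ⟨hNty, -⟩ := sre_neg_minus Q h2 T hT hT2 hns N hNnd hNinv 2 hNdim
    have hNty1 : SrTy Q N 1 := by
      have e1 : ((-1 : ℤ)) ^ 2 = 1 := by norm_num
      rw [e1] at hNty
      exact hNty
    obtain ⟨U₂, hU₂N, hU₂Q, hU₂dim⟩ := sr_ty_plus Q N hNnd
      (by rw [hNdim]; exact even_two_mul 2) hNty1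
    have hU₂ne : U₂ ≠ ⊥ := by
      intro h
      rw [h, finrank_bot] at hU₂dim
      omega
    obtain ⟨v, hvU, hv0⟩ := Submodule.exists_mem_ne_zero_of_ne_bot hU₂ne
    have hQv : Q v = 0 := hU₂Q v hvU
    have hvN : v ∈ N := hU₂N hvU
    obtain ⟨hPQ, hPdim, hPinv⟩ := h76_stp_plane Q h2 T hT hT2 hns v hQv hv0
    have hPN : Submodule.span F {v, T v} ≤ N := by
      rw [Submodule.span_le]
      intro x hx
      rcases hx with rfl | rfl
      · exact hvN
      · exact hNinv _ hvN
    obtain ⟨hX'nd, hsup, hinf, hdim'⟩ :=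
      so_rel (QuadraticMap.polarBilin Q) (sr_sym Q) X N hX hNnd hNX
    have hX'dim : finrank F ↥(spPerp (QuadraticMap.polarBilin Q) N ⊓ X) = 2 * (e - 2) := by
      omega
    have hX'inv : ∀ x ∈ spPerp (QuadraticMap.polarBilin Q) N ⊓ X,
        T x ∈ spPerp (QuadraticMap.polarBilin Q) N ⊓ X := by
      intro x hx
      rw [Submodule.mem_inf] at hx ⊢
      refine ⟨?_, hXinv x hx.2⟩
      intro u hu
      have hu' : -(T u) ∈ N := Submodule.neg_mem _ (hNinv u hu)
      have h1 := hx.1 _ hu'
      have h3 := sr_iso_bilin Q T hT (-(T u)) x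
      rw [map_neg, hTT, neg_neg] at h3
      rw [h3]
      exact h1
    obtain ⟨U', hU'X', hU'Q, hU'inv, hU'dim⟩ := ih _ hX'nd hX'inv (e - 2) hX'dim (by omega)
    refine ⟨Submodule.span F {v, T v} ⊔ U', ?_, ?_, ?_, ?_⟩
    · exact sup_le (hPN.trans hNX) (hU'X'.trans inf_le_right)
    · intro w hw
      obtain ⟨p, hp, u', hu', rfl⟩ := Submodule.mem_sup.mp hw
      have h1 : QuadraticMap.polar Q p u' = 0 := by
        have := (Submodule.mem_inf.mp (hU'X' hu')).1 p (hPN hp)
        rwa [QuadraticMap.polarBilin_apply_apply] at this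
      rw [QuadraticMap.map_add (⇑Q), hPQ p hp, hU'Q u' hu', h1]
      ring
    · intro w hw
      obtain ⟨p, hp, u', hu', rfl⟩ := Submodule.mem_sup.mp hw
      rw [map_add]
      exact Submodule.add_mem_sup (hPinv p hp) (hU'inv u' hu')
    · have hdisj : Submodule.span F {v, T v} ⊓ U' = ⊥ := by
        rw [eq_bot_iff, ← hinf]
        exact inf_le_inf hPN hU'X'
      have h1 := Submodule.finrank_sup_add_finrank_inf_eq (Submodule.span F {v, T v}) U'
      rw [hdisj, finrank_bot, add_zero, hPdim, hU'dim] at h1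
      omega

end stpr2sb

section stpplus

variable {F : Type u} [Field F] [Fintype F]

/-- PIECE R2SB (verbatim statement of `stp_neg_suff`, prefixed name). -/
theorem h76_stp_neg_suff (hodd : Odd (Fintype.card F)) (d m : ℕ) (hd : 4 ≤ d) (hm : 1 ≤ m)
    (hmd : m < d) (hcond : Fintype.card F % 4 = 1 ∨ (m + 2 ≤ d ∧ (Even m ∨ Odd d)))
    (x : GL (Fin d ⊕ Fin d) F)
    (hiso : ∀ u : Fin d ⊕ Fin d → F, Cfsg.quadFormPlus d F
      ((x : Matrix (Fin d ⊕ Fin d) (Fin d ⊕ Fin d) F).mulVec u) = Cfsg.quadFormPlus d F u)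
    (hx2 : (x : Matrix (Fin d ⊕ Fin d) (Fin d ⊕ Fin d) F) *
      (x : Matrix (Fin d ⊕ Fin d) (Fin d ⊕ Fin d) F) = -1) :
    ∃ W : Submodule F (Fin d ⊕ Fin d → F), finrank F W = m ∧
      (∀ w ∈ W, Cfsg.quadFormPlus d F w = 0) ∧
      W.map (Matrix.toLin' (x : Matrix (Fin d ⊕ Fin d) (Fin d ⊕ Fin d) F)) ≤ W := by
  classical
  have h2 : (2 : F) ≠ 0 := by
    intro h
    have hdvd : ringChar F ∣ 2 := by
      apply (ringChar.spec F 2).mp
      exact_mod_cast h
    have hprime : (ringChar F).Prime := CharP.char_is_prime F (ringChar F)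
    have hchar : ringChar F = 2 := (Nat.prime_dvd_prime_iff_eq hprime Nat.prime_two).mp hdvd
    have h3 := FiniteField.even_card_iff_char_two.mp hchar
    obtain ⟨c, hc⟩ := hodd
    omega
  obtain ⟨Q, hQ⟩ : ∃ Q : QuadraticForm F (Fin d ⊕ Fin d → F), Q = plusForm d F := ⟨_, rfl⟩
  have hQc : ∀ v, Q v = Cfsg.quadFormPlus d F v := fun v => by rw [hQ]; rfl
  obtain ⟨T, hTdef⟩ : ∃ T : Module.End F (Fin d ⊕ Fin d → F),
      T = Matrix.toLin' (x : Matrix (Fin d ⊕ Fin d) (Fin d ⊕ Fin d) F) := ⟨_, rfl⟩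
  have hT : ∀ v, Q (T v) = Q v := by
    intro v
    rw [hQc, hQc, hTdef, Matrix.toLin'_apply]
    exact hiso v
  have hTT : ∀ v, T (T v) = -v := by
    intro v
    rw [hTdef, Matrix.toLin'_apply, Matrix.toLin'_apply, Matrix.mulVec_mulVec, hx2,
      Matrix.neg_mulVec, Matrix.one_mulVec]
  have hT2 : T * T = -1 := by
    apply LinearMap.ext
    intro v
    rw [Module.End.mul_apply, hTT]
    rfl
  have hnd : ∀ v, (∀ w, QuadraticMap.polar Q v w = 0) → v = 0 := by
    rw [hQ]
    exact forall_of_nondegenerate _ (Cfsg.Agent.Lib.helper42.plusForm_nondegenerate d)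
  have hTop : SpNd (QuadraticMap.polarBilin Q) ⊤ := by
    intro u _ hu
    apply hnd u
    intro w
    have := hu w Submodule.mem_top
    rwa [QuadraticMap.polarBilin_apply_apply] at this
  have hdimtop : finrank F (⊤ : Submodule F (Fin d ⊕ Fin d → F)) = 2 * d := by
    rw [finrank_top, Module.finrank_fintype_fun_eq_card, Fintype.card_sum, Fintype.card_fin]
    omega
  suffices h : ∃ W : Submodule F (Fin d ⊕ Fin d → F), finrank F W = m ∧ (∀ w ∈ W, Q w = 0) ∧
      ∀ w ∈ W, T w ∈ W by
    obtain ⟨W, h1, h3, h4⟩ := h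
    refine ⟨W, h1, fun w hw => by rw [← hQc]; exact h3 w hw, ?_⟩
    rintro _ ⟨w, hw, rfl⟩
    rw [← hTdef]
    exact h4 w hw
  by_cases h4 : Fintype.card F % 4 = 3
  · have hns : ∀ a : F, a * a ≠ -1 := by
      intro a ha
      exact FiniteField.isSquare_neg_one_iff.mp ⟨a, ha.symm⟩ h4
    obtain ⟨hty, -⟩ := sre_neg_minus Q h2 T hT hT2 hns ⊤ hTop (fun _ _ => Submodule.mem_top) d
      hdimtop
    have hplus : SrTy Q ⊤ 1 := by
      unfold SrTy
      rw [sro_nu_top, hdimtop, one_mul, Nat.mul_div_cancel_left d (by norm_num), hQ]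
      exact unif_plus_std d
    have hdeven : Even d := by
      by_contra hne
      have hodd' : Odd d := Nat.not_even_iff_odd.mp hne
      unfold SrTy at hty hplus
      have h5 := Unif.unique hty hplus
      rw [hodd'.neg_one_pow] at h5
      have hq : (Fintype.card F : ℤ) ^ (finrank F (⊤ : Submodule F (Fin d ⊕ Fin d → F)) / 2)
          ≠ 0 := pow_ne_zero _ (by exact_mod_cast Fintype.card_ne_zero)
      apply hq
      linarith
    have hmeven : Even m := by
      rcases hcond with h | ⟨-, h | h⟩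
      · omega
      · exact h
      · exact absurd hdeven (Nat.not_even_iff_odd.mpr h)
    obtain ⟨k, hk⟩ := hmeven
    obtain ⟨U, -, hUQ, hUinv, hUdim⟩ := h76_stp_neg_ts Q h2 T hT hT2 hns k ⊤ hTop
      (fun _ _ => Submodule.mem_top) d hdimtop (by omega)
    exact ⟨U, by omega, hUQ, hUinv⟩
  · obtain ⟨ι₀, hι⟩ := FiniteField.isSquare_neg_one_iff.mpr h4
    have hι₀ : ι₀ * ι₀ = -1 := hι.symm
    have hι0 : ι₀ ≠ 0 := by
      rintro rfl
      rw [mul_zero] at hι₀
      exact one_ne_zero (neg_eq_zero.mp hι₀.symm)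
    obtain ⟨Wp, hWp⟩ : ∃ Wp : Submodule F (Fin d ⊕ Fin d → F),
        Wp = LinearMap.ker (T - ι₀ • (1 : Module.End F (Fin d ⊕ Fin d → F))) := ⟨_, rfl⟩
    obtain ⟨Wm, hWm⟩ : ∃ Wm : Submodule F (Fin d ⊕ Fin d → F),
        Wm = LinearMap.ker (T + ι₀ • (1 : Module.End F (Fin d ⊕ Fin d → F))) := ⟨_, rfl⟩
    have hp : ∀ w ∈ Wp, T w = ι₀ • w := by
      intro w hw
      rw [hWp, LinearMap.mem_ker, LinearMap.sub_apply, LinearMap.smul_apply,
        Module.End.one_apply, sub_eq_zero] at hw
      exact hw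
    have hm' : ∀ w ∈ Wm, T w = -(ι₀ • w) := by
      intro w hw
      rw [hWm, LinearMap.mem_ker, LinearMap.add_apply, LinearMap.smul_apply,
        Module.End.one_apply] at hw
      exact eq_neg_of_add_eq_zero_left hw
    have hQp : ∀ w ∈ Wp, Q w = 0 := by
      intro w hw
      have h1 := hT w
      rw [hp w hw, QuadraticMap.map_smul, hι₀, smul_eq_mul] at h1
      have h3 : (2 : F) * Q w = 0 := by linear_combination -h1
      exact (mul_eq_zero.mp h3).resolve_left h2
    have hQm : ∀ w ∈ Wm, Q w = 0 := by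
      intro w hw
      have h1 := hT w
      rw [hm' w hw, QuadraticMap.map_neg, QuadraticMap.map_smul, hι₀, smul_eq_mul] at h1
      have h3 : (2 : F) * Q w = 0 := by linear_combination -h1
      exact (mul_eq_zero.mp h3).resolve_left h2
    have hinf : Wp ⊓ Wm = ⊥ := by
      rw [eq_bot_iff]
      intro w hw
      obtain ⟨hw1, hw2⟩ := Submodule.mem_inf.mp hw
      have h1 := hp w hw1
      have h3 := hm' w hw2
      have h5 : ((2 : F) * ι₀) • w = 0 := by
        rw [mul_smul, two_smul]
        have h6 : ι₀ • w = -(ι₀ • w) := h1.symm.trans h3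
        calc ι₀ • w + ι₀ • w = -(ι₀ • w) + ι₀ • w := by rw [← h6]
          _ = 0 := neg_add_cancel _
      rw [Submodule.mem_bot]
      exact (smul_eq_zero.mp h5).resolve_left (mul_ne_zero h2 hι0)
    have hsup : Wp ⊔ Wm = ⊤ := by
      rw [eq_top_iff]
      intro w _
      have e : w = (2 : F)⁻¹ • (w - ι₀ • T w) + (2 : F)⁻¹ • (w + ι₀ • T w) := by
        rw [← smul_add]
        have h5 : w - ι₀ • T w + (w + ι₀ • T w) = (2 : F) • w := by rw [two_smul]; abel
        rw [h5, smul_smul, inv_mul_cancel₀ h2, one_smul]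
      rw [e]
      apply Submodule.add_mem_sup
      · apply Submodule.smul_mem
        rw [hWp, LinearMap.mem_ker, LinearMap.sub_apply, LinearMap.smul_apply,
          Module.End.one_apply, map_sub, map_smul, hTT, smul_sub, smul_smul, hι₀]
        simp only [smul_neg, neg_smul, one_smul, sub_neg_eq_add]
        abel
      · apply Submodule.smul_mem
        rw [hWm, LinearMap.mem_ker, LinearMap.add_apply, LinearMap.smul_apply,
          Module.End.one_apply, map_add, map_smul, hTT, smul_add, smul_smul, hι₀]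
        simp only [smul_neg, neg_smul, one_smul]
        abel
    have hdim := Submodule.finrank_sup_add_finrank_inf_eq Wp Wm
    rw [hsup, hinf, finrank_bot, add_zero, hdimtop] at hdim
    have hts : ∀ (U : Submodule F (Fin d ⊕ Fin d → F)), (∀ u ∈ U, Q u = 0) →
        ∀ u ∈ U, ∀ v ∈ U, QuadraticMap.polarBilin Q u v = 0 := by
      intro U hU u hu v hv
      rw [QuadraticMap.polarBilin_apply_apply]
      unfold QuadraticMap.polar
      rw [hU u hu, hU v hv, hU (u + v) (U.add_mem hu hv)]
      ring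
    have h1 := sq_ti_le (QuadraticMap.polarBilin Q) ⊤ Wp hTop le_top (hts Wp hQp)
    have h3 := sq_ti_le (QuadraticMap.polarBilin Q) ⊤ Wm hTop le_top (hts Wm hQm)
    rw [hdimtop] at h1 h3
    have hWpdim : finrank F Wp = d := by omega
    obtain ⟨W, hWle, hWdim⟩ := Cfsg.Agent.Lib.helper63.SuTI.exists_sub_finrank Wp m
      (by rw [hWpdim]; omega)
    refine ⟨W, hWdim, fun w hw => hQp w (hWle hw), ?_⟩
    intro w hw
    rw [hp w (hWle hw)]
    exact W.smul_mem _ hw

end stpplus

end Cfsg.Agent.Lib.helper24
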