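import Mathlib
import Cfsg.Agent.Lib.helper24.SroReal

/-! S5988 split (helper99), piece REAL, core: the characteristic-free clone of helper24's
`sro_real` (realisation of elements of odd prime order in `Ω(Q)`, `Q` of even dimension), with
the pieces FREE (`sre_free_model`) and OMG (`sre_omega_of_odd`) as hypotheses. -/

set_option autoImplicit false
set_option linter.unusedSectionVars false
set_option linter.unusedVariables false
set_option linter.style.haveILetI false
set_option linter.deprecated false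

namespace Cfsg.Agent.Lib.helper76

open Module Cfsg.Agent.Lib.helper24 Cfsg.Agent.Lib.helper45 Cfsg.Agent.Lib.helper49

universe u

section srereal

variable {F : Type u} [Field F] [Fintype F]

/-- Characteristic-free transfer of an abstract isometry `T` of `(V, Q')` with `T ^ r = 1` to
`Ω(Q)` along an isometry `φ : (V, Q') ≃ (ι → F, Q)`, given that the isometries `g` of `Q` with
`g ^ r = 1` lie in `Ω(Q)`. -/
theorem h76_sre_transfer {ι : Type} [Fintype ι] [DecidableEq ι] (Q : QuadraticForm F (ι → F))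
    (r : ℕ)
    (hOMG : ∀ g : GL ι F, g ∈ Cfsg.isometryGroup F ⇑Q → g ^ r = 1 → g ∈ Cfsg.Geo.omegaGL ⇑Q)
    (hr : r.Prime)
    {V : Type u} [AddCommGroup V] [Module F V] [FiniteDimensional F V]
    (Q' : QuadraticForm F V) (T : Module.End F V) (hiso : ∀ v, Q' (T v) = Q' v)
    (hTr : T ^ r = 1) (φ : V ≃ₗ[F] (ι → F)) (hφ : ∀ v, Q (φ v) = Q' v) :
    ∃ g : GL ι F, g ∈ Cfsg.Geo.omegaGL ⇑Q ∧ g ^ r = 1 ∧
      ∀ j : ℕ, finrank F (LinearMap.ker ((Matrix.toLin' (g : Matrix ι ι F) - 1) ^ j)) =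
        finrank F (LinearMap.ker ((T - 1) ^ j)) := by
  classical
  obtain ⟨T', hT'⟩ : ∃ T' : Module.End F V, T' = T ^ (r - 1) := ⟨_, rfl⟩
  have hTT' : T * T' = 1 := by rw [hT', ← pow_succ', Nat.sub_add_cancel hr.one_le, hTr]
  have hT'T : T' * T = 1 := by rw [hT', ← pow_succ, Nat.sub_add_cancel hr.one_le, hTr]
  obtain ⟨L, hL⟩ : ∃ L : Module.End F (ι → F),
      L = φ.toLinearMap ∘ₗ T ∘ₗ φ.symm.toLinearMap := ⟨_, rfl⟩
  obtain ⟨L', hL'⟩ : ∃ L' : Module.End F (ι → F),
      L' = φ.toLinearMap ∘ₗ T' ∘ₗ φ.symm.toLinearMap := ⟨_, rfl⟩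
  have hLx : ∀ x, L x = φ (T (φ.symm x)) := fun x => by rw [hL]; rfl
  have hL'x : ∀ x, L' x = φ (T' (φ.symm x)) := fun x => by rw [hL']; rfl
  have hLL' : L * L' = 1 := by
    apply LinearMap.ext
    intro x
    rw [Module.End.mul_apply, hLx, hL'x, LinearEquiv.symm_apply_apply,
      sq_inv_apply T T' hTT', LinearEquiv.apply_symm_apply, Module.End.one_apply]
  have hL'L : L' * L = 1 := by
    apply LinearMap.ext
    intro x
    rw [Module.End.mul_apply, hLx, hL'x, LinearEquiv.symm_apply_apply,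
      sq_inv_apply T' T hT'T, LinearEquiv.apply_symm_apply, Module.End.one_apply]
  obtain ⟨g, hg⟩ : ∃ g : GL ι F, (g : Matrix ι ι F) = LinearMap.toMatrix' L :=
    ⟨⟨LinearMap.toMatrix' L, LinearMap.toMatrix' L',
      by rw [← LinearMap.toMatrix'_mul, hLL', LinearMap.toMatrix'_one],
      by rw [← LinearMap.toMatrix'_mul, hL'L, LinearMap.toMatrix'_one]⟩, rfl⟩
  have hgL : Matrix.toLin' (g : Matrix ι ι F) = L := by
    rw [hg, Matrix.toLin'_toMatrix']
  have hLφ : ∀ v, L (φ v) = φ (T v) := by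
    intro v
    rw [hLx, LinearEquiv.symm_apply_apply]
  have hpowL : ∀ (m : ℕ) (v : V), (L ^ m) (φ v) = φ ((T ^ m) v) := by
    intro m
    induction m with
    | zero =>
      intro v
      simp
    | succ m ih =>
      intro v
      rw [pow_succ, Module.End.mul_apply, hLφ, ih, pow_succ, Module.End.mul_apply]
  have hLp : L ^ r = 1 := by
    apply LinearMap.ext
    intro x
    obtain ⟨v, rfl⟩ := φ.surjective x
    rw [hpowL, hTr]
    rfl
  have hpowM : ∀ m : ℕ, (LinearMap.toMatrix' L) ^ m = LinearMap.toMatrix' (L ^ m) := by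
    intro m
    induction m with
    | zero => rw [pow_zero, pow_zero, LinearMap.toMatrix'_one]
    | succ m ih => rw [pow_succ, ih, pow_succ, LinearMap.toMatrix'_mul]
  have hgp : g ^ r = 1 := by
    apply Units.ext
    rw [Units.val_pow_eq_pow_val, Units.val_one, hg, hpowM, hLp, LinearMap.toMatrix'_one]
  have key : ∀ x : ι → F, Q ((g : Matrix ι ι F).mulVec x) = Q x := by
    intro x
    obtain ⟨v, rfl⟩ := φ.surjective x
    have h3 : (g : Matrix ι ι F).mulVec (φ v) = φ (T v) := by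
      rw [← Matrix.toLin'_apply, hgL, hLφ]
    rw [h3, hφ, hφ, hiso]
  have hgiso : g ∈ Cfsg.isometryGroup F ⇑Q := fun u _ => key u
  refine ⟨g, hOMG g hgiso hgp, hgp, fun j => ?_⟩
  rw [hgL]
  exact sq_conj_ker φ T L hLφ j

/-- REAL core: `sre_real` with the pieces FREE and OMG as hypotheses. -/
theorem h76_sre_real_core {ι : Type} [Fintype ι] [DecidableEq ι] (p f' : ℕ)
    [Fact p.Prime] (hF : Fintype.card F = p ^ f') (r : ℕ) [Fact r.Prime]
    (hpr : p.Coprime r)
    (hr2 : r ≠ 2) (i c : ℕ) (hi : i = orderOf ((Fintype.card F : ℕ) : ZMod r))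
    (hc : c = if Even i then i else 2 * i)
    (hFREE : ∀ A : ℕ, ∃ (R : Type u) (_ : AddCommGroup R) (_ : Module F R)
      (_ : FiniteDimensional F R) (Qs : QuadraticForm F R) (Ts : Module.End F R),
      (∀ v, (∀ w, QuadraticMap.polar Qs v w = 0) → v = 0) ∧ (∀ v, Qs (Ts v) = Qs v) ∧
      Ts ^ r = 1 ∧ LinearMap.ker (Ts - 1) = ⊥ ∧ finrank F R = c * A)
    (Q : QuadraticForm F (ι → F)) (hnd : ∀ v, (∀ w, QuadraticMap.polar Q v w = 0) → v = 0)
    (hOMG : ∀ g : GL ι F, g ∈ Cfsg.isometryGroup F ⇑Q → g ^ r = 1 → g ∈ Cfsg.Geo.omegaGL ⇑Q)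
    (n' : ℕ) (hn' : 1 ≤ n') (hι : Fintype.card ι = 2 * n') (ε : ℤ) (hε : ε = 1 ∨ ε = -1)
    (hty : Unif (ε * (Fintype.card F : ℤ) ^ n') (fun a : F => Nat.card {v : ι → F // Q v = a}))
    (hcn : c ≤ 2 * n')
    (hk0 : (2 * n') % c = 0 →
      ((ε : ℤ) : ZMod r) * ((Fintype.card F : ℕ) : ZMod r) ^ n' = 1) :
    ∃ g : GL ι F, g ∈ Cfsg.Geo.omegaGL ⇑Q ∧ g ^ r = 1 ∧
      finrank F (LinearMap.ker (Matrix.toLin' (g : Matrix ι ι F) - 1)) = (2 * n') % c := by
  classical
  have hr : r.Prime := Fact.out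
  have hq0 := el_card_ne_zero p f' hF r hpr
  have hcev : Even c := sr_c_even p f' hF r hpr hr2 i c hi hc
  have hc1 := srf_c_pos p f' hF r hpr hr2 i c hi hc
  obtain ⟨e, he⟩ := hcev
  have hce : c = 2 * e := by omega
  obtain ⟨A, hA⟩ : ∃ A, A = (2 * n') / c := ⟨_, rfl⟩
  obtain ⟨s, hs⟩ : ∃ s, s = (2 * n') % c := ⟨_, rfl⟩
  have hdiv : c * A + s = 2 * n' := by
    rw [hA, hs]
    exact Nat.div_add_mod _ _
  rw [← hs] at hk0 ⊢
  have hcA : c * A = 2 * (e * A) := by rw [hce]; ring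
  obtain ⟨s', hs'⟩ : ∃ s', s = 2 * s' := ⟨n' - e * A, by omega⟩
  have hn'eq : n' = e * A + s' := by omega
  obtain ⟨R, _, _, _, Qs, Ts, hQsnd, hQsT, hTsr, hker0, hRdim⟩ :=
    hFREE A
  have hTopnd : SpNd (QuadraticMap.polarBilin Qs) ⊤ := by
    intro u _ hu
    apply hQsnd u
    intro w
    have := hu w Submodule.mem_top
    rwa [QuadraticMap.polarBilin_apply_apply] at this
  obtain ⟨δ, hδ, hRty, hδq⟩ := sr_ty_free Qs Ts hQsT p f' hF r hpr hr2 hTsr ⊤ hTopnd
    (fun _ _ => Submodule.mem_top) (by rw [hker0, bot_inf_eq]) (e * A)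
    (by rw [finrank_top, hRdim, hcA])
  have hRu : Unif (δ * (Fintype.card F : ℤ) ^ (e * A))
      (fun a : F => Nat.card {v : R // Qs v = a}) := by
    have h3 := hRty
    unfold SrTy at h3
    rw [sro_nu_top, finrank_top, hRdim, hcA, Nat.mul_div_cancel_left _ (by norm_num)] at h3
    exact h3
  have hδK : δ * ε = 1 ∨ δ * ε = -1 := by
    rcases hδ with rfl | rfl <;> rcases hε with rfl | rfl <;> simp
  have hsK : δ * ε = -1 → 1 ≤ s' := by
    intro hneg
    by_contra h0
    have hs0 : s = 0 := by omega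
    have h3 := hk0 hs0
    have hn : n' = e * A := by omega
    rw [hn] at h3
    have hqinv : ((Fintype.card F : ℕ) : ZMod r) ^ (e * A) ≠ 0 := pow_ne_zero _ hq0
    have h4 : ((δ : ℤ) : ZMod r) = ((ε : ℤ) : ZMod r) := by
      apply mul_right_cancel₀ hqinv
      rw [hδq, h3]
    have h5 := sr_pm_eq r hr2 δ ε hδ hε h4
    rw [h5] at hneg
    rcases hε with rfl | rfl <;> norm_num at hneg
  obtain ⟨K, _, _, _, QK, hQKnd, hKdim, hKu⟩ := sro_model (F := F) (δ * ε) hδK s' hsK
  obtain ⟨Q', hQ'⟩ : ∃ Q' : QuadraticForm F (R × K), Q' = Qs.prod QK := ⟨_, rfl⟩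
  have hQ'a : ∀ v : R × K, Q' v = Qs v.1 + QK v.2 := by
    intro v
    rw [hQ']
    rfl
  have hpol' : ∀ u v : R × K, QuadraticMap.polar Q' u v =
      QuadraticMap.polar Qs u.1 v.1 + QuadraticMap.polar QK u.2 v.2 := by
    intro u v
    unfold QuadraticMap.polar
    rw [hQ'a, hQ'a, hQ'a]
    simp only [Prod.fst_add, Prod.snd_add]
    ring
  have hQ'nd : ∀ v, (∀ w, QuadraticMap.polar Q' v w = 0) → v = 0 := by
    intro v hv
    have h1 : v.1 = 0 := by
      apply hQsnd
      intro w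
      have := hv (w, 0)
      rw [hpol'] at this
      simpa using this
    have h3 : v.2 = 0 := by
      apply hQKnd
      intro w
      have := hv (0, w)
      rw [hpol'] at this
      simpa using this
    exact Prod.ext h1 h3
  haveI : Finite R := Module.finite_of_finite F
  haveI : Finite K := Module.finite_of_finite F
  have hQ'u : Unif (ε * (Fintype.card F : ℤ) ^ n')
      (fun a : F => Nat.card {v : R × K // Q' v = a}) := by
    have h5 := Unif.conv hRu hKu
    have h6 : (fun a : F => Nat.card {v : R × K // Q' v = a}) =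
        vconv (fun a : F => Nat.card {v : R // Qs v = a})
          (fun a : F => Nat.card {v : K // QK v = a}) := by
      funext a
      unfold vconv
      rw [← card_prod_fiber (fun v : R => Qs v) (fun v : K => QK v) a]
      apply Nat.card_congr
      exact Equiv.subtypeEquiv (Equiv.refl _) (fun v => by rw [hQ'a]; rfl)
    rw [h6]
    have h7 : δ * (Fintype.card F : ℤ) ^ (e * A) * (δ * ε * (Fintype.card F : ℤ) ^ s') =
        ε * (Fintype.card F : ℤ) ^ n' := by
      rw [hn'eq, pow_add]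
      have hδ2 : δ * δ = 1 := by rcases hδ with rfl | rfl <;> norm_num
      linear_combination (ε * (Fintype.card F : ℤ) ^ (e * A) * (Fintype.card F : ℤ) ^ s') * hδ2
    rw [← h7]
    exact h5
  have hdim' : finrank F (R × K) = 2 * n' := by
    rw [Module.finrank_prod, hRdim, hKdim]
    omega
  have hdimι : finrank F (ι → F) = 2 * n' := by
    rw [Module.finrank_fintype_fun_eq_card, hι]
  obtain ⟨φ, hφ⟩ := sro_unif_iso Q' Q hQ'nd hnd n' hdim' hdimι _ hQ'u hty
  obtain ⟨T', hT'⟩ : ∃ T' : Module.End F (R × K), T' = LinearMap.prodMap Ts 1 := ⟨_, rfl⟩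
  have hT'iso : ∀ v, Q' (T' v) = Q' v := by
    intro v
    rw [hQ'a, hQ'a, hT']
    simp only [LinearMap.prodMap_apply, Module.End.one_apply]
    rw [hQsT]
  have hT'r : T' ^ r = 1 := by
    rw [hT', prodMap_pow, hTsr, one_pow]
    exact LinearMap.prodMap_one
  have hkerT' : finrank F (LinearMap.ker (T' - 1)) = s := by
    have hsub : T' - 1 = LinearMap.prodMap (Ts - 1) (0 : Module.End F K) := by
      rw [hT']
      apply LinearMap.ext
      rintro ⟨a, b⟩
      simp
    rw [hsub, sq_ker_prod, hker0, finrank_bot, LinearMap.ker_zero, finrank_top, hKdim, zero_add,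
      hs']
  obtain ⟨g, hgΩ, hgr, hgker⟩ := h76_sre_transfer Q r hOMG hr Q' T' hT'iso hT'r φ hφ
  refine ⟨g, hgΩ, hgr, ?_⟩
  have h9 := hgker 1
  rw [pow_one, pow_one] at h9
  rw [h9, hkerT']

end srereal

end Cfsg.Agent.Lib.helper76
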