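import Mathlib

/-! S5973 split (helper24), piece ORTHM: from a symplectic space `(V, ω)` with an isometry `a` of
odd prime order `r` without fixed vectors to a quadratic form on the same space,
`Q u = ω ((1 - a)⁻¹ u) u`, in every characteristic. -/

set_option autoImplicit false
set_option linter.unusedSectionVars false
set_option linter.unusedVariables false

namespace Cfsg.Agent.Lib.helper24

open Module

universe u

section stpgeneric

variable {F : Type u} [Field F] [Fintype F]

/-- PIECE ORTHM. -/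
theorem stp_orth_model (r : ℕ) (hr : r.Prime) (hr2 : r ≠ 2)
    {V : Type u} [AddCommGroup V] [Module F V] [FiniteDimensional F V]
    (ω : V →ₗ[F] V →ₗ[F] F) (a b : Module.End F V)
    (halt : ∀ v, ω v v = 0) (hnd : ∀ v, (∀ w, ω v w = 0) → v = 0)
    (hiso : ∀ v w, ω (a v) (a w) = ω v w) (hab : a * b = 1) (har : a ^ r = 1)
    (hfix : ∀ v, a v = v → v = 0) :
    ∃ Q : QuadraticForm F V, (∀ v, (∀ w, QuadraticMap.polar Q v w = 0) → v = 0) ∧
      (∀ v, Q (a v) = Q v) ∧
      ∀ X : Submodule F V, (∀ x ∈ X, Q x = 0) → (∀ x ∈ X, a x ∈ X) →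
        ∀ u ∈ X, ∀ v ∈ X, ω u v = 0 := by
  classical
  have hskew : ∀ u v, ω u v = -ω v u := by
    intro u v
    have h := halt (u + v)
    simp only [map_add, LinearMap.add_apply, halt, zero_add, add_zero] at h
    exact eq_neg_of_add_eq_zero_right h
  obtain ⟨f, hf⟩ : ∃ f : V →ₗ[F] V, ∀ x, f x = x - a x :=
    ⟨LinearMap.id - a, fun x => rfl⟩
  have hinj : Function.Injective f := by
    rw [injective_iff_map_eq_zero]
    intro v hv
    apply hfix
    rw [hf, sub_eq_zero] at hv
    exact hv.symm
  have hbij : Function.Bijective f := ⟨hinj, LinearMap.surjective_of_injective hinj⟩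
  obtain ⟨e, he⟩ : ∃ e : V ≃ₗ[F] V, ∀ x, e x = x - a x :=
    ⟨LinearEquiv.ofBijective f hbij, fun x => by
      rw [LinearEquiv.ofBijective_apply, hf]⟩
  have hes : ∀ u, e.symm u - a (e.symm u) = u := fun u => by
    rw [← he, LinearEquiv.apply_symm_apply]
  have hse : ∀ x, e.symm (x - a x) = x := fun x => by
    rw [← he, LinearEquiv.symm_apply_apply]
  have hca : ∀ u, e.symm (a u) = a (e.symm u) := by
    intro u
    apply e.injective
    rw [LinearEquiv.apply_symm_apply, he, ← map_sub, hes]
  have hrodd : Odd r := hr.odd_of_ne_two hr2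
  have hneg : ∀ x, a x = -x → x = 0 := by
    intro x hx
    have hpow : ∀ k : ℕ, (a ^ k) x = (-1 : F) ^ k • x := by
      intro k
      induction k with
      | zero => rw [pow_zero, pow_zero, Module.End.one_apply, one_smul]
      | succ k ih =>
        rw [pow_succ, Module.End.mul_apply, hx, map_neg, ih, pow_succ, mul_neg_one, neg_smul]
    have h1 := hpow r
    rw [har, Module.End.one_apply, hrodd.neg_one_pow, neg_one_smul] at h1
    apply hfix
    rw [hx]
    exact h1.symm
  obtain ⟨Q, hQ⟩ : ∃ Q : QuadraticForm F V,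
      Q = LinearMap.BilinMap.toQuadraticMap (ω.comp (e.symm : V →ₗ[F] V)) := ⟨_, rfl⟩
  have hQa : ∀ u, Q u = ω (e.symm u) u := by
    intro u
    rw [hQ, LinearMap.BilinMap.toQuadraticMap_apply]
    rfl
  have key : ∀ x y, ω x (y - a y) + ω y (x - a x) = ω (x + a x) (y - a y) := by
    intro x y
    simp only [map_sub, map_add, LinearMap.add_apply]
    linear_combination (hskew y x) - (hskew y (a x)) + (hiso x y)
  have hpol : ∀ u v, QuadraticMap.polar Q u v = ω (e.symm u + a (e.symm u)) v := by
    intro u v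
    rw [hQ, LinearMap.BilinMap.polar_toQuadraticMap]
    show ω (e.symm u) v + ω (e.symm v) u = _
    have h := key (e.symm u) (e.symm v)
    rw [hes, hes] at h
    exact h
  refine ⟨Q, ?_, ?_, ?_⟩
  · intro v hv
    have h1 : e.symm v + a (e.symm v) = 0 := hnd _ (fun w => by rw [← hpol]; exact hv w)
    have h2 : e.symm v = 0 := hneg _ (eq_neg_of_add_eq_zero_right h1)
    exact e.symm.map_eq_zero_iff.mp h2
  · intro v
    rw [hQa, hQa, hca, hiso]
  · intro X hX0 hXa u' hu' v hv
    obtain ⟨g, hg⟩ : ∃ g : V →ₗ[F] V, ∀ x, g x = x + a x :=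
      ⟨LinearMap.id + a, fun x => rfl⟩
    have hfinj : Function.Injective g := by
      rw [injective_iff_map_eq_zero]
      intro x hx
      rw [hg] at hx
      exact hneg x (eq_neg_of_add_eq_zero_right hx)
    have hle : X.map g ≤ X := by
      rintro _ ⟨x, hx, rfl⟩
      rw [hg]
      exact X.add_mem hx (hXa x hx)
    have heq : X.map g = X :=
      Submodule.eq_of_le_of_finrank_eq hle
        (Submodule.equivMapOfInjective g hfinj X).finrank_eq.symm
    have hu'' : u' ∈ X.map g := by rw [heq]; exact hu'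
    obtain ⟨x₁, hx₁, hx₁u⟩ := hu''
    rw [hg] at hx₁u
    have hu : x₁ - a x₁ ∈ X := X.sub_mem hx₁ (hXa x₁ hx₁)
    have h1 := hpol (x₁ - a x₁) v
    rw [hse, hx₁u] at h1
    rw [← h1]
    unfold QuadraticMap.polar
    rw [hX0 _ (X.add_mem hu hv), hX0 _ hu, hX0 _ hv]
    simp

end stpgeneric

end Cfsg.Agent.Lib.helper24
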