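import Mathlib
import Cfsg.Agent.Lib.helper24.SroReal
import Cfsg.Agent.Lib.helper63.StsSPBAD

/-! S5973 split (helper24), piece SPM: for `i = ord_r(q)` even and every `j ≥ 1`, a symplectic
space of dimension `i * j` with an isometry of order `r` without fixed vectors all of whose
invariant totally isotropic subspaces have dimension at most `i * ((j + 1 - t) / 2)`,
`t = (r - 1) / i`.  From helper63's `sts_sp_bad`; in the remaining case (`t = 1`, `j` even) any
fixed-point-free model works (helper24's `sp_exists_xb`), the bound being half the dimension. -/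

set_option autoImplicit false
set_option linter.unusedSectionVars false
set_option linter.unusedVariables false
set_option linter.style.haveILetI false
set_option linter.deprecated false

namespace Cfsg.Agent.Lib.helper24

open Module Cfsg.Agent.Lib.helper45 Cfsg.Agent.Lib.helper49

universe u

section stpgeneric

variable {F : Type u} [Field F] [Fintype F]

/-- PIECE SPM. -/
theorem stp_sp_model (p : ℕ) [Fact p.Prime] [CharP F p] (r : ℕ) [Fact r.Prime] (hrp : r ≠ p)
    (hr2 : r ≠ 2) (hev : Even (orderOf ((Fintype.card F : ℕ) : ZMod r))) (j : ℕ) (hj : 1 ≤ j) :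
    ∃ (V : Type u) (_ : AddCommGroup V) (_ : Module F V) (_ : FiniteDimensional F V)
      (ω : V →ₗ[F] V →ₗ[F] F) (a b : Module.End F V),
      (∀ v, ω v v = 0) ∧ (∀ v, (∀ w, ω v w = 0) → v = 0) ∧
      (∀ v w, ω (a v) (a w) = ω v w) ∧ a * b = 1 ∧ a ^ r = 1 ∧
      finrank F V = orderOf ((Fintype.card F : ℕ) : ZMod r) * j ∧
      (∀ v, a v = v → v = 0) ∧
      ∀ W : Submodule F V, (∀ u ∈ W, ∀ v ∈ W, ω u v = 0) → (∀ w ∈ W, a w ∈ W) →
        finrank F W ≤ orderOf ((Fintype.card F : ℕ) : ZMod r) *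
          ((j + 1 - (r - 1) / orderOf ((Fintype.card F : ℕ) : ZMod r)) / 2) := by
  classical
  have hp : p.Prime := Fact.out
  have hr : r.Prime := Fact.out
  obtain ⟨n, -, hn⟩ := FiniteField.card F p
  have hpr : p.Coprime r := (Nat.coprime_primes hp hr).mpr (Ne.symm hrp)
  have hq0 := el_card_ne_zero p (n : ℕ) hn r hpr
  have hrF := el_natCast_ne_zero (F := F) p (n : ℕ) hn r hpr
  have hev' := hev
  obtain ⟨i, hi⟩ : ∃ i, i = orderOf ((Fintype.card F : ℕ) : ZMod r) := ⟨_, rfl⟩
  rw [← hi] at hev ⊢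
  have hidvd : i ∣ r - 1 := by
    rw [hi]
    apply orderOf_dvd_of_pow_eq_one
    exact ZMod.pow_card_sub_one_eq_one hq0
  have hr1 : 0 < r - 1 := by
    have := hr.two_le
    omega
  have hipos : 0 < i := Nat.pos_of_dvd_of_pos hidvd hr1
  obtain ⟨t, ht⟩ : ∃ t, t = (r - 1) / i := ⟨_, rfl⟩
  have ht1 : 1 ≤ t := by
    rw [ht]
    exact Nat.div_pos (Nat.le_of_dvd hr1 hidvd) hipos
  rw [← ht]
  obtain ⟨s, hs⟩ : ∃ s, s = (j + 1 - t) / 2 := ⟨_, rfl⟩
  rw [← hs]
  by_cases ho : 1 ≤ j - 2 * s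
  · obtain ⟨V, _, _, _, ω, a, b, h1, h2, h3, h4, h5, h6, h7, h8⟩ :=
      sts_sp_bad p r hrp hr2 hev' s (j - 2 * s) ho (by rw [← hi, ← ht]; omega)
    refine ⟨V, inferInstance, inferInstance, inferInstance, ω, a, b, h1, h2, h3, h4, h5, ?_, h7,
      ?_⟩
    · rw [h6, ← hi]
      congr 1
      omega
    · intro W hW hWa
      have h9 := h8 W hW hWa
      rw [← hi] at h9
      exact h9
  · have hj2 : j = 2 * s := by omega
    obtain ⟨e, he⟩ := hev
    have hie : i = 2 * e := by omega
    have he1 : 1 ≤ e := by omega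
    have hc : i = if Even i then i else 2 * i := by rw [if_pos ⟨e, he⟩]
    obtain ⟨x, hxr, hxk⟩ := sp_exists_xb r hq0 hrF i i hi hc e he1 hie j (e * j) le_rfl
    obtain ⟨Ts, hTs⟩ : ∃ Ts : Module.End F (Fin (e * j) ⊕ Fin (e * j) → F),
        Ts = Matrix.toLin' x.1 := ⟨_, rfl⟩
    have hTsr : Ts ^ r = 1 := by
      rw [hTs, sp_toLin_pow, hxr]
      exact Matrix.toLin'_one
    have hker0 : LinearMap.ker (Ts - 1) = ⊥ := by
      rw [hTs]
      apply Submodule.finrank_eq_zero.mp
      omega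
    obtain ⟨Ts', hTs'⟩ : ∃ Ts' : Module.End F (Fin (e * j) ⊕ Fin (e * j) → F),
        Ts' = Ts ^ (r - 1) := ⟨_, rfl⟩
    have hTT' : Ts * Ts' = 1 := by rw [hTs', ← pow_succ', Nat.sub_add_cancel hr.one_le, hTsr]
    refine ⟨Fin (e * j) ⊕ Fin (e * j) → F, inferInstance, inferInstance, inferInstance,
      Cfsg.Agent.S0245.omegaJ (e * j) F, Ts, Ts', Cfsg.Agent.S0245.omegaJ_alt (e * j) F,
      Cfsg.Agent.S0245.omegaJ_nondeg (e * j) F, ?_, hTT', hTsr, ?_, ?_, ?_⟩
    · rw [hTs]
      exact sp_toLin_isom (e * j) x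
    · rw [Module.finrank_fintype_fun_eq_card, Fintype.card_sum, Fintype.card_fin, hie]
      ring
    · intro v hv
      have h1 : v ∈ LinearMap.ker (Ts - 1) := by
        rw [LinearMap.mem_ker, LinearMap.sub_apply, hv, Module.End.one_apply, sub_self]
      rw [hker0] at h1
      exact (Submodule.mem_bot F).mp h1
    · intro W hW hWa
      have hTop : SpNd (Cfsg.Agent.S0245.omegaJ (e * j) F) ⊤ := by
        intro u _ hu
        exact Cfsg.Agent.S0245.omegaJ_nondeg (e * j) F u (fun w => hu w Submodule.mem_top)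
      have h1 := sq_ti_le (Cfsg.Agent.S0245.omegaJ (e * j) F) ⊤ W hTop le_top hW
      rw [finrank_top, Module.finrank_fintype_fun_eq_card, Fintype.card_sum, Fintype.card_fin]
        at h1
      obtain ⟨fw, hfw⟩ : ∃ fw, fw = finrank F W := ⟨_, rfl⟩
      rw [← hfw] at h1 ⊢
      have h2 : e * j = i * s := by
        rw [hie, hj2]
        ring
      omega

end stpgeneric

end Cfsg.Agent.Lib.helper24
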