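import Mathlib
import Cfsg.Agent.Lib.helper76.KazCore
import Cfsg.Agent.Lib.helper76.SylowBasic
import Cfsg.Agent.Lib.helper12.MinNormal
import Cfsg.Agent.Lib.helper4.BurnsidePQ

set_option autoImplicit false

/-!
# Kazarin's theorem (helper76 library)

If the conjugacy class of `x` has prime power size, then the normal closure of `x` is solvable.
-/

namespace Cfsg.Agent.Lib.helper76

universe u

section Index

variable {G : Type*} [Group G]

/-- `|MD : D| = |M : M ∩ D|` for `M` normal. -/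
theorem relIndex_sup_of_normal [Finite G] (D M : Subgroup G) [M.Normal] :
    D.relIndex (M ⊔ D) = D.relIndex M := by
  have h1 : M.relIndex D * D.index = (D ⊓ M).index := by
    rw [← Subgroup.inf_relIndex_left D M]
    exact Subgroup.relIndex_mul_index inf_le_left
  have h2 : D.relIndex M * M.index = (D ⊓ M).index := by
    rw [← Subgroup.inf_relIndex_right D M]
    exact Subgroup.relIndex_mul_index inf_le_right
  have h3 : M.relIndex D * (D ⊔ M).index = M.index := by
    rw [← Subgroup.relIndex_sup_right D M]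
    exact Subgroup.relIndex_mul_index le_sup_right
  have h6 : D.relIndex (D ⊔ M) * (D ⊔ M).index = D.index :=
    Subgroup.relIndex_mul_index le_sup_left
  have h4 : M.relIndex D ≠ 0 := by
    have : (M.subgroupOf D).index ≠ 0 := Subgroup.index_ne_zero_of_finite
    exact this
  have h5 : (D ⊔ M).index ≠ 0 := Subgroup.index_ne_zero_of_finite
  rw [sup_comm]
  have h7 : (M.relIndex D * (D ⊔ M).index) * D.relIndex (D ⊔ M) =
      (M.relIndex D * (D ⊔ M).index) * D.relIndex M := by
    calc (M.relIndex D * (D ⊔ M).index) * D.relIndex (D ⊔ M)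
        = M.relIndex D * (D.relIndex (D ⊔ M) * (D ⊔ M).index) := by ring
      _ = M.relIndex D * D.index := by rw [h6]
      _ = D.relIndex M * M.index := by rw [h1, h2]
      _ = D.relIndex M * (M.relIndex D * (D ⊔ M).index) := by rw [h3]
      _ = (M.relIndex D * (D ⊔ M).index) * D.relIndex M := by ring
  exact Nat.eq_of_mul_eq_mul_left (Nat.pos_of_ne_zero (mul_ne_zero h4 h5)) h7

/-- The centralizer of `z` in the subgroup `H`. -/
theorem centralizer_subtype_eq (H : Subgroup G) (z : G) (hz : z ∈ H) :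
    Subgroup.centralizer ({(⟨z, hz⟩ : H)} : Set H) =
      (Subgroup.centralizer ({z} : Set G)).subgroupOf H := by
  ext h
  rw [Subgroup.mem_centralizer_singleton_iff, Subgroup.mem_subgroupOf,
    Subgroup.mem_centralizer_singleton_iff]
  constructor
  · intro hh
    exact congrArg Subtype.val hh
  · intro hh
    exact Subtype.ext hh

/-- `|MZ : MZ ∩ C|` divides `|G : C|` for `M` normal and `Z ≤ C`. -/
theorem relIndex_sup_dvd_index [Finite G] (C M Z : Subgroup G) [M.Normal] (hZ : Z ≤ C) :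
    C.relIndex (M ⊔ Z) ∣ C.index := by
  have hMH : M ≤ M ⊔ Z := le_sup_left
  have e : M ⊔ Z = M ⊔ (C ⊓ (M ⊔ Z)) := by
    apply le_antisymm
    · exact sup_le le_sup_left (le_trans (le_inf hZ le_sup_right) le_sup_right)
    · exact sup_le hMH inf_le_right
  have h1 : C.relIndex (M ⊔ Z) = (C ⊓ (M ⊔ Z)).relIndex (M ⊔ Z) :=
    (Subgroup.inf_relIndex_right C (M ⊔ Z)).symm
  have h2 : (C ⊓ (M ⊔ Z)).relIndex (M ⊔ Z) = (C ⊓ (M ⊔ Z)).relIndex (M ⊔ (C ⊓ (M ⊔ Z))) :=
    congrArg (C ⊓ (M ⊔ Z)).relIndex e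
  have h3 : (C ⊓ (M ⊔ Z)).relIndex M = C.relIndex M := by
    unfold Subgroup.relIndex
    congr 1
    ext m
    rw [Subgroup.mem_subgroupOf, Subgroup.mem_subgroupOf, Subgroup.mem_inf]
    exact ⟨fun h => h.1, fun h => ⟨h, hMH m.2⟩⟩
  rw [h1, h2, relIndex_sup_of_normal, h3]
  exact relIndex_dvd_index_of_normal_right C M

/-- In `M⟨z⟩` with `M` normal, the class of `z` has size dividing the size of its class in `G`. -/
theorem index_centralizer_sup_zpowers_dvd [Finite G] (M : Subgroup G) [M.Normal] (z : G)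
    (hz : z ∈ M ⊔ Subgroup.zpowers z) :
    (Subgroup.centralizer ({(⟨z, hz⟩ : (M ⊔ Subgroup.zpowers z : Subgroup G))} :
      Set ↥(M ⊔ Subgroup.zpowers z))).index ∣ (Subgroup.centralizer ({z} : Set G)).index := by
  rw [centralizer_subtype_eq]
  apply relIndex_sup_dvd_index
  rw [Subgroup.zpowers_le]
  exact Subgroup.mem_centralizer_singleton_iff.mpr rfl

/-- The class of the image of `x` in a quotient has size dividing the size of the class of `x`. -/
theorem index_centralizer_mk_dvd (M : Subgroup G) [M.Normal] (x : G) :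
    (Subgroup.centralizer ({(x : G ⧸ M)} : Set (G ⧸ M))).index ∣
      (Subgroup.centralizer ({x} : Set G)).index := by
  have h1 : (Subgroup.centralizer ({x} : Set G)).map (QuotientGroup.mk' M) ≤
      Subgroup.centralizer ({(x : G ⧸ M)} : Set (G ⧸ M)) := by
    rintro _ ⟨c, hc, rfl⟩
    rw [SetLike.mem_coe, Subgroup.mem_centralizer_singleton_iff] at hc
    rw [Subgroup.mem_centralizer_singleton_iff, QuotientGroup.mk'_apply,
      ← QuotientGroup.mk_mul, ← QuotientGroup.mk_mul, hc]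
  exact (Subgroup.index_dvd_of_le h1).trans
    (Subgroup.index_map_dvd _ (QuotientGroup.mk'_surjective M))

end Index

section Solvable

variable {G : Type*} [Group G]

/-- A subgroup is solvable if its image and its intersection with the kernel are. -/
theorem isSolvable_of_map_of_inf_ker {Q : Type*} [Group Q] (f : G →* Q) (N : Subgroup G)
    (h1 : Group.IsSolvable ↥(N.map f)) (h2 : Group.IsSolvable ↥(N ⊓ f.ker)) :
    Group.IsSolvable ↥N := by
  refine Group.isSolvable_of_ker_le_range (Subgroup.inclusion (inf_le_left : N ⊓ f.ker ≤ N))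
    (f.subgroupMap N) ?_
  rintro ⟨n, hn⟩ hk
  rw [MonoidHom.mem_ker] at hk
  have hk' : f n = 1 := congrArg Subtype.val hk
  exact ⟨⟨n, ⟨hn, hk'⟩⟩, rfl⟩

/-- The join of two solvable subgroups, one normalizing the other, is solvable. -/
theorem isSolvable_sup_of_normalizes {X Y : Subgroup G} (hX : Group.IsSolvable ↥X)
    (hY : Group.IsSolvable ↥Y) (hn : ∀ y ∈ Y, ∀ x ∈ X, y * x * y⁻¹ ∈ X) :
    Group.IsSolvable ↥(X ⊔ Y) := by
  have hXK : X ≤ X ⊔ Y := le_sup_left
  have hYK : Y ≤ X ⊔ Y := le_sup_right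
  have hYn : Y ≤ Subgroup.normalizer (X : Set G) := by
    intro y hy
    rw [Subgroup.mem_normalizer_iff]
    intro x
    constructor
    · exact hn y hy x
    · intro h
      have h1 := hn y⁻¹ (inv_mem hy) _ h
      have h2 : y⁻¹ * (y * x * y⁻¹) * y⁻¹⁻¹ = x := by group
      rw [h2] at h1
      exact h1
  have hnorm : (X.subgroupOf (X ⊔ Y)).Normal := by
    rw [Subgroup.normal_subgroupOf_iff_le_normalizer hXK]
    exact sup_le Subgroup.le_normalizer hYn
  have h1 : Group.IsSolvable ↥(X.subgroupOf (X ⊔ Y)) :=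
    Group.isSolvable_of_isSolvable_injective
      (f := (Subgroup.subgroupOfEquivOfLe hXK).toMonoidHom)
      (Subgroup.subgroupOfEquivOfLe hXK).injective
  have hsurj : Function.Surjective ((QuotientGroup.mk' (X.subgroupOf (X ⊔ Y))).comp
      (Subgroup.inclusion hYK)) := by
    rw [← MonoidHom.range_eq_top]
    have hS : X ⊔ Y ≤ ((((QuotientGroup.mk' (X.subgroupOf (X ⊔ Y))).comp
        (Subgroup.inclusion hYK)).range).comap
          (QuotientGroup.mk' (X.subgroupOf (X ⊔ Y)))).map (X ⊔ Y).subtype := by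
      apply sup_le
      · intro x hx
        refine ⟨⟨x, hXK hx⟩, ?_, rfl⟩
        rw [SetLike.mem_coe, Subgroup.mem_comap]
        have h3 : (QuotientGroup.mk' (X.subgroupOf (X ⊔ Y))) ⟨x, hXK hx⟩ = 1 := by
          rw [QuotientGroup.mk'_apply, QuotientGroup.eq_one_iff]
          exact hx
        rw [h3]
        exact one_mem _
      · intro y hy
        refine ⟨⟨y, hYK hy⟩, ?_, rfl⟩
        rw [SetLike.mem_coe, Subgroup.mem_comap]
        exact ⟨⟨y, hy⟩, rfl⟩
    rw [eq_top_iff]
    intro q _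
    obtain ⟨t, rfl⟩ := QuotientGroup.mk'_surjective _ q
    obtain ⟨t', ht', ht'eq⟩ := hS t.2
    have h4 : t' = t := Subtype.ext ht'eq
    rw [← h4]
    exact ht'
  have h2 : Group.IsSolvable (↥(X ⊔ Y) ⧸ X.subgroupOf (X ⊔ Y)) :=
    Group.isSolvable_of_surjective hsurj
  exact Group.isSolvable_of_ker_le_range (X.subgroupOf (X ⊔ Y)).subtype
    (QuotientGroup.mk' (X.subgroupOf (X ⊔ Y)))
    (by rw [QuotientGroup.ker_mk', Subgroup.range_subtype])

/-- A non-solvable minimal normal subgroup has no nontrivial solvable subgroup that it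
normalizes. -/
theorem eq_bot_of_isSolvable_of_minimal_normal [Finite G] (M : Subgroup G) [hMn : M.Normal]
    (hmin : ∀ L : Subgroup G, L.Normal → L ≤ M → L = ⊥ ∨ L = M)
    (hMs : ¬ Group.IsSolvable ↥M) (A : Subgroup G) (hAM : A ≤ M) (hA : Group.IsSolvable ↥A)
    (hAn : ∀ m ∈ M, ∀ a ∈ A, m * a * m⁻¹ ∈ A) : A = ⊥ := by
  let 𝒮 : Set (Subgroup G) :=
    {B | B ≤ M ∧ Group.IsSolvable ↥B ∧ ∀ m ∈ M, ∀ b ∈ B, m * b * m⁻¹ ∈ B}
  have hA𝒮 : A ∈ 𝒮 := ⟨hAM, hA, hAn⟩
  obtain ⟨B₀, hB₀⟩ := (Set.toFinite 𝒮).exists_maximal ⟨A, hA𝒮⟩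
  have hB₀𝒮 : B₀ ∈ 𝒮 := hB₀.prop
  have hle : ∀ B ∈ 𝒮, B ≤ B₀ := by
    intro B hB
    have hsup : B₀ ⊔ B ∈ 𝒮 := by
      refine ⟨sup_le hB₀𝒮.1 hB.1, ?_, ?_⟩
      · exact isSolvable_sup_of_normalizes hB₀𝒮.2.1 hB.2.1
          (fun y hy x hx => hB₀𝒮.2.2 y (hB.1 hy) x hx)
      · intro m hm t ht
        have hle : B₀ ⊔ B ≤ (B₀ ⊔ B).comap (MulAut.conj m).toMonoidHom := by
          apply sup_le
          · intro b hb
            rw [Subgroup.mem_comap]
            exact (le_sup_left : B₀ ≤ B₀ ⊔ B) (hB₀𝒮.2.2 m hm b hb)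
          · intro b hb
            rw [Subgroup.mem_comap]
            exact (le_sup_right : B ≤ B₀ ⊔ B) (hB.2.2 m hm b hb)
        exact hle ht
    exact le_trans le_sup_right (hB₀.le_of_ge hsup le_sup_left)
  have hnormal : B₀.Normal := by
    constructor
    intro n hn g
    have hB' : B₀.map (MulAut.conj g).toMonoidHom ∈ 𝒮 := by
      refine ⟨?_, ?_, ?_⟩
      · rintro _ ⟨b, hb, rfl⟩
        exact hMn.conj_mem b (hB₀𝒮.1 hb) g
      · have := hB₀𝒮.2.1
        exact Group.isSolvable_of_surjective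
          (MonoidHom.subgroupMap_surjective (MulAut.conj g).toMonoidHom B₀)
      · rintro m hm _ ⟨b, hb, rfl⟩
        have hm' : g⁻¹ * m * g⁻¹⁻¹ ∈ M := hMn.conj_mem m hm g⁻¹
        refine ⟨(g⁻¹ * m * g⁻¹⁻¹) * b * (g⁻¹ * m * g⁻¹⁻¹)⁻¹, hB₀𝒮.2.2 _ hm' b hb, ?_⟩
        show g * ((g⁻¹ * m * g⁻¹⁻¹) * b * (g⁻¹ * m * g⁻¹⁻¹)⁻¹) * g⁻¹ = m * (g * b * g⁻¹) * m⁻¹
        group
    exact hle _ hB' ⟨n, hn, rfl⟩
  rcases hmin B₀ hnormal hB₀𝒮.1 with h | h
  · rw [eq_bot_iff, ← h]
    exact hle A hA𝒮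
  · exact absurd (h ▸ hB₀𝒮.2.1) hMs

/-- If `x` does not lie in a subgroup `C`, then neither does some power of `x` of prime power
order. -/
theorem exists_prime_pow_not_mem [Finite G] (C : Subgroup G) (x : G) (hx : x ∉ C) :
    ∃ s : ℕ, s.Prime ∧ x ^ (orderOf x / s ^ (orderOf x).factorization s) ∉ C := by
  by_contra hcon
  push Not at hcon
  apply hx
  have hn0 : orderOf x ≠ 0 := (orderOf_pos x).ne'
  have hdvd : orderOf x ∣ Nat.card ↥(C ⊓ Subgroup.zpowers x) := by
    rw [← Nat.factorization_prime_le_iff_dvd hn0 Nat.card_pos.ne']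
    intro s hs
    rw [← hs.pow_dvd_iff_le_factorization Nat.card_pos.ne']
    have hsd : s ^ (orderOf x).factorization s ∣ orderOf x := Nat.ordProj_dvd _ _
    have hw : x ^ (orderOf x / s ^ (orderOf x).factorization s) ∈ C ⊓ Subgroup.zpowers x :=
      ⟨hcon s hs, Subgroup.pow_mem _ (Subgroup.mem_zpowers x) _⟩
    have hm0 : orderOf x / s ^ (orderOf x).factorization s ≠ 0 :=
      (Nat.div_pos (Nat.le_of_dvd (orderOf_pos x) hsd) (pow_pos hs.pos _)).ne'
    have hord : orderOf (x ^ (orderOf x / s ^ (orderOf x).factorization s)) =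
        s ^ (orderOf x).factorization s := by
      rw [orderOf_pow_of_dvd hm0 (Nat.div_dvd_of_dvd hsd), Nat.div_div_self hsd hn0]
    rw [← hord, ← Subgroup.orderOf_mk _ hw]
    exact orderOf_dvd_natCard _
  have hcard : Nat.card ↥(Subgroup.zpowers x) ≤ Nat.card ↥(C ⊓ Subgroup.zpowers x) := by
    rw [Nat.card_zpowers]
    exact Nat.le_of_dvd Nat.card_pos hdvd
  have heq : C ⊓ Subgroup.zpowers x = Subgroup.zpowers x :=
    Subgroup.eq_of_le_of_card_ge inf_le_right hcard
  have h1 : x ∈ C ⊓ Subgroup.zpowers x := by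
    rw [heq]
    exact Subgroup.mem_zpowers x
  exact h1.1

end Solvable

/-- Kazarin's theorem, by induction on the order. -/
theorem kazarin_aux (p : ℕ) (hp : p.Prime) :
    ∀ (n : ℕ) (G : Type u) [Group G] [Finite G], Nat.card G = n →
      ∀ (x : G) (a : ℕ), (Subgroup.centralizer ({x} : Set G)).index = p ^ a →
        Group.IsSolvable ↥(Subgroup.normalClosure ({x} : Set G)) := by
  intro n
  induction n using Nat.strong_induction_on with
  | _ n ih =>
  intro G _ _ hcard x a hx
  by_cases hnt : Nontrivial G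
  swap
  · rw [not_nontrivial_iff_subsingleton] at hnt
    exact Group.isSolvable_of_comm (fun a b => Subsingleton.elim _ _)
  obtain ⟨M, hMne, hMn, hMmin⟩ := Cfsg.Agent.Lib.helper12.exists_minimal_normal (G := G)
  have hq : Group.IsSolvable ↥(Subgroup.normalClosure ({(x : G ⧸ M)} : Set (G ⧸ M))) := by
    obtain ⟨b, -, hb⟩ := (Nat.dvd_prime_pow hp).mp (hx ▸ index_centralizer_mk_dvd M x)
    exact ih (Nat.card (G ⧸ M)) (hcard ▸ Cfsg.Agent.Lib.helper12.card_quotient_lt M hMne)
      (G ⧸ M) rfl (x : G ⧸ M) b hb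
  have hmap : (Subgroup.normalClosure ({x} : Set G)).map (QuotientGroup.mk' M) =
      Subgroup.normalClosure ({(x : G ⧸ M)} : Set (G ⧸ M)) := by
    rw [Subgroup.map_normalClosure _ _ (QuotientGroup.mk'_surjective M), Set.image_singleton]
    rfl
  apply isSolvable_of_map_of_inf_ker (QuotientGroup.mk' M)
  · rw [hmap]
    exact hq
  rw [QuotientGroup.ker_mk']
  by_cases hMs : Group.IsSolvable ↥M
  · exact Group.isSolvable_of_isSolvable_injective
      (f := Subgroup.inclusion (inf_le_right : Subgroup.normalClosure ({x} : Set G) ⊓ M ≤ M))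
      (Subgroup.inclusion_injective _)
  have hxM : x ∈ Subgroup.centralizer (M : Set G) := by
    by_contra hxM
    obtain ⟨s, hs, hz⟩ := exists_prime_pow_not_mem (Subgroup.centralizer (M : Set G)) x hxM
    generalize hc : (orderOf x).factorization s = c at hz
    generalize hzdef : x ^ (orderOf x / s ^ c) = z at hz
    have hzN : z ^ (s ^ c) = 1 := by
      rw [← hzdef, ← pow_mul, ← hc, Nat.div_mul_cancel (Nat.ordProj_dvd _ _), pow_orderOf_eq_one]
    obtain ⟨b, -, hb⟩ : ∃ b ≤ a, (Subgroup.centralizer ({z} : Set G)).index = p ^ b := by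
      apply (Nat.dvd_prime_pow hp).mp
      rw [← hx]
      apply Subgroup.index_dvd_of_le
      intro g hg
      rw [Subgroup.mem_centralizer_singleton_iff] at hg ⊢
      rw [← hzdef]
      exact (Commute.pow_right hg _)
    apply hz
    rw [Subgroup.mem_centralizer_iff]
    intro m hm
    have hm' : m ∈ M := hm
    have hcommM : m * z * m⁻¹ * z⁻¹ ∈ M := by
      have h1 : z * m⁻¹ * z⁻¹ ∈ M := hMn.conj_mem _ (inv_mem hm') z
      have h2 := M.mul_mem hm' h1
      have h3 : m * (z * m⁻¹ * z⁻¹) = m * z * m⁻¹ * z⁻¹ := by group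
      rw [h3] at h2
      exact h2
    suffices h1 : m * z * m⁻¹ * z⁻¹ = 1 by
      have h2 : m * z = m * z * m⁻¹ * z⁻¹ * (z * m) := by group
      rw [h2, h1, one_mul]
    by_cases hH : M ⊔ Subgroup.zpowers z = ⊤
    · -- `G = M⟨z⟩`
      have hgen : ∀ g : G, ∃ m ∈ M, ∃ j : ℕ, g = m * z ^ j := by
        intro g
        have hg : g ∈ (↑(M ⊔ Subgroup.zpowers z) : Set G) := by
          rw [hH]
          exact Subgroup.mem_top g
        rw [Subgroup.normal_mul] at hg
        obtain ⟨m, hm, w, hw, rfl⟩ := Set.mem_mul.mp hg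
        obtain ⟨j, rfl⟩ := (Submonoid.mem_powers_iff w z).mp (mem_powers_iff_mem_zpowers.mpr hw)
        exact ⟨m, hm, j, rfl⟩
      obtain ⟨r, hr, hrM, hrp, hrs⟩ : ∃ r : ℕ, r.Prime ∧ r ∣ Nat.card ↥M ∧ r ≠ p ∧ r ≠ s := by
        by_contra hcon
        push Not at hcon
        apply hMs
        have hM0 : Nat.card ↥M ≠ 0 := Nat.card_pos.ne'
        have h1 : Nat.card ↥M = p ^ (Nat.card ↥M).factorization p *
            (Nat.card ↥M / p ^ (Nat.card ↥M).factorization p) :=
          (Nat.ordProj_mul_ordCompl_eq_self _ _).symm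
        have h2 : Nat.card ↥M / p ^ (Nat.card ↥M).factorization p =
            s ^ (Nat.card ↥M / p ^ (Nat.card ↥M).factorization p).primeFactorsList.length := by
          apply Nat.eq_prime_pow_of_unique_prime_dvd (Nat.ordCompl_pos p hM0).ne'
          intro d hd hdvd
          have hdM : d ∣ Nat.card ↥M := hdvd.trans (Nat.ordCompl_dvd _ _)
          by_contra hds
          have hdp : d = p := by
            by_contra hdp
            exact hds (hcon d hd hdM hdp)
          rw [hdp] at hdvd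
          exact Nat.not_dvd_ordCompl hp hM0 hdvd
        rw [h2] at h1
        exact Cfsg.Agent.Lib.helper4.isSolvable_of_card_eq_prime_pow_mul_prime_pow p s _ _ hp hs h1
      have : Fact r.Prime := ⟨hr⟩
      obtain ⟨y, hy⟩ := exists_prime_orderOf_dvd_card' r hrM
      have hrN : ¬ r ∣ s ^ c := by
        intro h
        exact hrs ((Nat.prime_dvd_prime_iff_eq hr hs).mp (hr.dvd_of_dvd_pow h))
      obtain ⟨K, hKn, hK, hMK⟩ := exists_normal_not_le hp hr hrp z hb hzN hrN M hgen (y : G)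
        (by rw [Subgroup.orderOf_coe, hy])
      rcases hMmin (M ⊓ K) inferInstance inf_le_left with h | h
      · have h2 : m * z * m⁻¹ * z⁻¹ ∈ M ⊓ K := ⟨hcommM, hK m⟩
        rw [h, Subgroup.mem_bot] at h2
        exact h2
      · exact absurd (inf_eq_left.mp h) hMK
    · -- `M⟨z⟩` is a proper subgroup: induction
      have hzH : z ∈ M ⊔ Subgroup.zpowers z :=
        (le_sup_right : Subgroup.zpowers z ≤ M ⊔ Subgroup.zpowers z) (Subgroup.mem_zpowers z)
      have hcardH : Nat.card ↥(M ⊔ Subgroup.zpowers z) < n := by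
        rw [← hcard]
        by_contra hnot
        exact hH (Subgroup.eq_top_of_le_card _ (not_lt.mp hnot))
      obtain ⟨b', -, hb'⟩ := (Nat.dvd_prime_pow hp).mp
        (hb ▸ index_centralizer_sup_zpowers_dvd M z hzH)
      have hsolv := ih (Nat.card ↥(M ⊔ Subgroup.zpowers z)) hcardH ↥(M ⊔ Subgroup.zpowers z) rfl
        ⟨z, hzH⟩ b' hb'
      generalize hKdef : (Subgroup.normalClosure ({(⟨z, hzH⟩ : ↥(M ⊔ Subgroup.zpowers z))} :
        Set ↥(M ⊔ Subgroup.zpowers z))).map (M ⊔ Subgroup.zpowers z).subtype = K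
      have hKs : Group.IsSolvable ↥K := by
        rw [← hKdef]
        exact Group.isSolvable_of_surjective
          (MonoidHom.subgroupMap_surjective (M ⊔ Subgroup.zpowers z).subtype _)
      have hA : Group.IsSolvable ↥(K ⊓ M) :=
        Group.isSolvable_of_isSolvable_injective
          (f := Subgroup.inclusion (inf_le_left : K ⊓ M ≤ K)) (Subgroup.inclusion_injective _)
      have hKinv : ∀ h ∈ M ⊔ Subgroup.zpowers z, ∀ k ∈ K, h * k * h⁻¹ ∈ K := by
        intro h hh k hk
        rw [← hKdef] at hk ⊢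
        obtain ⟨k', hk', rfl⟩ := hk
        exact ⟨⟨h, hh⟩ * k' * ⟨h, hh⟩⁻¹,
          Subgroup.normalClosure_normal.conj_mem k' hk' ⟨h, hh⟩, rfl⟩
      have hAn : ∀ m ∈ M, ∀ a ∈ K ⊓ M, m * a * m⁻¹ ∈ K ⊓ M := fun m hm a ha =>
        ⟨hKinv m ((le_sup_left : M ≤ M ⊔ Subgroup.zpowers z) hm) a ha.1, hMn.conj_mem a ha.2 m⟩
      have hAbot := eq_bot_of_isSolvable_of_minimal_normal M hMmin hMs (K ⊓ M) inf_le_right hA hAn
      have hzK : z ∈ K := by
        rw [← hKdef]
        exact ⟨⟨z, hzH⟩, Subgroup.subset_normalClosure (Set.mem_singleton _), rfl⟩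
      have hcK : m * z * m⁻¹ * z⁻¹ ∈ K :=
        K.mul_mem (hKinv m ((le_sup_left : M ≤ M ⊔ Subgroup.zpowers z) hm') z hzK) (inv_mem hzK)
      have h2 : m * z * m⁻¹ * z⁻¹ ∈ K ⊓ M := ⟨hcK, hcommM⟩
      rw [hAbot, Subgroup.mem_bot] at h2
      exact h2
  have hNle : Subgroup.normalClosure ({x} : Set G) ≤ Subgroup.centralizer (M : Set G) :=
    Subgroup.normalClosure_le_normal (Set.singleton_subset_iff.mpr hxM)
  apply Group.isSolvable_of_comm
  rintro ⟨u, hu⟩ ⟨v, hv⟩
  apply Subtype.ext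
  show u * v = v * u
  exact ((Subgroup.mem_centralizer_iff.mp (hNle hu.1)) v hv.2).symm

/-- **Kazarin's theorem**: if the conjugacy class of `x` has prime power size, then the normal
closure of `x` is solvable. -/
theorem kazarin {G : Type u} [Group G] [Finite G] {p : ℕ} (hp : p.Prime) (x : G) (a : ℕ)
    (hx : (Subgroup.centralizer ({x} : Set G)).index = p ^ a) :
    Group.IsSolvable ↥(Subgroup.normalClosure ({x} : Set G)) :=
  kazarin_aux p hp _ G rfl x a hx

end Cfsg.Agent.Lib.helper76
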