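import Mathlib
import Cfsg.Agent.Lib.helper44.SUWDefs
import Cfsg.Agent.Lib.helper17.Herm

/-!
# S2335 piece LEVI (racing copy): Levi elements of `SU_{2m}(q)` normalising the Siegel subgroup
-/

set_option autoImplicit false

namespace Cfsg.Agent.Lib.helper44.SUW

open Matrix Cfsg.Agent.Lib.helper99

/-- a matrix with `Mᵀ * M.map σ = 1` preserves the hermitian form -/
theorem h76_herm_of_unitary {K : Type*} [Field K] {q n : ℕ} (σ : K →+* K)
    (hσ : ∀ x, σ x = x ^ q) (M : Matrix (Fin n) (Fin n) K) (hM : Mᵀ * M.map σ = 1)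
    (u v : Fin n → K) :
    Cfsg.hermForm n K q (M *ᵥ u) (M *ᵥ v) = Cfsg.hermForm n K q u v := by
  rw [Cfsg.Agent.Lib.helper17.hermForm_eq n q σ hσ, Cfsg.Agent.Lib.helper17.hermForm_eq n q σ hσ]
  have h1 : ∀ i, σ ((M *ᵥ v) i) = ((M.map σ) *ᵥ (fun j => σ (v j))) i := by
    intro i
    simp [Matrix.mulVec, dotProduct, map_sum, map_mul]
  simp_rw [h1]
  change (M *ᵥ u) ⬝ᵥ ((M.map σ) *ᵥ (fun j => σ (v j))) = u ⬝ᵥ (fun j => σ (v j))
  rw [← Matrix.vecMul_transpose, ← Matrix.dotProduct_mulVec, Matrix.mulVec_mulVec, hM,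
    Matrix.one_mulVec]

theorem h76_conj_unitary {K : Type*} [Field K] {n : Type*} [Fintype n] [DecidableEq n]
    (σ : K →+* K) (P Pi D H : Matrix n n K) (h1 : P * Pi = 1) (h2 : Pᵀ * P.map σ = H)
    (h3 : Dᵀ * H * D.map σ = H) : (P * D * Pi)ᵀ * (P * D * Pi).map σ = 1 := by
  have e1 : (P * D * Pi)ᵀ = Piᵀ * Dᵀ * Pᵀ := by
    simp only [Matrix.transpose_mul, Matrix.mul_assoc]
  have e2 : (P * D * Pi).map σ = P.map σ * D.map σ * Pi.map σ := by
    simp only [Matrix.map_mul]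
  rw [e1, e2]
  calc Piᵀ * Dᵀ * Pᵀ * (P.map σ * D.map σ * Pi.map σ)
      = Piᵀ * (Dᵀ * (Pᵀ * P.map σ) * D.map σ) * Pi.map σ := by simp only [Matrix.mul_assoc]
    _ = Piᵀ * H * Pi.map σ := by rw [h2, h3]
    _ = Piᵀ * (Pᵀ * P.map σ) * Pi.map σ := by rw [h2]
    _ = (P * Pi)ᵀ * (P * Pi).map σ := by
        simp only [Matrix.transpose_mul, Matrix.map_mul, Matrix.mul_assoc]
    _ = 1 := by rw [h1]; simp

theorem h76_conj_comm {K : Type*} [Field K] {n : Type*} [Fintype n] [DecidableEq n]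
    (P Pi D N N' : Matrix n n K) (h0 : Pi * P = 1) (h5 : D * N = N' * D) :
    (P * D * Pi) * (1 + P * N * Pi) = (1 + P * N' * Pi) * (P * D * Pi) := by
  rw [mul_add, add_mul, mul_one, one_mul]
  congr 1
  calc P * D * Pi * (P * N * Pi) = P * D * ((Pi * P) * (N * Pi)) := by
        simp only [Matrix.mul_assoc]
    _ = P * ((D * N) * Pi) := by rw [h0, Matrix.one_mul]; simp only [Matrix.mul_assoc]
    _ = P * ((N' * D) * Pi) := by rw [h5]
    _ = P * N' * ((Pi * P) * (D * Pi)) := by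
        rw [h0, Matrix.one_mul]; simp only [Matrix.mul_assoc]
    _ = P * N' * Pi * (P * D * Pi) := by simp only [Matrix.mul_assoc]

/-- scalar block matrices -/
def h76_sb {K : Type*} [Field K] (m : ℕ) (x11 x12 x21 x22 : K) :
    Matrix (Fin m ⊕ Fin m) (Fin m ⊕ Fin m) K :=
  fromBlocks (x11 • 1) (x12 • 1) (x21 • 1) (x22 • 1)

theorem h76_sb_mul {K : Type*} [Field K] (m : ℕ) (x11 x12 x21 x22 y11 y12 y21 y22 : K) :
    h76_sb m x11 x12 x21 x22 * h76_sb m y11 y12 y21 y22 =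
      h76_sb m (x11 * y11 + x12 * y21) (x11 * y12 + x12 * y22) (x21 * y11 + x22 * y21)
        (x21 * y12 + x22 * y22) := by
  unfold h76_sb
  rw [fromBlocks_multiply]
  simp only [Matrix.smul_mul, Matrix.one_mul, smul_smul, ← add_smul]

theorem h76_sb_one {K : Type*} [Field K] (m : ℕ) : h76_sb m (1 : K) 0 0 1 = 1 := by
  unfold h76_sb
  simp [fromBlocks_one]

theorem h76_sb_transpose {K : Type*} [Field K] (m : ℕ) (x11 x12 x21 x22 : K) :
    (h76_sb m x11 x12 x21 x22)ᵀ = h76_sb m x11 x21 x12 x22 := by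
  unfold h76_sb
  simp [fromBlocks_transpose, Matrix.transpose_smul]

theorem h76_sb_map {K : Type*} [Field K] (m : ℕ) (σ : K →+* K) (x11 x12 x21 x22 : K) :
    (h76_sb m x11 x12 x21 x22).map σ = h76_sb m (σ x11) (σ x12) (σ x21) (σ x22) := by
  unfold h76_sb
  ext (i | i) (j | j) <;> simp [Matrix.one_apply] <;> split_ifs <;> simp

theorem h76_sb_congr {K : Type*} [Field K] (m : ℕ) {x11 x12 x21 x22 y11 y12 y21 y22 : K}
    (h1 : x11 = y11) (h2 : x12 = y12) (h3 : x21 = y21) (h4 : x22 = y22) :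
    h76_sb m x11 x12 x21 x22 = h76_sb m y11 y12 y21 y22 := by
  subst h1 h2 h3 h4; rfl

theorem h76_levi_core {K : Type*} [Field K] {q m : ℕ}
    (σ : K →+* K) (hσ : ∀ x, σ x = x ^ q) (hσσ : ∀ x, σ (σ x) = x)
    (ζ : K) (hζ1 : ζ ≠ 1) (hζ : ζ * σ ζ = 1)
    (ε : K) (hε : ε * σ ε = -1)
    (B : Matrix (Fin m) (Fin m) K) (hB : B.det = 1) :
    ∃ g : ↥(Cfsg.SU (m + m) K q), ∀ C : Matrix (Fin m) (Fin m) K,
      suMat g * uMat σ ε C = uMat σ ε (B * C * (B.map σ)ᵀ) * suMat g := by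
  classical
  obtain ⟨a, ha⟩ : ∃ a : K, a = (1 - ζ)⁻¹ := ⟨_, rfl⟩
  obtain ⟨b, hb⟩ : ∃ b : K, b = ε * ζ * a := ⟨_, rfl⟩
  have h1ζ : (1 - ζ) ≠ 0 := sub_ne_zero.2 (Ne.symm hζ1)
  have hε' : σ ε * ε = -1 := by rw [mul_comm]; exact hε
  have e1 : a + σ ε * b = 1 := by
    calc a + σ ε * b = a * (1 + (σ ε * ε) * ζ) := by rw [hb]; ring
      _ = a * (1 - ζ) := by rw [hε']; ring
      _ = 1 := by rw [ha]; exact inv_mul_cancel₀ h1ζ
  have e2 : a * σ a + b * σ b = 0 := by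
    have h : b * σ b = (ε * σ ε) * (ζ * σ ζ) * (a * σ a) := by
      rw [hb]; simp only [map_mul]; ring
    rw [h, hε, hζ]; ring
  have e1' : σ a + ε * σ b = 1 := by
    have h := congrArg σ e1
    simpa [map_add, map_mul, hσσ] using h
  -- the matrices
  have hBu : IsUnit B.det := by rw [hB]; exact isUnit_one
  obtain ⟨B', hB'⟩ : ∃ B' : Matrix (Fin m) (Fin m) K, B' = ((B⁻¹).map σ)ᵀ := ⟨_, rfl⟩
  have hinv : B⁻¹ * B = 1 := Matrix.nonsing_inv_mul B hBu
  have hB'1 : B'ᵀ * B.map σ = 1 := by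
    rw [hB', Matrix.transpose_transpose, ← Matrix.map_mul, hinv]; simp
  have hB'2 : Bᵀ * B'.map σ = 1 := by
    have h : B'.map σ = (B⁻¹)ᵀ := by
      rw [hB']
      ext i j
      simp [hσσ]
    rw [h, ← Matrix.transpose_mul, hinv, Matrix.transpose_one]
  have hB'3 : (B.map σ)ᵀ * B' = 1 := by
    rw [hB', ← Matrix.transpose_mul, ← Matrix.map_mul, hinv]; simp
  have hdetB' : B'.det = 1 := by
    have h := congrArg Matrix.det hB'1
    rw [Matrix.det_mul, Matrix.det_transpose, Matrix.det_one] at h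
    have h2 : (B.map σ).det = 1 := by
      have h3 := (RingHom.map_det σ B).symm
      rw [hB, map_one] at h3
      exact h3
    rw [h2, mul_one] at h
    exact h
  set P : Matrix (Fin m ⊕ Fin m) (Fin m ⊕ Fin m) K := h76_sb m 1 a ε b with hP
  set Pi : Matrix (Fin m ⊕ Fin m) (Fin m ⊕ Fin m) K := h76_sb m (σ a) (σ b) 1 (σ ε) with hPi
  set H : Matrix (Fin m ⊕ Fin m) (Fin m ⊕ Fin m) K := h76_sb m 0 1 1 0 with hH
  set D : Matrix (Fin m ⊕ Fin m) (Fin m ⊕ Fin m) K := fromBlocks B 0 0 B' with hD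
  have hPiP : Pi * P = 1 := by
    rw [hPi, hP, h76_sb_mul, ← h76_sb_one]
    refine h76_sb_congr m ?_ ?_ ?_ ?_
    · linear_combination e1'
    · linear_combination e2
    · linear_combination hε
    · linear_combination e1
  have hPPi : P * Pi = 1 := mul_eq_one_comm.1 hPiP
  have hPH : Pᵀ * P.map σ = H := by
    rw [hP, hH, h76_sb_transpose, h76_sb_map, h76_sb_mul]
    refine h76_sb_congr m ?_ ?_ ?_ ?_
    · rw [map_one]; linear_combination hε
    · linear_combination e1'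
    · rw [map_one]; linear_combination e1
    · linear_combination e2
  have hHf : H = fromBlocks 0 1 1 0 := by
    rw [hH]; unfold h76_sb; simp
  have hDH : Dᵀ * H * D.map σ = H := by
    rw [hHf, hD, fromBlocks_transpose, fromBlocks_map, fromBlocks_multiply, fromBlocks_multiply]
    simp [hB'1, hB'2]
  have hdetD : D.det = 1 := by
    rw [hD, Matrix.det_fromBlocks_zero₂₁, hB, hdetB', mul_one]
  obtain ⟨G, hG⟩ : ∃ G : Matrix (Fin m ⊕ Fin m) (Fin m ⊕ Fin m) K, G = P * D * Pi := ⟨_, rfl⟩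
  have hGu : Gᵀ * G.map σ = 1 := by rw [hG]; exact h76_conj_unitary σ P Pi D H hPPi hPH hDH
  have hGdet : G.det = 1 := by
    rw [hG, Matrix.det_mul, Matrix.det_mul, hdetD, mul_one, ← Matrix.det_mul, hPPi,
      Matrix.det_one]
  have hU : ∀ C : Matrix (Fin m) (Fin m) K,
      fromBlocks (1 + C) (σ ε • C) (ε • C) (1 - C) = 1 + P * fromBlocks 0 C 0 0 * Pi := by
    intro C
    rw [hP, hPi]
    unfold h76_sb
    rw [fromBlocks_multiply, fromBlocks_multiply, ← fromBlocks_one, fromBlocks_add]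
    congr 1 <;> simp [smul_smul, hε', sub_eq_add_neg]
  have hDN : ∀ C : Matrix (Fin m) (Fin m) K,
      D * fromBlocks 0 C 0 0 = fromBlocks 0 (B * C * (B.map σ)ᵀ) 0 0 * D := by
    intro C
    rw [hD, fromBlocks_multiply, fromBlocks_multiply]
    simp [Matrix.mul_assoc, hB'3]
  -- reindex
  let e : Fin (m + m) ≃ Fin m ⊕ Fin m := finSumFinEquiv.symm
  have hMdet : (G.submatrix e e).det = 1 := by rw [Matrix.det_submatrix_equiv_self]; exact hGdet
  have hMu : (G.submatrix e e)ᵀ * (G.submatrix e e).map σ = 1 := by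
    have h : (G.submatrix e e)ᵀ * (G.submatrix e e).map σ = (Gᵀ * G.map σ).submatrix e e := by
      rw [← Matrix.submatrix_mul_equiv Gᵀ (G.map σ) e e e]
      rfl
    rw [h, hGu, Matrix.submatrix_one_equiv]
  refine ⟨mkSU (G.submatrix e e) hMdet (h76_herm_of_unitary σ hσ _ hMu), fun C => ?_⟩
  rw [suMat_mkSU]
  unfold uMat
  change G.submatrix e e * (fromBlocks (1 + C) (σ ε • C) (ε • C) (1 - C)).submatrix e e =
    (fromBlocks (1 + B * C * (B.map σ)ᵀ) (σ ε • (B * C * (B.map σ)ᵀ))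
      (ε • (B * C * (B.map σ)ᵀ)) (1 - B * C * (B.map σ)ᵀ)).submatrix e e * G.submatrix e e
  rw [Matrix.submatrix_mul_equiv, Matrix.submatrix_mul_equiv, hU C, hU (B * C * (B.map σ)ᵀ), hG,
    h76_conj_comm P Pi D _ _ hPiP (hDN C)]

/-- LEVI (L) -/
theorem h76_levi {K : Type*} [Field K] [Fintype K] {q m : ℕ} (hK : Fintype.card K = q ^ 2)
    (σ : K →+* K) (hσ : ∀ x, σ x = x ^ q) (ε : K) (hε : ε * σ ε = -1)
    (B : Matrix (Fin m) (Fin m) K) (hB : B.det = 1) :
    ∃ g : ↥(Cfsg.SU (m + m) K q), ∀ C ∈ skewH σ m,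
      suMat g * uMat σ ε C = uMat σ ε (B * C * (B.map σ)ᵀ) * suMat g := by
  have hσσ : ∀ x, σ (σ x) = x := by
    intro x
    rw [hσ, hσ, Cfsg.Agent.Lib.helper17.pow_q_pow_q hK]
  have hq2 : 1 < q := Cfsg.Agent.Lib.helper17.two_le_of_card_eq_sq hK
  have hθ : ∃ θ : K, σ θ ≠ θ := by
    by_contra hall
    push Not at hall
    have hsub : (Finset.univ : Finset K).val ⊆ (Polynomial.X ^ q - Polynomial.X : Polynomial K).roots := by
      intro x _
      rw [Polynomial.mem_roots (FiniteField.X_pow_card_sub_X_ne_zero K hq2)]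
      have hx : x ^ q = x := by rw [← hσ]; exact hall x
      simp [hx]
    have h := Polynomial.card_le_degree_of_subset_roots hsub
    rw [FiniteField.X_pow_card_sub_X_natDegree_eq K hq2, Finset.card_univ, hK] at h
    nlinarith
  obtain ⟨θ, hθ⟩ := hθ
  have hθ0 : θ ≠ 0 := by
    rintro rfl
    exact hθ (map_zero σ)
  have hσθ0 : σ θ ≠ 0 := by
    intro h
    apply hθ0
    have h2 := congrArg σ h
    rw [hσσ, map_zero] at h2
    exact h2
  have hζ1 : θ / σ θ ≠ 1 := by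
    intro h
    rw [div_eq_one_iff_eq hσθ0] at h
    exact hθ h.symm
  have hζ : (θ / σ θ) * σ (θ / σ θ) = 1 := by
    rw [map_div₀, hσσ]
    field_simp
  obtain ⟨g, hg⟩ := h76_levi_core σ hσ hσσ (θ / σ θ) hζ1 hζ ε hε B hB
  exact ⟨g, fun C _ => hg C⟩

end Cfsg.Agent.Lib.helper44.SUW
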