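import Mathlib
import Cfsg.Agent.Lib.helper24.SroReal

/-! S5988 split (helper99), piece CNTA, core: the characteristic-free clone of helper24's
counting lemma `sr_count` for elliptic subspaces of an even-dimensional space, with the
existence piece EXT as a hypothesis. -/

set_option autoImplicit false
set_option linter.unusedSectionVars false
set_option linter.unusedVariables false
set_option linter.style.haveILetI false
set_option linter.deprecated false

namespace Cfsg.Agent.Lib.helper76

open Module Cfsg.Agent.Lib.helper24 Cfsg.Agent.Lib.helper45 Cfsg.Agent.Lib.helper49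

universe u

section srecnta

variable {F : Type u} [Field F] [Fintype F]

/-- CNTA core: `sre_count_a` with the existence of elliptic subspaces (piece EXT) as a
hypothesis. -/
theorem h76_sre_count_a_core
    (hEXT : ∀ (V : Type u) [AddCommGroup V] [Module F V] [FiniteDimensional F V]
      (Q : QuadraticForm F V) (ε : ℤ), (ε = 1 ∨ ε = -1) → ∀ (e f : ℕ) (X : Submodule F V),
      SpNd (QuadraticMap.polarBilin Q) X → finrank F X = 2 * f → e < f → (ε = -1 → 1 ≤ e) →
      ∃ W : Submodule F V, W ≤ X ∧ SpNd (QuadraticMap.polarBilin Q) W ∧ finrank F W = 2 * e ∧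
        SrTy Q W ε)
    (p f' : ℕ) [Fact p.Prime] (hF : Fintype.card F = p ^ f')
    (r : ℕ) [Fact r.Prime] (hpr : p.Coprime r) (hr2 : r ≠ 2) (i c : ℕ)
    (hi : i = orderOf ((Fintype.card F : ℕ) : ZMod r)) (hc : c = if Even i then i else 2 * i)
    (m : ℕ) (hme : Even m) (hm2 : 2 ≤ m) (hmc : m < c) :
    ∀ (n : ℕ) (V : Type u) [AddCommGroup V] [Module F V] [FiniteDimensional F V]
      (Q : QuadraticForm F V), (∀ v, (∀ w, QuadraticMap.polar Q v w = 0) → v = 0) →
      finrank F V = n → Even n →
      r ∣ Nat.card {W : Submodule F V // finrank F W = m ∧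
        SpNd (QuadraticMap.polarBilin Q) W ∧ SrTy Q W (-1)} → n % c ≤ m := by
  have hr : r.Prime := Fact.out
  have hq0 := el_card_ne_zero p f' hF r hpr
  have hrF := el_natCast_ne_zero (F := F) p f' hF r hpr
  have hcev : Even c := sr_c_even p f' hF r hpr hr2 i c hi hc
  intro n
  induction n using Nat.strong_induction_on with
  | _ n ih =>
    intro V _ _ _ Q hnd hdim heven hdvd
    haveI : Finite V := Module.finite_of_finite F
    by_cases hex : ∃ T : Module.End F V, (∀ v, Q (T v) = Q v) ∧ T ^ r = 1 ∧ T ≠ 1
    · obtain ⟨T, hT, hTr, hT1⟩ := hex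
      obtain ⟨T', hT'⟩ : ∃ T' : Module.End F V, T' = T ^ (r - 1) := ⟨_, rfl⟩
      have hTT' : T * T' = 1 := by rw [hT', ← pow_succ', Nat.sub_add_cancel hr.one_le, hTr]
      have hT'T : T' * T = 1 := by rw [hT', ← pow_succ, Nat.sub_add_cancel hr.one_le, hTr]
      obtain ⟨K, hK⟩ : ∃ K : Submodule F V, K = LinearMap.ker (T - 1) := ⟨_, rfl⟩
      have hKnd : SpNd (QuadraticMap.polarBilin Q) K := by
        rw [hK]
        exact sr_K_nd Q hnd T hT r hTr hrF
      have hRnd := sr_R_nd Q hnd T hT r hTr hrF
      have hKR := sr_KR_bot T r hTr hrF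
      obtain ⟨t, ht⟩ := sr_dvd Q hnd T hT p f' hF r hpr hr2 hTr i c hi hc _ hRnd (sr_R_inv T) hKR
      have hRne : finrank F (LinearMap.range (T - 1)) ≠ 0 := by
        intro h0
        apply hT1
        have := Submodule.finrank_eq_zero.mp h0
        rw [LinearMap.range_eq_bot] at this
        exact sub_eq_zero.mp this
      have hsum := LinearMap.finrank_range_add_finrank_ker (T - 1)
      rw [hdim, ← hK] at hsum
      have hKfix : ∀ k ∈ K, T k = k := by
        intro k hk
        rw [hK, LinearMap.mem_ker, LinearMap.sub_apply, Module.End.one_apply, sub_eq_zero] at hk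
        exact hk
      obtain ⟨g, hg⟩ : ∃ g : V ≃ₗ[F] V, (g : V →ₗ[F] V) = T :=
        ⟨LinearEquiv.ofLinear T T' hTT' hT'T, rfl⟩
      have hgiso : ∀ v, Q (g v) = Q v := by
        intro v
        have : g v = T v := by rw [← hg]; rfl
        rw [this, hT]
      obtain ⟨σ, hσ⟩ : ∃ σ : {W : Submodule F V // finrank F W = m ∧
          SpNd (QuadraticMap.polarBilin Q) W ∧ SrTy Q W (-1)} →
          {W : Submodule F V // finrank F W = m ∧
          SpNd (QuadraticMap.polarBilin Q) W ∧ SrTy Q W (-1)}, ∀ W, (σ W).1 = W.1.map T :=
        ⟨fun W => ⟨W.1.map T, by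
          have := sr_map_mem Q g hgiso W.1 m (-1) W.2
          rw [hg] at this
          exact this⟩, fun W => rfl⟩
      have hiter : ∀ (k : ℕ) W, ((σ^[k]) W).1 = W.1.map (T ^ k) := by
        intro k
        induction k with
        | zero =>
          intro W
          rw [pow_zero]
          exact (Submodule.map_id _).symm
        | succ k ih2 =>
          intro W
          rw [Function.iterate_succ_apply', hσ, ih2, pow_succ', ← Submodule.map_comp]
          rfl
      have hmod := sr_fixed_mod σ r (fun W => by
        apply Subtype.ext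
        rw [hiter, hTr]
        exact Submodule.map_id _)
      have hdvd2 := (Nat.ModEq.dvd_iff hmod (dvd_refl r)).mp hdvd
      have hcard : Nat.card {W' : Submodule F K // finrank F W' = m ∧
          SpNd (QuadraticMap.polarBilin (Q.comp K.subtype)) W' ∧ SrTy (Q.comp K.subtype) W' (-1)} =
          Nat.card {a : {W : Submodule F V // finrank F W = m ∧
          SpNd (QuadraticMap.polarBilin Q) W ∧ SrTy Q W (-1)} // σ a = a} := by
        apply Nat.card_congr
        refine Equiv.ofBijective (fun W' => ⟨⟨W'.1.map K.subtype,
          by rw [Submodule.finrank_map_subtype_eq]; exact W'.2.1,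
          (sr_sub_nd Q K W'.1).mp W'.2.2.1, (sr_sub_ty Q K W'.1 (-1)).mp W'.2.2.2⟩, ?_⟩) ⟨?_, ?_⟩
        · apply Subtype.ext
          rw [hσ]
          show (W'.1.map K.subtype).map T = W'.1.map K.subtype
          ext x
          constructor
          · rintro ⟨_, ⟨k, hk, rfl⟩, rfl⟩
            refine ⟨k, hk, ?_⟩
            exact (hKfix k.1 k.2).symm
          · rintro ⟨k, hk, rfl⟩
            exact ⟨k.1, ⟨k, hk, rfl⟩, hKfix k.1 k.2⟩
        · intro W' W'' h
          have h1 : W'.1.map K.subtype = W''.1.map K.subtype :=
            congrArg (fun x => (x.1.1 : Submodule F V)) h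
          exact Subtype.ext (Submodule.map_injective_of_injective K.injective_subtype h1)
        · rintro ⟨⟨W, hW⟩, hfix⟩
          have hWT : W.map T = W := by
            have := congrArg Subtype.val hfix
            rw [hσ] at this
            exact this
          have hWinv : ∀ w ∈ W, T w ∈ W := by
            intro w hw
            rw [← hWT]
            exact ⟨w, hw, rfl⟩
          obtain ⟨a, b, hab, -, -⟩ := sr_nec Q hnd T hT p f' hF r hpr hr2 hTr i c hi hc W hW.2.1
            hWinv
          obtain ⟨hsup, hdimW⟩ := sr_split Q hnd T hT r hTr hrF W hWinv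
          obtain ⟨-, hRnd'⟩ := sr_split_nd Q hnd T hT r hTr hrF W hWinv hW.2.1
          have hDinv : ∀ d ∈ W ⊓ LinearMap.range (T - 1),
              T d ∈ W ⊓ LinearMap.range (T - 1) := by
            intro d hd
            rw [Submodule.mem_inf] at hd ⊢
            exact ⟨hWinv d hd.1, sr_R_inv T d hd.2⟩
          have hDfix : LinearMap.ker (T - 1) ⊓ (W ⊓ LinearMap.range (T - 1)) = ⊥ := by
            rw [eq_bot_iff, ← hKR]
            exact inf_le_inf_left _ inf_le_right
          obtain ⟨b', hb'⟩ := sr_dvd Q hnd T hT p f' hF r hpr hr2 hTr i c hi hc _ hRnd' hDinv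
            hDfix
          have hD0 : finrank F ↥(W ⊓ LinearMap.range (T - 1)) = 0 := by
            have hle : finrank F ↥(W ⊓ LinearMap.range (T - 1)) ≤ finrank F W :=
              Submodule.finrank_mono inf_le_left
            rw [hW.1] at hle
            rcases Nat.eq_zero_or_pos b' with h0 | hpos
            · rw [hb', h0, mul_zero]
            · exfalso
              have : c ≤ c * b' := Nat.le_mul_of_pos_right c hpos
              omega
          have hWK : W ≤ K := by
            rw [Submodule.finrank_eq_zero.mp hD0, sup_bot_eq] at hsup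
            rw [← hsup, hK]
            exact inf_le_right
          have hmc' : (W.comap K.subtype).map K.subtype = W := by
            rw [Submodule.map_comap_subtype]
            exact inf_eq_right.mpr hWK
          refine ⟨⟨W.comap K.subtype, ?_, ?_, ?_⟩, ?_⟩
          · rw [← Submodule.finrank_map_subtype_eq, hmc']
            exact hW.1
          · rw [sr_sub_nd, hmc']
            exact hW.2.1
          · rw [sr_sub_ty, hmc']
            exact hW.2.2
          · exact Subtype.ext (Subtype.ext hmc')
      rw [← hcard] at hdvd2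
      have hKlt : finrank F K < n := by omega
      have hKodd : Even (finrank F K) := by
        obtain ⟨c', hc'⟩ := hcev
        obtain ⟨n', hn'⟩ := heven
        have h3 : finrank F ↥(LinearMap.range (T - 1)) = 2 * (c' * t) := by
          rw [ht, hc']
          ring
        exact ⟨n' - c' * t, by omega⟩
      have h5 := ih (finrank F K) hKlt ↥K (Q.comp K.subtype) (sr_restr_nd Q K hKnd) rfl hKodd
        hdvd2
      have h6 : n % c = finrank F K % c := by
        rw [← hsum, ht, Nat.mul_add_mod]
      rw [h6]
      exact h5
    · push Not at hex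
      by_contra hlt
      push Not at hlt
      have hmn : m + 1 ≤ n := by
        have := Nat.mod_le n c
        omega
      have hTop : SpNd (QuadraticMap.polarBilin Q) ⊤ := by
        intro u _ hu2
        apply hnd u
        intro w
        have := hu2 w Submodule.mem_top
        rwa [QuadraticMap.polarBilin_apply_apply] at this
      obtain ⟨m', hm'⟩ := hme
      obtain ⟨f, hf⟩ := heven
      obtain ⟨W₀, -, hW₀nd, hW₀dim, hW₀ty⟩ := hEXT V Q (-1) (Or.inr rfl) m' f ⊤ hTop
        (by rw [finrank_top, hdim]; omega) (by omega) (fun _ => by omega)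
      have h0 : finrank F W₀ = m ∧ SpNd (QuadraticMap.polarBilin Q) W₀ ∧ SrTy Q W₀ (-1) :=
        ⟨by omega, hW₀nd, hW₀ty⟩
      have hdvdG := hdvd.trans (sr_card_dvd Q hnd (-1) (Or.inr rfl) m ⟨m', hm'⟩ W₀ h0)
      haveI : Finite (V ≃ₗ[F] V) :=
        Finite.of_injective (fun g : V ≃ₗ[F] V => (g : V → V)) DFunLike.coe_injective
      obtain ⟨g, hg⟩ := exists_prime_orderOf_dvd_card' r hdvdG
      have hpow : ∀ (k : ℕ) (v : V), ((g.1 : V →ₗ[F] V) ^ k) v = ((g ^ k).1 : V ≃ₗ[F] V) v := by
        intro k
        induction k with
        | zero => intro v; rfl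
        | succ k ih2 =>
          intro v
          rw [pow_succ, Module.End.mul_apply, ih2, pow_succ]
          rfl
      have hgr : g ^ r = 1 := by
        rw [← hg]
        exact pow_orderOf_eq_one g
      have h1 := hex (g.1 : V →ₗ[F] V) g.2 (by
        apply LinearMap.ext
        intro v
        rw [hpow, hgr]
        rfl)
      have hg1 : g = 1 := by
        apply Subtype.ext
        apply LinearEquiv.ext
        intro v
        have := congrArg (fun L : Module.End F V => L v) h1
        exact this
      rw [hg1, orderOf_one] at hg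
      exact hr.one_lt.ne hg

end srecnta

end Cfsg.Agent.Lib.helper76
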