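import Mathlib
import Cfsg.Agent.Lib.helper24.SroReal
import Cfsg.Agent.Lib.helper25.SreEXT
import Cfsg.Agent.Lib.helper76.SreCNTAcore

/-! S5988 split (helper99), piece CNTA: `sre_count_a`, verbatim skeleton statement. -/

set_option autoImplicit false
set_option linter.unusedSectionVars false
set_option linter.unusedVariables false

namespace Cfsg.Agent.Lib.helper76

open Module Cfsg.Agent.Lib.helper24 Cfsg.Agent.Lib.helper45 Cfsg.Agent.Lib.helper49

universe u

section generic

variable {F : Type u} [Field F] [Fintype F]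

/-- CNTA: if `r` divides the number of elliptic `m`-subspaces of an even-dimensional
nondegenerate space `V` and `m < c`, then `dim V mod c ≤ m`. -/
theorem sre_count_a (p f' : ℕ) [Fact p.Prime] (hF : Fintype.card F = p ^ f')
    (r : ℕ) [Fact r.Prime] (hpr : p.Coprime r) (hr2 : r ≠ 2) (i c : ℕ)
    (hi : i = orderOf ((Fintype.card F : ℕ) : ZMod r)) (hc : c = if Even i then i else 2 * i)
    (m : ℕ) (hme : Even m) (hm2 : 2 ≤ m) (hmc : m < c) :
    ∀ (n : ℕ) (V : Type u) [AddCommGroup V] [Module F V] [FiniteDimensional F V]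
      (Q : QuadraticForm F V), (∀ v, (∀ w, QuadraticMap.polar Q v w = 0) → v = 0) →
      finrank F V = n → Even n →
      r ∣ Nat.card {W : Submodule F V // finrank F W = m ∧
        SpNd (QuadraticMap.polarBilin Q) W ∧ SrTy Q W (-1)} → n % c ≤ m :=
  h76_sre_count_a_core
    (fun V _ _ _ Q ε hε e f X hX hXdim hef he =>
      Cfsg.Agent.Lib.helper25.sre_exists_ty Q ε hε e f X hX hXdim hef he)
    p f' hF r hpr hr2 i c hi hc m hme hm2 hmc

end generic

end Cfsg.Agent.Lib.helper76
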