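import Mathlib

/-! S4504 piece R (`bg_reduce`), sub-split by helper84, sub-piece R12 (insurance copy by helper76,
prefixed name `h76_R_quot_sylow`, verbatim statement of `R_quot_sylow`): the image of `P` in
`G / Z(G)` is a self-centralizing Sylow `p`-subgroup of order `p`. -/

set_option autoImplicit false

namespace Cfsg.Agent.Lib.helper2.BG

universe u

/-- A `p`-element centralizing a Sylow `p`-subgroup lies in it. -/
theorem h76_mem_sylow_of_mem_centralizer {G : Type u} [Group G] (p : ℕ) [Fact p.Prime]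
    (P : Sylow p G) (u : G) (hu : u ∈ Subgroup.centralizer ((P : Subgroup G) : Set G)) (k : ℕ)
    (huo : u ^ p ^ k = 1) : u ∈ (P : Subgroup G) := by
  have h1 : IsPGroup p (Subgroup.zpowers u) := by
    rintro ⟨y, hy⟩
    obtain ⟨j, rfl⟩ := Subgroup.mem_zpowers_iff.mp hy
    refine ⟨k, Subtype.ext ?_⟩
    show (u ^ j) ^ p ^ k = 1
    rw [← zpow_natCast, ← zpow_mul, mul_comm, zpow_mul, zpow_natCast, huo, one_zpow]
  have h2 : Subgroup.zpowers u ≤ Subgroup.normalizer ((P : Subgroup G) : Set G) := by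
    rw [Subgroup.zpowers_le]
    exact Subgroup.centralizer_le_normalizer _ hu
  have h3 := IsPGroup.to_sup_of_normal_right' h1 P.2 h2
  have h4 := P.is_maximal' h3 le_sup_right
  have h5 : u ∈ Subgroup.zpowers u ⊔ (P : Subgroup G) :=
    Subgroup.mem_sup_left (Subgroup.mem_zpowers u)
  rw [h4] at h5
  exact h5

/-- An element of a finite group is the product of a power of `p`-power order and a power of
order prime to `p`. -/
theorem h76_p_decomp {G : Type u} [Group G] [Finite G] (p : ℕ) [Fact p.Prime] (g : G) :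
    ∃ (a b : ℤ) (e : ℕ), g = g ^ a * g ^ b ∧ (g ^ a) ^ p ^ e = 1 ∧ ¬ p ∣ orderOf (g ^ b) := by
  have hp : p.Prime := Fact.out
  have hn : orderOf g ≠ 0 := (orderOf_pos g).ne'
  obtain ⟨e, n', hn', hn⟩ := Nat.exists_eq_pow_mul_and_not_dvd hn p hp.ne_one
  have hcop : Nat.Coprime (p ^ e) n' :=
    Nat.Coprime.pow_left e ((Nat.Prime.coprime_iff_not_dvd hp).mpr hn')
  have hb := Nat.gcd_eq_gcd_ab (p ^ e) n'
  rw [hcop.gcd_eq_one] at hb
  have hg1 : g ^ (p ^ e * n') = 1 := by
    rw [← hn]
    exact pow_orderOf_eq_one g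
  refine ⟨(n' : ℤ) * Nat.gcdB (p ^ e) n', ((p ^ e : ℕ) : ℤ) * Nat.gcdA (p ^ e) n', e, ?_, ?_, ?_⟩
  · rw [← zpow_add]
    have h1 : (n' : ℤ) * Nat.gcdB (p ^ e) n' + ((p ^ e : ℕ) : ℤ) * Nat.gcdA (p ^ e) n' = 1 := by
      rw [add_comm]
      exact hb.symm
    rw [h1, zpow_one]
  · rw [← zpow_natCast, ← zpow_mul]
    have h1 : (n' : ℤ) * Nat.gcdB (p ^ e) n' * ((p ^ e : ℕ) : ℤ) =
        ((p ^ e * n' : ℕ) : ℤ) * Nat.gcdB (p ^ e) n' := by
      push_cast
      ring
    rw [h1, zpow_mul, zpow_natCast, hg1, one_zpow]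
  · intro hdvd
    apply hn'
    apply hdvd.trans
    apply orderOf_dvd_of_pow_eq_one
    rw [← zpow_natCast, ← zpow_mul]
    have h1 : ((p ^ e : ℕ) : ℤ) * Nat.gcdA (p ^ e) n' * (n' : ℤ) =
        ((p ^ e * n' : ℕ) : ℤ) * Nat.gcdA (p ^ e) n' := by
      push_cast
      ring
    rw [h1, zpow_mul, zpow_natCast, hg1, one_zpow]

/-- R12 (V7a): the image of `P` in `G / Z(G)` is a self-centralizing Sylow `p`-subgroup of
order `p`. -/
theorem h76_R_quot_sylow {G : Type u} [Group G] [Finite G] (p : ℕ) [Fact p.Prime]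
    (hnn : ∀ H : Subgroup G, H.Normal → Nat.card H ≠ p) (P : Sylow p G)
    (hP : Nat.card P = p)
    (hK : ∀ k ∈ Subgroup.centralizer ((P : Subgroup G) : Set G), ¬ p ∣ orderOf k →
      k ∈ Subgroup.center G) :
    ∃ Q : Sylow p (G ⧸ Subgroup.center G),
      (Q : Subgroup (G ⧸ Subgroup.center G)) =
        (P : Subgroup G).map (QuotientGroup.mk' (Subgroup.center G)) ∧
      Nat.card Q = p ∧
      Subgroup.centralizer ((Q : Subgroup (G ⧸ Subgroup.center G)) :
        Set (G ⧸ Subgroup.center G)) = (Q : Subgroup (G ⧸ Subgroup.center G)) := by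
  classical
  have hp : p.Prime := Fact.out
  -- no central element of order `p`
  have hz : ∀ z ∈ Subgroup.center G, z ^ p = 1 → z = 1 := by
    intro z hzc hzp
    by_contra hz1
    have ho : orderOf z = p := orderOf_eq_prime hzp hz1
    have hle : Subgroup.zpowers z ≤ Subgroup.center G := by
      rw [Subgroup.zpowers_le]
      exact hzc
    have hnormal : (Subgroup.zpowers z).Normal := by
      constructor
      intro n hn g
      have hnc : n ∈ Subgroup.center G := hle hn
      have h1 : g * n * g⁻¹ = n := by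
        rw [Subgroup.mem_center_iff.mp hnc g, mul_inv_cancel_right]
      rw [h1]
      exact hn
    exact hnn _ hnormal (by rw [Nat.card_zpowers, ho])
  -- a generator of `P`
  obtain ⟨x', hx'⟩ := exists_prime_orderOf_dvd_card' (G := ↥(P : Subgroup G)) p
    (by rw [hP])
  obtain ⟨x, hxdef⟩ : ∃ x : G, x = (x' : G) := ⟨_, rfl⟩
  have hxP : x ∈ (P : Subgroup G) := by
    rw [hxdef]
    exact x'.2
  have hxo : orderOf x = p := by
    rw [hxdef, Subgroup.orderOf_coe]
    exact hx'
  have hPx : Subgroup.zpowers x = (P : Subgroup G) := by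
    apply Subgroup.eq_of_le_of_card_ge
    · rw [Subgroup.zpowers_le]
      exact hxP
    · rw [Nat.card_zpowers, hxo]
      exact le_of_eq hP
  have hxp : x ^ p = 1 := by
    rw [← hxo]
    exact pow_orderOf_eq_one x
  have hx1 : x ≠ 1 := by
    rintro rfl
    rw [orderOf_one] at hxo
    exact hp.one_lt.ne hxo
  have hxZ : x ∉ Subgroup.center G := fun h => hx1 (hz x h hxp)
  obtain ⟨Q, hQdef⟩ : ∃ Q : Sylow p (G ⧸ Subgroup.center G),
      Q = P.mapSurjective (QuotientGroup.mk'_surjective (Subgroup.center G)) := ⟨_, rfl⟩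
  have hQ : (Q : Subgroup (G ⧸ Subgroup.center G)) =
      (P : Subgroup G).map (QuotientGroup.mk' (Subgroup.center G)) := by
    rw [hQdef]
    rfl
  have hmem : ∀ y : G ⧸ Subgroup.center G, y ∈ (Q : Subgroup (G ⧸ Subgroup.center G)) ↔
      ∃ j : ℤ, y = ((x ^ j : G) : G ⧸ Subgroup.center G) := by
    intro y
    rw [hQ, Subgroup.mem_map]
    constructor
    · rintro ⟨u, hu, rfl⟩
      rw [← hPx] at hu
      obtain ⟨j, rfl⟩ := Subgroup.mem_zpowers_iff.mp hu
      exact ⟨j, rfl⟩
    · rintro ⟨j, rfl⟩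
      refine ⟨x ^ j, ?_, rfl⟩
      rw [← hPx]
      exact Subgroup.zpow_mem_zpowers x j
  refine ⟨Q, hQ, ?_, ?_⟩
  · have hdvd : Nat.card (Q : Subgroup (G ⧸ Subgroup.center G)) ∣ p := by
      rw [hQ]
      exact (Subgroup.card_map_dvd _ _).trans (dvd_of_eq hP)
    rcases (Nat.dvd_prime hp).mp hdvd with h1 | h1
    · exfalso
      have hbot := Subgroup.card_eq_one.mp h1
      have hxQ : ((x : G) : G ⧸ Subgroup.center G) ∈ (Q : Subgroup (G ⧸ Subgroup.center G)) :=
        (hmem _).mpr ⟨1, by rw [zpow_one]⟩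
      rw [hbot, Subgroup.mem_bot] at hxQ
      exact hxZ ((QuotientGroup.eq_one_iff x).mp hxQ)
    · exact h1
  · apply le_antisymm
    · intro y hy
      obtain ⟨g, rfl⟩ := QuotientGroup.mk_surjective y
      rw [Subgroup.mem_centralizer_iff] at hy
      have hxQ : ((x : G) : G ⧸ Subgroup.center G) ∈ (Q : Subgroup (G ⧸ Subgroup.center G)) :=
        (hmem _).mpr ⟨1, by rw [zpow_one]⟩
      have h1 := hy _ hxQ
      have h2 : ((x * g : G) : G ⧸ Subgroup.center G) = ((g * x : G) : G ⧸ Subgroup.center G) :=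
        h1
      have hzZ := QuotientGroup.eq.mp h2
      obtain ⟨z, hzdef⟩ : ∃ z : G, z = (x * g)⁻¹ * (g * x) := ⟨_, rfl⟩
      rw [← hzdef] at hzZ
      have hcz : ∀ h : G, h * z = z * h := Subgroup.mem_center_iff.mp hzZ
      have hgx : g * x = x * g * z := by
        rw [hzdef]
        group
      have hconj : g * x * g⁻¹ = x * z := by
        rw [hgx, mul_assoc x g z, hcz g, ← mul_assoc, mul_inv_cancel_right]
      have hzp : z ^ p = 1 := by
        have h3 : (x * z) ^ p = x ^ p * z ^ p := (show Commute x z from hcz x).mul_pow p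
        rw [← hconj, conj_pow, hxp, mul_one, mul_inv_cancel, one_mul] at h3
        exact h3.symm
      have hz1 : z = 1 := hz z hzZ hzp
      rw [hz1, mul_one] at hgx
      have hgC : g ∈ Subgroup.centralizer ((P : Subgroup G) : Set G) := by
        rw [Subgroup.mem_centralizer_iff]
        intro h hh
        have hh' : h ∈ Subgroup.zpowers x := by
          rw [hPx]
          exact hh
        obtain ⟨j, rfl⟩ := Subgroup.mem_zpowers_iff.mp hh'
        exact ((show Commute x g from hgx.symm).zpow_left j).eq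
      obtain ⟨a, b, e, hab, ha, hb⟩ := h76_p_decomp p g
      have haC : g ^ a ∈ Subgroup.centralizer ((P : Subgroup G) : Set G) :=
        Subgroup.zpow_mem _ hgC a
      have hbC : g ^ b ∈ Subgroup.centralizer ((P : Subgroup G) : Set G) :=
        Subgroup.zpow_mem _ hgC b
      have hbZ : g ^ b ∈ Subgroup.center G := hK _ hbC hb
      have haP : g ^ a ∈ (P : Subgroup G) := h76_mem_sylow_of_mem_centralizer p P _ haC e ha
      have h5 : ((g : G) : G ⧸ Subgroup.center G) = ((g ^ a : G) : G ⧸ Subgroup.center G) := by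
        rw [QuotientGroup.eq]
        have h6 : g⁻¹ * g ^ a = (g ^ b)⁻¹ := by
          have h7 : g ^ a = g * (g ^ b)⁻¹ := by
            rw [eq_mul_inv_iff_mul_eq]
            exact hab.symm
          rw [h7, inv_mul_cancel_left]
        rw [h6]
        exact Subgroup.inv_mem _ hbZ
      rw [h5, hQ]
      exact Subgroup.mem_map_of_mem _ haP
    · intro y hy
      rw [Subgroup.mem_centralizer_iff]
      intro h hh
      obtain ⟨j, rfl⟩ := (hmem y).mp hy
      obtain ⟨j', rfl⟩ := (hmem h).mp hh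
      have h1 : x ^ j' * x ^ j = x ^ j * x ^ j' := ((Commute.refl x).zpow_zpow j' j).eq
      show ((x ^ j' * x ^ j : G) : G ⧸ Subgroup.center G) = ((x ^ j * x ^ j' : G) : G ⧸ Subgroup.center G)
      rw [h1]

end Cfsg.Agent.Lib.helper2.BG
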