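/-
Bender-Glauberman, towards Theorem 14.2 (statement S1430), case `κ(M) ∩ τ₃(M) ≠ ∅`:
PIECE F1 of the split of helper8 (`tools/S1430_OC_SPEC.md`).  In the singular `τ₃` context, once
every subgroup `P ≤ E` of order in `τ₁(M)` centralizes `R` (KC), `C_{M_σ}(P) ≤ C(E)`.
-/
import Mathlib
import Cfsg.Agent.S1428
import Cfsg.Agent.Lib.helper8.BGT3Defs
import Cfsg.Agent.Lib.helper8.BGTen5
import Cfsg.Agent.Lib.helper87.BG1430Asm
import Cfsg.Agent.Lib.helper87.BGNAN3
import Cfsg.Agent.Lib.helper60.BGTau2Ab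
import Cfsg.Agent.Lib.helper98.BGT3End

set_option autoImplicit false
open Cfsg

namespace Cfsg.Agent.Lib.helper76.BGT3

open Cfsg.Agent.Lib.helper8.BGT3
open Cfsg.Agent.Lib.helper87.BG142

variable {G : Type*} [Group G]

/-- A subgroup containing some Sylow `q`-subgroup of `E` for every prime `q` contains `E`. -/
theorem f1_le_of_exists_sylow_le [Finite G] (E D : Subgroup G)
    (h : ∀ (q : ℕ) [Fact q.Prime], ∃ Q : Sylow q ↥E, (Q : Subgroup ↥E).map E.subtype ≤ D) :
    E ≤ D := by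
  have hD : D.subgroupOf E = ⊤ := by
    apply Subgroup.eq_top_of_card_eq
    apply Nat.dvd_antisymm (Subgroup.card_subgroup_dvd_card _)
    rw [← Nat.factorization_prime_le_iff_dvd Nat.card_pos.ne' Nat.card_pos.ne']
    intro q hq
    have : Fact q.Prime := ⟨hq⟩
    obtain ⟨Q, hQD⟩ := h q
    have hQ : (Q : Subgroup ↥E) ≤ D.subgroupOf E := by
      intro x hx
      exact Subgroup.mem_subgroupOf.mpr (hQD ⟨x, hx, rfl⟩)
    have h1 : Nat.card (Q : Subgroup ↥E) ∣ Nat.card (D.subgroupOf E) := Subgroup.card_dvd_of_le hQ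
    rw [Sylow.card_eq_multiplicity] at h1
    exact (hq.pow_dvd_iff_le_factorization Nat.card_pos.ne').mp h1
  intro x hx
  have : (⟨x, hx⟩ : ↥E) ∈ D.subgroupOf E := by rw [hD]; trivial
  exact Subgroup.mem_subgroupOf.mp this

/-- If `c ∈ M_σ` commutes with an element `y ∈ E` of prime order `s`, `M` of `s`-rank one, then
`c` commutes with a Sylow `s`-subgroup of `E`. -/
theorem f1_sylow [Finite G] (hG : IsMinSimpleOddOrder G) (M : Subgroup G) (hM : IsCoatom M)
    (E : Subgroup G) (hE : IsComplIn E (sigmaCore M) M) (s : ℕ) [Fact s.Prime]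
    (hs1 : PRankLE s 1 M) (c : G) (hc : c ∈ sigmaCore M) (y : G) (hyE : y ∈ E)
    (hys : orderOf y = s) (hyc : y * c = c * y) :
    ∃ Q : Sylow s ↥E,
      (Q : Subgroup ↥E).map E.subtype ≤ Subgroup.centralizer ({c} : Set G) := by
  have hEM : E ≤ M := hE.1
  have hpg : IsPGroup s (Subgroup.zpowers (⟨y, hyE⟩ : E)) := by
    apply IsPGroup.of_card (n := 1)
    rw [Nat.card_zpowers, pow_one, Subgroup.orderOf_mk, hys]
  obtain ⟨Q, hQ⟩ := hpg.exists_le_sylow
  refine ⟨Q, ?_⟩
  have hQc : IsCyclic (Q : Subgroup E) :=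
    Cfsg.Agent.Lib.helper8.bg_sylow_cyclic_of_prank_one hG.1 hEM s hs1 Q
  have hyQ : (⟨y, hyE⟩ : E) ∈ (Q : Subgroup E) := hQ (Subgroup.mem_zpowers _)
  rintro _ ⟨k, hk, rfl⟩
  show (k : G) ∈ Subgroup.centralizer ({c} : Set G)
  by_cases hk1 : (k : G) = 1
  · rw [hk1]; exact Subgroup.one_mem _
  obtain ⟨a, ha⟩ := (IsPGroup.iff_orderOf.mp Q.isPGroup') ⟨k, hk⟩
  have hka : orderOf (k : G) = s ^ a := by
    rw [Subgroup.orderOf_mk] at ha
    rw [Subgroup.orderOf_coe]; exact ha
  have hsp : s.Prime := Fact.out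
  have ha0 : a ≠ 0 := by
    rintro rfl
    rw [pow_zero] at hka
    exact hk1 (orderOf_eq_one_iff.mp hka)
  have hsk : s ∣ orderOf (k : G) := by rw [hka]; exact dvd_pow_self s ha0
  have hord : orderOf ((k : G) ^ (orderOf (k : G) / s)) = s :=
    orderOf_pow_orderOf_div (orderOf_pos (k : G)).ne' hsk
  have hkn : (k : G) ^ (orderOf (k : G) / s) ≠ 1 := by
    intro h0
    rw [h0, orderOf_one] at hord
    exact hsp.one_lt.ne hord
  -- the power commutes with `y` since `Q` is cyclic
  have hcomm : (k : G) ^ (orderOf (k : G) / s) * y = y * (k : G) ^ (orderOf (k : G) / s) := by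
    have hcomm' : ∀ u v : (Q : Subgroup E), u * v = v * u := by
      intro u v
      obtain ⟨g, hg⟩ := hQc.exists_generator
      obtain ⟨i, rfl⟩ := Subgroup.mem_zpowers_iff.mp (hg u)
      obtain ⟨j, rfl⟩ := Subgroup.mem_zpowers_iff.mp (hg v)
      exact ((Commute.refl g).zpow_zpow i j).eq
    have h1 := hcomm' ((⟨k, hk⟩ : (Q : Subgroup E)) ^ (orderOf (k : G) / s)) ⟨⟨y, hyE⟩, hyQ⟩
    have h2 := congrArg (fun u : (Q : Subgroup E) => ((u : E) : G)) h1
    simpa using h2
  have hxz : (k : G) ^ (orderOf (k : G) / s) ∈ Subgroup.zpowers y := by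
    apply Cfsg.Agent.Lib.helper98.BGT3.t3_mem_zpowers M s hs1 y
      ((k : G) ^ (orderOf (k : G) / s)) (hEM hyE) (M.pow_mem (hEM k.2) _) hys
    · have h0 := pow_orderOf_eq_one ((k : G) ^ (orderOf (k : G) / s))
      rwa [hord] at h0
    · exact hcomm
  have hxc : (k : G) ^ (orderOf (k : G) / s) * c = c * (k : G) ^ (orderOf (k : G) / s) := by
    obtain ⟨m, hm⟩ := Subgroup.mem_zpowers_iff.mp hxz
    rw [← hm]
    exact ((show Commute y c from hyc).zpow_left m).eq
  have h1 := cent_pelem hG M hM E hE s hs1 (k : G) k.2 a hka (orderOf (k : G) / s) hkn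
  have h2 : c ∈ sigmaCore M ⊓ Subgroup.centralizer ({(k : G)} : Set G) := by
    rw [← h1]
    exact Subgroup.mem_inf.mpr ⟨hc, mem_cent_singleton.mpr hxc⟩
  have h3 : (k : G) * c = c * (k : G) := mem_cent_singleton.mp (Subgroup.mem_inf.mp h2).2
  rw [Subgroup.mem_centralizer_iff]
  intro z hz
  rw [Set.mem_singleton_iff] at hz
  subst hz
  exact h3.symm

/-- PIECE F1. -/
theorem t3_centP [Finite G] (hG : IsMinSimpleOddOrder G) (_hN : HNorm G) (hT2 : HTau2 G)
    (hE3 : HE3 G) (hKC : HKillC G) : HCentP G := by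
  intro M E R r hS p P hp hPE hP
  obtain ⟨⟨hM, hE, hr3, hRE, hRr⟩, hne⟩ := id hS
  have hEM : E ≤ M := hE.1
  have hpp : p.Prime := hp.1
  have hrp : r.Prime := hr3.1
  -- `P` centralizes `R`
  have hPR : P ≤ Subgroup.centralizer (R : Set G) := hKC M E R r hS p P hp hPE hP
  have hRP : R ≤ Subgroup.centralizer (P : Set G) := by
    intro x hx
    rw [Subgroup.mem_centralizer_iff]
    intro g hg
    exact ((Subgroup.mem_centralizer_iff.mp (hPR hg)) x hx).symm
  have h28 : sigmaCore M ⊓ Subgroup.centralizer (P : Set G) ≤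
      sigmaCore M ⊓ Subgroup.centralizer (R : Set G) :=
    Cfsg.Agent.S1428.result hG M hM E hE p hp P hPE hP R (le_inf hRE hRP) (by rw [hRr]; exact hrp)
  intro c hc
  obtain ⟨hcσ, hcP⟩ := Subgroup.mem_inf.mp hc
  have hcR : c ∈ sigmaCore M ⊓ Subgroup.centralizer (R : Set G) := h28 hc
  -- it suffices that `E ≤ C(c)`
  suffices hsuff : E ≤ Subgroup.centralizer ({c} : Set G) by
    rw [Subgroup.mem_centralizer_iff]
    intro e he
    exact ((Subgroup.mem_centralizer_iff.mp (hsuff he)) c rfl).symm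
  apply f1_le_of_exists_sylow_le
  intro s _
  have hsp : s.Prime := Fact.out
  by_cases hsE : s ∣ Nat.card E
  · -- `s` has rank one
    have hs1 : PRankLE s 1 M := by
      by_contra h1
      exact hT2 M E R r hS s
        (Cfsg.Agent.Lib.helper60.BGTau2Ab.mem_tau2_of_dvd_card_compl hG M hM E hE s hsp hsE h1)
    have hsσ : s ∉ sigma M :=
      Cfsg.Agent.Lib.helper60.BGTau2Ab.not_mem_sigma_of_dvd_card_compl hG M hM E hE s hsp hsE
    -- an element of order `s` of `E` commuting with `c`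
    have hy : ∃ y ∈ E, orderOf y = s ∧ y * c = c * y := by
      by_cases hs3 : s ∣ Nat.card ↥⁅M, M⁆
      · -- `s ∈ τ₃(M)`
        have hsτ3 : s ∈ tau3 M := ⟨hsp, hsσ, hs3, hs1⟩
        obtain ⟨y, hy⟩ := exists_prime_orderOf_dvd_card' s hsE
        have hy' : orderOf (y : G) = s := by rw [Subgroup.orderOf_coe]; exact hy
        refine ⟨y, y.2, hy', ?_⟩
        have h1 := hE3 M E R r hS (Subgroup.zpowers (y : G)) (Subgroup.zpowers_le.mpr y.2)
          (by rw [Nat.card_zpowers, hy']; exact hsτ3)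
        have h2 : c ∈ sigmaCore M ⊓ Subgroup.centralizer ((Subgroup.zpowers (y : G) : Subgroup G) : Set G) := by
          rw [h1]; exact hcR
        rw [cent_zpowers] at h2
        exact mem_cent_singleton.mp (Subgroup.mem_inf.mp h2).2
      · -- `s ∈ τ₁(M)`
        have hsM : s ∣ Nat.card M := hsE.trans (Subgroup.card_dvd_of_le hEM)
        have hsτ1 : s ∈ tau1 M := ⟨hsp, hsσ, hsM, hs3, hs1⟩
        by_cases hsp' : s = p
        · subst hsp'
          have : Fact (Nat.card P).Prime := ⟨by rw [hP]; exact hsp⟩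
          obtain ⟨y, hy⟩ := exists_prime_orderOf_dvd_card' (G := P) (Nat.card P) dvd_rfl
          have hy' : orderOf (y : G) = s := by rw [Subgroup.orderOf_coe, hy, hP]
          refine ⟨y, hPE y.2, hy', ?_⟩
          exact (Subgroup.mem_centralizer_iff.mp hcP) y y.2
        · obtain ⟨y, hyE, hyo, hyP⟩ :=
            Cfsg.Agent.Lib.helper87.BGNA.exists_comm_of_tau1 hG M hM E hE p hp P hPE hP s hsτ1 hsp'
          refine ⟨y, hyE, hyo, ?_⟩
          have hYP : Subgroup.zpowers y ≤ E ⊓ Subgroup.centralizer (P : Set G) := by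
            rw [Subgroup.zpowers_le]
            refine Subgroup.mem_inf.mpr ⟨hyE, ?_⟩
            rw [Subgroup.mem_centralizer_iff]
            exact hyP
          have h1 := Cfsg.Agent.S1428.result hG M hM E hE p hp P hPE hP (Subgroup.zpowers y) hYP
            (by rw [Nat.card_zpowers, hyo]; exact hsp)
          have h2 := h1 hc
          rw [cent_zpowers] at h2
          exact mem_cent_singleton.mp (Subgroup.mem_inf.mp h2).2
    obtain ⟨y, hyE, hyo, hyc⟩ := hy
    exact f1_sylow hG M hM E hE s hs1 c hcσ y hyE hyo hyc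
  · -- the Sylow `s`-subgroup of `E` is trivial
    obtain ⟨Q⟩ : Nonempty (Sylow s ↥E) := inferInstance
    refine ⟨Q, ?_⟩
    have hQ1 : Nat.card (Q : Subgroup ↥E) = 1 := by
      obtain ⟨n, hn⟩ := IsPGroup.iff_card.mp Q.isPGroup'
      have h1 : Nat.card (Q : Subgroup ↥E) ∣ Nat.card E := Subgroup.card_subgroup_dvd_card _
      rcases Nat.eq_zero_or_pos n with h0 | hpos
      · rw [hn, h0, pow_zero]
      · exfalso
        apply hsE
        refine dvd_trans ?_ h1
        rw [hn]
        exact dvd_pow_self s hpos.ne'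
    rintro _ ⟨k, hk, rfl⟩
    have hk1 : (⟨k, hk⟩ : (Q : Subgroup ↥E)) = 1 := by
      have hsub : Subsingleton (Q : Subgroup ↥E) := (Nat.card_eq_one_iff_unique.mp hQ1).1
      exact Subsingleton.elim _ _
    have hk2 : k = 1 := by
      have := congrArg Subtype.val hk1
      simpa using this
    rw [hk2]
    exact Subgroup.one_mem _

/-- Check against the skeleton statement. -/
example [Finite G] (hG : IsMinSimpleOddOrder G) (hN : HNorm G) (hT2 : HTau2 G)
    (hE3 : HE3 G) (hKC : HKillC G) : HCentP G := t3_centP hG hN hT2 hE3 hKC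

end Cfsg.Agent.Lib.helper76.BGT3
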