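/-
Bender-Glauberman, towards Theorem 14.2 (statement S1430), case `κ(M) ∩ τ₃(M) ≠ ∅`:
PIECE S1 of the split of helper8 (`tools/S1430_OC_SPEC.md`).  Two nonconjugate maximal subgroups
`M`, `L` sharing a Sylow `q`-subgroup `S` of `G` with `q ∈ σ(M) ∩ σ(L)`: `M ∩ L` normalizes `S`
and contains a complement of `M_σ` in `M`.
-/
import Mathlib
import Cfsg.Agent.S1405
import Cfsg.Agent.S1426
import Cfsg.Agent.Lib.helper8.BGT3Defs
import Cfsg.Agent.Lib.helper8.BGTen1
import Cfsg.Agent.Lib.helper8.BGTen5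
import Cfsg.Agent.Lib.helper8.BGTwelve
import Cfsg.Agent.Lib.helper13.BG11a
import Cfsg.Agent.Lib.helper54.BG1428Good
import Cfsg.Agent.Lib.helper55.BGSigmaJ
import Cfsg.Agent.Lib.helper60.BGCentU
import Cfsg.Agent.Lib.helper60.BGTau2Ab
import Cfsg.Agent.Lib.lead.Hall
import Cfsg.Agent.Lib.helper25.KW4
import Cfsg.Agent.Lib.helper76.BG134K
import Cfsg.Agent.Lib.helper76.SylowBasic

set_option autoImplicit false
open Cfsg

namespace Cfsg.Agent.Lib.helper76.BGT3

open Cfsg.Agent.Lib.helper8.BGT3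

variable {G : Type*} [Group G]

/-- S1, complement part: `M ∩ L` contains a complement of `M_σ` in `M`. -/
theorem s1_compl [Finite G] (hG : IsMinSimpleOddOrder G) (M L : Subgroup G) (hM : IsCoatom M)
    (q : ℕ) (S : Subgroup G) (hqM : q ∈ sigma M) (hqL : q ∈ sigma L)
    (hSq : IsPGroup q S) (hSM : S ≤ M) (hSL : S ≤ L) (hSi : ¬ q ∣ S.index) :
    ∃ E : Subgroup G, IsComplIn E (sigmaCore M) M ∧ E ≤ L := by
  have hqp : q.Prime := hqM.1
  have : Fact q.Prime := ⟨hqp⟩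
  have hU := k_hU hG
  have hF := k_hF hG
  have hPL := k_hPL hG
  obtain ⟨hodd, hsimple, hna, hsolv⟩ := id hG
  have hNL : Subgroup.normalizer (S : Set G) ≤ L :=
    Cfsg.Agent.Lib.helper13.sigma_normalizer_le L hqL S hSL hSq hSi
  have hidx : ¬ q ∣ S.relIndex M := fun h => hSi (h.trans (Subgroup.relIndex_dvd_index_of_le hSM))
  have hβ : ∀ r : ℕ, r.Prime → r ∉ sigma M → ¬ r ∣ (L ⊓ M).relIndex M := by
    intro r hr hrσ
    apply Cfsg.Agent.Lib.helper55.BGJ.caseA_index hG hU hF hPL (M := L) (L := M) hM hqM S hSq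
      (le_inf hSL hSM) hNL hidx hr
    intro hrβ
    exact hrσ (Cfsg.Agent.Lib.helper8.bg_alpha_sub_sigma hG hU M hM hrβ.1)
  set D : Subgroup G := L ⊓ M with hD
  have hDM : D ≤ M := inf_le_right
  have hDsolv : Group.IsSolvable ↥D :=
    hsolv D (fun h => hM.1 (top_le_iff.mp (h ▸ hDM)))
  obtain ⟨X₀, hX₀⟩ :=
    Cfsg.Agent.Lib.lead.exists_isPiHall_of_isSolvable {p : ℕ | p ∉ sigma M} ↥D
  set X : Subgroup G := X₀.map D.subtype with hX
  have hXD : X ≤ D := Subgroup.map_subtype_le X₀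
  have hXcard : Nat.card X = Nat.card X₀ := Subgroup.card_map_of_injective D.subtype_injective
  have hXσ : ∀ p : ℕ, p.Prime → p ∣ Nat.card X → p ∉ sigma M := by
    intro p hp hpX
    rw [hXcard] at hpX
    exact hX₀.1 p hp hpX
  have hXrel : X.relIndex D = X₀.index := by
    have h1 : X.subgroupOf D = X₀ :=
      Subgroup.comap_map_eq_self_of_injective D.subtype_injective X₀
    rw [Subgroup.relIndex, h1]
  obtain ⟨E, hE, hXE⟩ :=
    Cfsg.Agent.Lib.helper60.BGCentU.exists_compl_ge hG M hM X (hXD.trans hDM) hXσ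
  refine ⟨E, hE, ?_⟩
  have hEX : X.relIndex E = 1 := by
    by_contra hne
    obtain ⟨r, hr, hrd⟩ := Nat.exists_prime_and_dvd hne
    have hrE : r ∣ Nat.card E := hrd.trans (Subgroup.relIndex_dvd_card X E)
    have hrσ : r ∉ sigma M :=
      Cfsg.Agent.Lib.helper60.BGTau2Ab.not_mem_sigma_of_dvd_card_compl hG M hM E hE r hr hrE
    have h1 : r ∣ X.relIndex M :=
      hrd.trans (Dvd.intro _ (Subgroup.relIndex_mul_relIndex X E M hXE hE.1))
    rw [← Subgroup.relIndex_mul_relIndex X D M hXD hDM] at h1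
    rcases (Nat.Prime.dvd_mul hr).mp h1 with h2 | h2
    · rw [hXrel] at h2
      exact hX₀.2 r hr hrσ h2
    · exact hβ r hr hrσ h2
  exact (Subgroup.relIndex_eq_one.mp hEX).trans (hXD.trans inf_le_left)

/-- S1, normalizer part: `M ∩ L` normalizes `S`. -/
theorem s1_norm [Finite G] (hG : IsMinSimpleOddOrder G) (M L : Subgroup G) (hM : IsCoatom M)
    (hL : IsCoatom L) (hnc : ∀ g : G, L ≠ M.map (MulAut.conj g).toMonoidHom)
    (q : ℕ) (S : Subgroup G) (hqM : q ∈ sigma M) (hqL : q ∈ sigma L)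
    (hSq : IsPGroup q S) (hSM : S ≤ M) (hSL : S ≤ L) (hSi : ¬ q ∣ S.index) :
    M ⊓ L ≤ Subgroup.normalizer (S : Set G) := by
  have hqp : q.Prime := hqM.1
  have : Fact q.Prime := ⟨hqp⟩
  have hU := k_hU hG
  have hF := k_hF hG
  set D0 : Subgroup G := sigmaCore M ⊓ sigmaCore L with hD0
  have hSD0 : S ≤ D0 :=
    le_inf (Cfsg.Agent.Lib.helper8.bg_pgroup_le_sigmaCore hG hU hF M hM hqM S hSM hSq)
      (Cfsg.Agent.Lib.helper8.bg_pgroup_le_sigmaCore hG hU hF L hL hqL S hSL hSq)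
  have hσM : sigmaCore M ≤ M := Subgroup.map_subtype_le _
  have hD0M : D0 ≤ M := inf_le_left.trans hσM
  have hnc' : ∀ g : G, M ≠ L.map (MulAut.conj g).toMonoidHom := by
    intro g h
    apply hnc g⁻¹
    rw [h]
    ext x
    constructor
    · intro hx
      refine ⟨g * x * g⁻¹, ⟨x, hx, by simp [MulAut.conj_apply]⟩, ?_⟩
      simp [MulAut.conj_apply]
      group
    · rintro ⟨y, ⟨z, hz, rfl⟩, rfl⟩
      have : (MulAut.conj g⁻¹).toMonoidHom ((MulAut.conj g).toMonoidHom z) = z := by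
        simp [MulAut.conj_apply]
        group
      rw [this]
      exact hz
  have hnil := (Cfsg.Agent.S1405.result hG M hM).2.2.2.2
  have halpha : alphaCore M ⊓ sigmaCore L = ⊥ :=
    Cfsg.Agent.Lib.helper54.Good.alphaCore_inf_sigmaCore hG L M hL hM hnc'
  -- `M_σ ≤ M'`
  have hσM' : sigmaCore M ≤ ⁅M, M⁆ := by
    obtain ⟨E, hE, -⟩ := Cfsg.Agent.Lib.helper60.BGCentU.exists_compl_ge hG M hM ⊥ bot_le
      (by
        intro p hp hpd
        rw [Subgroup.card_bot] at hpd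
        exact absurd (Nat.dvd_one.mp hpd) hp.one_lt.ne')
    calc sigmaCore M = ⁅sigmaCore M, E⁆ := (Cfsg.Agent.S1426.result hG M hM E hE).2.1.symm
      _ ≤ ⁅M, M⁆ := Subgroup.commutator_mono hσM hE.1
  -- `D0` embeds in `M'/M_α`
  have hmem : ∀ x : ↥D0,
      (QuotientGroup.mk' (piCore (alpha M) ↥M)) (Subgroup.inclusion hD0M x) ∈
        (commutator ↥M).map (QuotientGroup.mk' (piCore (alpha M) ↥M)) := by
    intro x
    refine ⟨Subgroup.inclusion hD0M x, ?_, rfl⟩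
    have h1 : (x : G) ∈ ⁅M, M⁆ := hσM' ((inf_le_left : D0 ≤ sigmaCore M) x.2)
    rw [← Subgroup.map_subtype_commutator] at h1
    obtain ⟨y, hy, hyx⟩ := h1
    have h2 : y = Subgroup.inclusion hD0M x := Subtype.ext hyx
    rw [← h2]
    exact hy
  let f : ↥D0 →* ↥((commutator ↥M).map (QuotientGroup.mk' (piCore (alpha M) ↥M))) :=
    ((QuotientGroup.mk' (piCore (alpha M) ↥M)).comp (Subgroup.inclusion hD0M)).codRestrict _ hmem
  have hf : Function.Injective f := by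
    rw [injective_iff_map_eq_one]
    intro x hx
    have h1 : (QuotientGroup.mk' (piCore (alpha M) ↥M)) (Subgroup.inclusion hD0M x) = 1 :=
      congrArg Subtype.val hx
    rw [QuotientGroup.mk'_apply, QuotientGroup.eq_one_iff] at h1
    have h2 : (x : G) ∈ alphaCore M := ⟨_, h1, rfl⟩
    have h3 : (x : G) ∈ alphaCore M ⊓ sigmaCore L :=
      Subgroup.mem_inf.mpr ⟨h2, (inf_le_right : D0 ≤ sigmaCore L) x.2⟩
    rw [halpha] at h3
    exact Subtype.ext (Subgroup.mem_bot.mp h3)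
  have hD0nil : Group.IsNilpotent ↥D0 :=
    Cfsg.Agent.Lib.helper8.bg_isNilpotent_of_injective f hf hnil
  -- `S` is the normal Sylow `q`-subgroup of `D0`
  have hS'q : IsPGroup q (S.subgroupOf D0) :=
    hSq.comap_of_injective D0.subtype D0.subtype_injective
  have hS'i : ¬ q ∣ (S.subgroupOf D0).index := fun h =>
    hSi (h.trans (Subgroup.relIndex_dvd_index_of_le hSD0))
  let P : Sylow q ↥D0 := hS'q.toSylow hS'i
  have hPn : (P : Subgroup ↥D0).Normal := inferInstance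
  have hPmem : ∀ y : ↥D0, y ∈ P ↔ (y : G) ∈ S := by
    intro y
    show y ∈ S.subgroupOf D0 ↔ _
    exact Subgroup.mem_subgroupOf
  apply Cfsg.Agent.Lib.helper25.KW.le_normalizer_of_conj
  intro d hd x hx
  have hdM : d ∈ M := (Subgroup.mem_inf.mp hd).1
  have hdL : d ∈ L := (Subgroup.mem_inf.mp hd).2
  have hxD0 : x ∈ D0 := hSD0 hx
  have hconj : d * x * d⁻¹ ∈ D0 := by
    refine Subgroup.mem_inf.mpr ⟨?_, ?_⟩
    · exact ((Subgroup.mem_normalizer_iff.mp
        (Cfsg.Agent.Lib.helper13.le_normalizer_sigmaCore M hdM)) x).mp (Subgroup.mem_inf.mp hxD0).1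
    · exact ((Subgroup.mem_normalizer_iff.mp
        (Cfsg.Agent.Lib.helper13.le_normalizer_sigmaCore L hdL)) x).mp (Subgroup.mem_inf.mp hxD0).2
  obtain ⟨k, hk⟩ := hSq ⟨x, hx⟩
  have hxk : x ^ q ^ k = 1 := by
    have := congrArg Subtype.val hk
    simpa using this
  have hyk : (⟨d * x * d⁻¹, hconj⟩ : ↥D0) ^ q ^ k = 1 := by
    apply Subtype.ext
    show (d * x * d⁻¹) ^ q ^ k = 1
    rw [conj_pow, hxk]
    group
  have hord : ∃ j : ℕ, orderOf (⟨d * x * d⁻¹, hconj⟩ : ↥D0) = q ^ j := by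
    have h1 := orderOf_dvd_of_pow_eq_one hyk
    obtain ⟨j, -, hj⟩ := (Nat.dvd_prime_pow hqp).mp h1
    exact ⟨j, hj⟩
  have hyP : (⟨d * x * d⁻¹, hconj⟩ : ↥D0) ∈ P :=
    mem_sylow_of_normalizes q P _ hord (fun y hy => hPn.conj_mem y hy _)
  exact (hPmem _).mp hyP

/-- PIECE S1. -/
theorem t3_common [Finite G] (hG : IsMinSimpleOddOrder G) : HCommon G := by
  intro M L hM hL hnc q S hqM hqL hSq hSM hSL hSi
  exact ⟨s1_norm hG M L hM hL hnc q S hqM hqL hSq hSM hSL hSi,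
    s1_compl hG M L hM q S hqM hqL hSq hSM hSL hSi⟩

/-- Check against the skeleton statement. -/
example [Finite G] (hG : IsMinSimpleOddOrder G) : HCommon G := t3_common hG

end Cfsg.Agent.Lib.helper76.BGT3
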