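import Mathlib
import Cfsg.Agent.Lib.helper76.SylowBasic

set_option autoImplicit false

/-!
# Camina–Herzog: all 2-elements 2-central ⟹ abelian Sylow 2-subgroups

Elementary proof (no Z*-theorem, no Goldschmidt):
* `ch_swap`: an element swapping `x` and `x'` forces `x = x'` when a Sylow 2-subgroup
  centralises both (index-two trick);
* `ch_real`: real 2-elements are involutions;
* `ch_invol_comm`: involutions of a Sylow 2-subgroup commute;
* `ch_step`, `ch_omega_central`: involutions of a Sylow 2-subgroup are central in it;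
* `ch_comm`: the Sylow 2-subgroups are abelian.
-/

namespace Cfsg.Agent.Lib.helper76

open scoped Pointwise

/-- The Camina–Herzog hypothesis: every 2-element is centralised by a Sylow 2-subgroup. -/
def CH2 (G : Type*) [Group G] : Prop :=
  ∀ x : G, (∃ k : ℕ, orderOf x = 2 ^ k) →
    ∃ Q : Sylow 2 G, (Q : Subgroup G) ≤ Subgroup.centralizer ({x} : Set G)

/-- Index-two trick: if `y` swaps `x` and `x'` by conjugation and a Sylow 2-subgroup centralises
both, then `x' = x`. -/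
theorem ch_swap {G : Type*} [Group G] [Finite G] (Q : Sylow 2 G) (x x' y : G)
    (hQx : ∀ q ∈ Q, q * x * q⁻¹ = x) (hQx' : ∀ q ∈ Q, q * x' * q⁻¹ = x')
    (h1 : y * x * y⁻¹ = x') (h2 : y * x' * y⁻¹ = x) : x' = x := by
  by_contra hne
  let T : Subgroup G :=
    { carrier := {t | (t * x * t⁻¹ = x ∧ t * x' * t⁻¹ = x') ∨ (t * x * t⁻¹ = x' ∧ t * x' * t⁻¹ = x)}
      mul_mem' := by
        intro a b ha hb
        have e1 : a * b * x * (a * b)⁻¹ = a * (b * x * b⁻¹) * a⁻¹ := by group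
        have e2 : a * b * x' * (a * b)⁻¹ = a * (b * x' * b⁻¹) * a⁻¹ := by group
        rcases ha with ⟨ha1, ha2⟩ | ⟨ha1, ha2⟩ <;> rcases hb with ⟨hb1, hb2⟩ | ⟨hb1, hb2⟩
        · left; rw [e1, e2, hb1, hb2]; exact ⟨ha1, ha2⟩
        · right; rw [e1, e2, hb1, hb2]; exact ⟨ha2, ha1⟩
        · right; rw [e1, e2, hb1, hb2]; exact ⟨ha1, ha2⟩
        · left; rw [e1, e2, hb1, hb2]; exact ⟨ha2, ha1⟩
      one_mem' := by left; simp
      inv_mem' := by
        intro a ha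
        rcases ha with ⟨ha1, ha2⟩ | ⟨ha1, ha2⟩
        · left
          refine ⟨?_, ?_⟩
          · nth_rewrite 1 [← ha1]; group
          · nth_rewrite 1 [← ha2]; group
        · right
          refine ⟨?_, ?_⟩
          · nth_rewrite 1 [← ha2]; group
          · nth_rewrite 1 [← ha1]; group }
  let K : Subgroup G :=
    { carrier := {t | t * x * t⁻¹ = x ∧ t * x' * t⁻¹ = x'}
      mul_mem' := by
        intro a b ha hb
        have e1 : a * b * x * (a * b)⁻¹ = a * (b * x * b⁻¹) * a⁻¹ := by group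
        have e2 : a * b * x' * (a * b)⁻¹ = a * (b * x' * b⁻¹) * a⁻¹ := by group
        obtain ⟨ha1, ha2⟩ := ha
        obtain ⟨hb1, hb2⟩ := hb
        refine ⟨?_, ?_⟩
        · rw [e1, hb1]; exact ha1
        · rw [e2, hb2]; exact ha2
      one_mem' := by simp
      inv_mem' := by
        intro a ha
        obtain ⟨ha1, ha2⟩ := ha
        refine ⟨?_, ?_⟩
        · nth_rewrite 1 [← ha1]; group
        · nth_rewrite 1 [← ha2]; group }
  have hKT : K ≤ T := fun t ht => Or.inl ht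
  have hQK : (Q : Subgroup G) ≤ K := fun q hq => ⟨hQx q hq, hQx' q hq⟩
  have hyT : y ∈ T := Or.inr ⟨h1, h2⟩
  have h2' : K.relIndex T = 2 := by
    rw [Subgroup.relIndex_eq_two_iff]
    refine ⟨y, hyT, ?_⟩
    intro b hb
    have e1 : b * y * x * (b * y)⁻¹ = b * (y * x * y⁻¹) * b⁻¹ := by group
    have e2 : b * y * x' * (b * y)⁻¹ = b * (y * x' * y⁻¹) * b⁻¹ := by group
    rcases hb with ⟨hb1, hb2⟩ | ⟨hb1, hb2⟩
    · refine Or.inr ⟨⟨hb1, hb2⟩, ?_⟩
      rintro ⟨h3, -⟩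
      rw [e1, h1, hb2] at h3
      exact hne h3
    · refine Or.inl ⟨⟨?_, ?_⟩, ?_⟩
      · rw [e1, h1, hb2]
      · rw [e2, h2, hb1]
      · rintro ⟨h3, -⟩
        rw [hb1] at h3
        exact hne h3
  have h3 : (Q : Subgroup G).relIndex K * K.relIndex T = (Q : Subgroup G).relIndex T :=
    Subgroup.relIndex_mul_relIndex _ _ _ hQK hKT
  have h4 : (Q : Subgroup G).relIndex T ∣ (Q : Subgroup G).index :=
    Subgroup.relIndex_dvd_index_of_le (hQK.trans hKT)
  have h5 : 2 ∣ (Q : Subgroup G).index := by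
    refine Dvd.dvd.trans ?_ h4
    rw [← h3, h2']
    exact Dvd.intro_left _ rfl
  exact Q.not_dvd_index h5

/-- Under `CH2`, a real 2-element is an involution (or trivial). -/
theorem ch_real {G : Type*} [Group G] [Finite G] (H : CH2 G) (x g : G)
    (hx : ∃ k : ℕ, orderOf x = 2 ^ k) (hg : g * x * g⁻¹ = x⁻¹) : x⁻¹ = x := by
  obtain ⟨Q, hQ⟩ := H x hx
  have hc : ∀ q ∈ Q, q * x = x * q := fun q hq =>
    Subgroup.mem_centralizer_singleton_iff.mp (hQ hq)
  refine ch_swap Q x x⁻¹ g ?_ ?_ hg ?_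
  · intro q hq; rw [hc q hq]; group
  · intro q hq
    have : q * x⁻¹ = x⁻¹ * q := by
      have := hc q hq
      calc q * x⁻¹ = x⁻¹ * (x * q) * x⁻¹ := by group
        _ = x⁻¹ * (q * x) * x⁻¹ := by rw [this]
        _ = x⁻¹ * q := by group
    rw [this]; group
  · have : g * x⁻¹ * g⁻¹ = (g * x * g⁻¹)⁻¹ := by group
    rw [this, hg, inv_inv]

/-- Elements of a Sylow 2-subgroup are 2-elements. -/
theorem ch_two_elt {G : Type*} [Group G] (P : Sylow 2 G) (x : G) (hx : x ∈ P) :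
    ∃ k : ℕ, orderOf x = 2 ^ k :=
  haveI : Fact (Nat.Prime 2) := ⟨Nat.prime_two⟩
  orderOf_of_mem_sylow 2 P x hx

/-- Under `CH2`, two involutions in a common Sylow 2-subgroup commute. -/
theorem ch_invol_comm {G : Type*} [Group G] [Finite G] (H : CH2 G) (P : Sylow 2 G) (a b : G)
    (ha : a ∈ P) (hb : b ∈ P) (ha2 : a * a = 1) (hb2 : b * b = 1) : a * b = b * a := by
  have hai : a⁻¹ = a := inv_eq_of_mul_eq_one_left ha2
  have hbi : b⁻¹ = b := inv_eq_of_mul_eq_one_left hb2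
  have hab : a * b ∈ P := mul_mem ha hb
  have h1 : a * (a * b) * a⁻¹ = (a * b)⁻¹ := by
    rw [mul_inv_rev, hai, hbi, ← mul_assoc, ha2, one_mul]
  have h2 := ch_real H (a * b) a (ch_two_elt P _ hab) h1
  rw [mul_inv_rev, hai, hbi] at h2
  exact h2.symm

/-- Sylow's theorem inside a subgroup containing a Sylow 2-subgroup of `G`: every 2-subgroup
of `N` lies in a Sylow 2-subgroup of `G` contained in `N`. -/
theorem ch_sylow_between {G : Type*} [Group G] [Finite G] (N : Subgroup G) (Q₀ : Sylow 2 G)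
    (hQ₀ : (Q₀ : Subgroup G) ≤ N) (R : Subgroup G) (hR : IsPGroup 2 R) (hRN : R ≤ N) :
    ∃ Q : Sylow 2 G, R ≤ (Q : Subgroup G) ∧ (Q : Subgroup G) ≤ N := by
  have : Fact (Nat.Prime 2) := ⟨Nat.prime_two⟩
  have hR' : IsPGroup 2 (R.subgroupOf N) := hR.comap_subtype
  obtain ⟨S, hS⟩ := hR'.exists_le_sylow
  obtain ⟨n, hn⟩ := MulAction.exists_smul_eq (↥N) (Q₀.subtype hQ₀) S
  refine ⟨(n : G) • Q₀, ?_, ?_⟩
  · intro r hr
    have h1 : (⟨r, hRN hr⟩ : ↥N) ∈ S := hS (Subgroup.mem_subgroupOf.mpr hr)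
    rw [← hn, mem_smul_sylow] at h1
    have h2 : ((n⁻¹ * ⟨r, hRN hr⟩ * n : ↥N) : G) ∈ (Q₀ : Subgroup G) := by
      have h3 : (n⁻¹ * ⟨r, hRN hr⟩ * n : ↥N) ∈ ((Q₀.subtype hQ₀ : Sylow 2 ↥N) : Subgroup ↥N) := h1
      rw [Sylow.coe_subtype] at h3
      exact Subgroup.mem_subgroupOf.mp h3
    show r ∈ (n : G) • Q₀
    rw [mem_smul_sylow]
    exact h2
  · intro q hq
    have hq' : q ∈ (n : G) • Q₀ := hq
    rw [mem_smul_sylow] at hq'
    have h1 : (n : G)⁻¹ * q * (n : G) ∈ N := hQ₀ hq'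
    have h2 : (n : G) * ((n : G)⁻¹ * q * (n : G)) * (n : G)⁻¹ ∈ N :=
      mul_mem (mul_mem n.2 h1) (inv_mem n.2)
    have e : (n : G) * ((n : G)⁻¹ * q * (n : G)) * (n : G)⁻¹ = q := by group
    rw [e] at h2
    exact h2

/-- Two 2-subgroups of a subgroup `X`: the first is `X`-conjugate into a Sylow 2-subgroup of `G`
containing the second. -/
theorem ch_conj_in {G : Type*} [Group G] [Finite G] (X A B : Subgroup G) (hA : IsPGroup 2 A)
    (hB : IsPGroup 2 B) (hAX : A ≤ X) (hBX : B ≤ X) :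
    ∃ x ∈ X, ∃ P' : Sylow 2 G, B ≤ (P' : Subgroup G) ∧ ∀ a ∈ A, x * a * x⁻¹ ∈ P' := by
  have : Fact (Nat.Prime 2) := ⟨Nat.prime_two⟩
  obtain ⟨S₁, hS₁⟩ := (hA.comap_subtype (K := X)).exists_le_sylow
  obtain ⟨S₂, hS₂⟩ := (hB.comap_subtype (K := X)).exists_le_sylow
  obtain ⟨n, hn⟩ := MulAction.exists_smul_eq (↥X) S₁ S₂
  obtain ⟨P', hP'⟩ := (S₂.isPGroup'.map X.subtype).exists_le_sylow
  refine ⟨(n : G), n.2, P', ?_, ?_⟩
  · intro b hb
    apply hP'
    exact ⟨⟨b, hBX hb⟩, hS₂ (Subgroup.mem_subgroupOf.mpr hb), rfl⟩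
  · intro a ha
    apply hP'
    have h1 : (⟨a, hAX ha⟩ : ↥X) ∈ S₁ := hS₁ (Subgroup.mem_subgroupOf.mpr ha)
    have h2 : n * ⟨a, hAX ha⟩ * n⁻¹ ∈ S₂ := by
      rw [← hn, mem_smul_sylow]
      have : n⁻¹ * (n * ⟨a, hAX ha⟩ * n⁻¹) * n = ⟨a, hAX ha⟩ := by group
      rw [this]; exact h1
    exact ⟨_, h2, rfl⟩

/-- If the involutions of `Q` all lie in `P` (both Sylow), then the involutions of `P` lie in `Q`. -/
theorem ch_omega_eq {G : Type*} [Group G] [Finite G] (P Q : Sylow 2 G)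
    (h : ∀ f ∈ Q, f * f = 1 → f ∈ P) : ∀ e ∈ P, e * e = 1 → e ∈ Q := by
  have : Fact (Nat.Prime 2) := ⟨Nat.prime_two⟩
  obtain ⟨g, hg⟩ := MulAction.exists_smul_eq G Q P
  let A : Set G := {f | f ∈ Q ∧ f * f = 1}
  let B : Set G := {e | e ∈ P ∧ e * e = 1}
  have hAB : A ⊆ B := fun f hf => ⟨h f hf.1 hf.2, hf.2⟩
  have hB : B = (fun z => g * z * g⁻¹) '' A := by
    ext e
    constructor
    · rintro ⟨he1, he2⟩
      rw [← hg, mem_smul_sylow] at he1
      refine ⟨g⁻¹ * e * g, ⟨he1, ?_⟩, by group⟩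
      calc g⁻¹ * e * g * (g⁻¹ * e * g) = g⁻¹ * (e * e) * g := by group
        _ = 1 := by rw [he2]; group
    · rintro ⟨f, ⟨hf1, hf2⟩, rfl⟩
      refine ⟨?_, ?_⟩
      · rw [← hg, mem_smul_sylow]
        have : g⁻¹ * (g * f * g⁻¹) * g = f := by group
        rw [this]; exact hf1
      · calc g * f * g⁻¹ * (g * f * g⁻¹) = g * (f * f) * g⁻¹ := by group
          _ = 1 := by rw [hf2]; group
  have hinj : Function.Injective (fun z => g * z * g⁻¹) := by
    intro a b hab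
    simpa using hab
  have hcard : B.ncard ≤ A.ncard := by
    rw [hB, Set.ncard_image_of_injective _ hinj]
  have hEq : A = B := Set.eq_of_subset_of_ncard_le hAB hcard (Set.toFinite B)
  intro e he he2
  have : e ∈ A := by rw [hEq]; exact ⟨he, he2⟩
  exact this.1

/-- Key step: if `u ∈ P` and `u * u` centralises the involutions of `P`, so does `u`. -/
theorem ch_step {G : Type*} [Group G] [Finite G] (H : CH2 G) (P : Sylow 2 G) (u : G)
    (hu : u ∈ P) (hu2 : ∀ e ∈ P, e * e = 1 → (u * u) * e = e * (u * u)) :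
    ∀ e ∈ P, e * e = 1 → u * e = e * u := by
  have : Fact (Nat.Prime 2) := ⟨Nat.prime_two⟩
  obtain ⟨Q₀, hQ₀⟩ := H u (ch_two_elt P u hu)
  obtain ⟨Q, hRQ, hQC⟩ := ch_sylow_between (Subgroup.centralizer {u}) Q₀ hQ₀
    ((P : Subgroup G) ⊓ Subgroup.centralizer {u}) (P.isPGroup'.to_le inf_le_left) inf_le_right
  have hQu : ∀ f ∈ Q, u * f * u⁻¹ = f := by
    intro f hf
    have := Subgroup.mem_centralizer_singleton_iff.mp (hQC hf)
    rw [← this]; group
  obtain ⟨X, hX⟩ : ∃ X : Subgroup G,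
      X = Subgroup.closure ({e | e ∈ P ∧ e * e = 1} ∪ {f | f ∈ Q ∧ f * f = 1}) := ⟨_, rfl⟩
  have hEX : ∀ e ∈ P, e * e = 1 → e ∈ X := fun e he he2 => by
    rw [hX]; exact Subgroup.subset_closure (Or.inl ⟨he, he2⟩)
  have hFX : ∀ f ∈ Q, f * f = 1 → f ∈ X := fun f hf hf2 => by
    rw [hX]; exact Subgroup.subset_closure (Or.inr ⟨hf, hf2⟩)
  -- commutators of `u` with involutions of `P` are involutions in `P ∩ Q`
  have hb : ∀ e ∈ P, e * e = 1 → (u * e * u⁻¹ * e⁻¹ ∈ P ∧ u * e * u⁻¹ * e⁻¹ ∈ Q ∧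
      (u * e * u⁻¹ * e⁻¹) * (u * e * u⁻¹ * e⁻¹) = 1) := by
    intro e he he2
    have hei : e⁻¹ = e := inv_eq_of_mul_eq_one_left he2
    have hc1 : u * e * u⁻¹ ∈ P := mul_mem (mul_mem hu he) (inv_mem hu)
    have hc2 : (u * e * u⁻¹) * (u * e * u⁻¹) = 1 := by
      calc (u * e * u⁻¹) * (u * e * u⁻¹) = u * (e * e) * u⁻¹ := by group
        _ = 1 := by rw [he2]; group
    have hcomm : (u * e * u⁻¹) * e = e * (u * e * u⁻¹) :=
      ch_invol_comm H P _ _ hc1 he hc2 he2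
    have hd1 : u * e * u⁻¹ * e⁻¹ ∈ P := mul_mem hc1 (inv_mem he)
    have hd2 : (u * e * u⁻¹ * e⁻¹) * (u * e * u⁻¹ * e⁻¹) = 1 := by
      rw [hei]
      calc (u * e * u⁻¹ * e) * (u * e * u⁻¹ * e)
          = (u * e * u⁻¹) * (e * (u * e * u⁻¹)) * e := by group
        _ = (u * e * u⁻¹) * ((u * e * u⁻¹) * e) * e := by rw [hcomm]
        _ = ((u * e * u⁻¹) * (u * e * u⁻¹)) * (e * e) := by group
        _ = 1 := by rw [hc2, he2, one_mul]
    refine ⟨hd1, ?_, hd2⟩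
    apply hRQ
    refine ⟨hd1, ?_⟩
    show u * e * u⁻¹ * e⁻¹ ∈ Subgroup.centralizer {u}
    rw [Subgroup.mem_centralizer_singleton_iff]
    have h3 := hu2 e he he2
    rw [hei]
    calc u * e * u⁻¹ * e * u = ((u * e * u⁻¹) * e) * u := by group
      _ = (e * (u * e * u⁻¹)) * u := by rw [hcomm]
      _ = (e * (u * u)) * u⁻¹ * e := by group
      _ = (u * u * e) * u⁻¹ * e := by rw [h3]
      _ = u * (u * e * u⁻¹ * e) := by group
  -- involutions in `P ∩ Q` are central in `X`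
  have hc : ∀ d, d ∈ P → d ∈ Q → d * d = 1 → ∀ z ∈ X, Commute d z := by
    intro d hdP hdQ hd2 z hz
    have hle : X ≤ Subgroup.centralizer {d} := by
      rw [hX, Subgroup.closure_le]
      rintro w (⟨hw1, hw2⟩ | ⟨hw1, hw2⟩)
      · exact Subgroup.mem_centralizer_singleton_iff.mpr (ch_invol_comm H P _ _ hw1 hdP hw2 hd2)
      · exact Subgroup.mem_centralizer_singleton_iff.mpr (ch_invol_comm H Q _ _ hw1 hdQ hw2 hd2)
    exact (Subgroup.mem_centralizer_singleton_iff.mp (hle hz)).symm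
  -- `x ↦ [u, x]` takes central values on `X`
  have hd : ∀ x ∈ X, ∀ z ∈ X, Commute (u * x * u⁻¹ * x⁻¹) z := by
    intro x hx
    have hx' : x ∈ Subgroup.closure ({e | e ∈ P ∧ e * e = 1} ∪ {f | f ∈ Q ∧ f * f = 1}) := by
      rw [← hX]; exact hx
    induction hx' using Subgroup.closure_induction with
    | mem w hw =>
      rcases hw with ⟨hw1, hw2⟩ | ⟨hw1, hw2⟩
      · obtain ⟨h1, h2, h3⟩ := hb w hw1 hw2
        exact hc _ h1 h2 h3
      · intro z hz
        rw [hQu w hw1, mul_inv_cancel]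
        exact Commute.one_left z
    | one =>
      intro z hz
      have : u * 1 * u⁻¹ * (1 : G)⁻¹ = 1 := by group
      rw [this]
      exact Commute.one_left z
    | mul a b ha hb' iha ihb =>
      have haX : a ∈ X := by rw [hX]; exact ha
      have hbX : b ∈ X := by rw [hX]; exact hb'
      have iha' := iha haX
      have ihb' := ihb hbX
      intro z hz
      have e1 : u * (a * b) * u⁻¹ * (a * b)⁻¹
          = (u * a * u⁻¹ * a⁻¹) * (a * (u * b * u⁻¹ * b⁻¹) * a⁻¹) := by group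
      have e2 : a * (u * b * u⁻¹ * b⁻¹) * a⁻¹ = u * b * u⁻¹ * b⁻¹ :=
        (ihb' a haX).symm.mul_inv_cancel
      rw [e1, e2]
      exact (iha' z hz).mul_left (ihb' z hz)
    | inv a ha iha =>
      have haX : a ∈ X := by rw [hX]; exact ha
      have iha' := iha haX
      intro z hz
      have e1 : u * a⁻¹ * u⁻¹ * a⁻¹⁻¹ = a⁻¹ * (u * a * u⁻¹ * a⁻¹)⁻¹ * a := by group
      have hcm : Commute (u * a * u⁻¹ * a⁻¹)⁻¹ a := (iha' a haX).inv_left
      have e2 : a⁻¹ * (u * a * u⁻¹ * a⁻¹)⁻¹ * a = (u * a * u⁻¹ * a⁻¹)⁻¹ := by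
        rw [mul_assoc, hcm.eq, inv_mul_cancel_left]
      rw [e1, e2]
      exact (iha' z hz).inv_left
  -- the involutions of `P` are `X`-conjugate to involutions of `Q`
  obtain ⟨x, hxX, P', hBP', hAP'⟩ := ch_conj_in X ((P : Subgroup G) ⊓ X) ((Q : Subgroup G) ⊓ X)
    (P.isPGroup'.to_le inf_le_left) (Q.isPGroup'.to_le inf_le_left) inf_le_right inf_le_right
  have hQP' : ∀ f ∈ Q, f * f = 1 → f ∈ P' := fun f hf hf2 => hBP' ⟨hf, hFX f hf hf2⟩
  have hP'Q := ch_omega_eq P' Q hQP'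
  intro e he he2
  have hf1 : x * e * x⁻¹ ∈ P' := hAP' e ⟨he, hEX e he he2⟩
  have hf2 : (x * e * x⁻¹) * (x * e * x⁻¹) = 1 := by
    calc (x * e * x⁻¹) * (x * e * x⁻¹) = x * (e * e) * x⁻¹ := by group
      _ = 1 := by rw [he2]; group
  have hfQ : x * e * x⁻¹ ∈ Q := hP'Q _ hf1 hf2
  have hfu := hQu _ hfQ
  have hk := hd x⁻¹ (inv_mem hxX) e (hEX e he he2)
  have e1 : u * e * u⁻¹ = (u * x⁻¹ * u⁻¹ * x⁻¹⁻¹) * (x⁻¹ * (u * (x * e * x⁻¹) * u⁻¹) * x)
      * (u * x⁻¹ * u⁻¹ * x⁻¹⁻¹)⁻¹ := by group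
  have e2 : x⁻¹ * (x * e * x⁻¹) * x = e := by group
  rw [hfu, e2, hk.mul_inv_cancel] at e1
  exact mul_inv_eq_iff_eq_mul.mp e1

/-- Under `CH2`, the involutions of a Sylow 2-subgroup are central in it. -/
theorem ch_omega_central {G : Type*} [Group G] [Finite G] (H : CH2 G) (P : Sylow 2 G) :
    ∀ u ∈ P, ∀ e ∈ P, e * e = 1 → u * e = e * u := by
  have key : ∀ k : ℕ, ∀ u ∈ P, u ^ (2 ^ k) = 1 → ∀ e ∈ P, e * e = 1 → u * e = e * u := by
    intro k
    induction k with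
    | zero =>
      intro u hu h1 e he he2
      rw [pow_zero, pow_one] at h1
      rw [h1, one_mul, mul_one]
    | succ k ih =>
      intro u hu h1
      apply ch_step H P u hu
      have h2 : (u * u) ^ (2 ^ k) = 1 := by
        rw [← pow_two, ← pow_mul, ← pow_succ']; exact h1
      exact ih (u * u) (mul_mem hu hu) h2
  intro u hu
  obtain ⟨k, hk⟩ := ch_two_elt P u hu
  exact key k u hu (by rw [← hk]; exact pow_orderOf_eq_one u)

/-- If `y * y` commutes with `x` (both in `P`), then `y` commutes with `x`. -/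
theorem ch_comm_step {G : Type*} [Group G] [Finite G] (H : CH2 G) (P : Sylow 2 G) (x y : G)
    (hx : x ∈ P) (hy : y ∈ P) (hyy : (y * y) * x = x * (y * y)) : y * x = x * y := by
  have : Fact (Nat.Prime 2) := ⟨Nat.prime_two⟩
  obtain ⟨c, hc⟩ : ∃ c : G, c = x⁻¹ * (y * x * y⁻¹) := ⟨_, rfl⟩
  have hcP : c ∈ P := by
    rw [hc]; exact mul_mem (inv_mem hx) (mul_mem (mul_mem hy hx) (inv_mem hy))
  have h1 : y * (y * x * y⁻¹) * y⁻¹ = x := by
    calc y * (y * x * y⁻¹) * y⁻¹ = (y * y * x) * (y * y)⁻¹ := by group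
      _ = x := by rw [hyy]; group
  have h2 : y * c * y⁻¹ = c⁻¹ := by
    calc y * c * y⁻¹ = (y * x * y⁻¹)⁻¹ * (y * (y * x * y⁻¹) * y⁻¹) := by rw [hc]; group
      _ = (y * x * y⁻¹)⁻¹ * x := by rw [h1]
      _ = c⁻¹ := by rw [hc]; group
  have hci : c⁻¹ = c := ch_real H c y (ch_two_elt P c hcP) h2
  have hc2 : c * c = 1 := by
    nth_rewrite 1 [← hci]; exact inv_mul_cancel c
  have hxc : x * c = c * x := ch_omega_central H P x hx c hcP hc2
  obtain ⟨Q₀, hQ₀⟩ := H x (ch_two_elt P x hx)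
  obtain ⟨R, hPR, hRC⟩ := ch_sylow_between (Subgroup.centralizer {x}) Q₀ hQ₀
    ((P : Subgroup G) ⊓ Subgroup.centralizer {x}) (P.isPGroup'.to_le inf_le_left) inf_le_right
  have hcR : c ∈ R := hPR ⟨hcP, Subgroup.mem_centralizer_singleton_iff.mpr hxc.symm⟩
  have hRx : ∀ q ∈ R, q * x * q⁻¹ = x := by
    intro q hq
    have := Subgroup.mem_centralizer_singleton_iff.mp (hRC hq)
    rw [this]; group
  have hRc : ∀ q ∈ R, q * c * q⁻¹ = c := by
    intro q hq
    have := ch_omega_central H R q hq c hcR hc2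
    rw [this]; group
  have hx' : y * x * y⁻¹ = x * c := by rw [hc]; group
  have hRxc : ∀ q ∈ R, q * (x * c) * q⁻¹ = x * c := by
    intro q hq
    calc q * (x * c) * q⁻¹ = (q * x * q⁻¹) * (q * c * q⁻¹) := by group
      _ = x * c := by rw [hRx q hq, hRc q hq]
  have h3 : y * (x * c) * y⁻¹ = x := by rw [← hx']; exact h1
  have hsw := ch_swap R x (x * c) y hRx hRxc hx' h3
  rw [hsw] at hx'
  exact mul_inv_eq_iff_eq_mul.mp hx'

/-- **Camina–Herzog.** If every 2-element of a finite group is centralised by a Sylow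
2-subgroup, then the Sylow 2-subgroups are abelian. -/
theorem ch_comm {G : Type*} [Group G] [Finite G] (H : CH2 G) (P : Sylow 2 G) :
    ∀ x ∈ P, ∀ y ∈ P, x * y = y * x := by
  have key : ∀ k : ℕ, ∀ y ∈ P, y ^ (2 ^ k) = 1 → ∀ x ∈ P, y * x = x * y := by
    intro k
    induction k with
    | zero =>
      intro y hy h1 x hx
      rw [pow_zero, pow_one] at h1
      rw [h1, one_mul, mul_one]
    | succ k ih =>
      intro y hy h1 x hx
      apply ch_comm_step H P x y hx hy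
      have h2 : (y * y) ^ (2 ^ k) = 1 := by
        rw [← pow_two, ← pow_mul, ← pow_succ']; exact h1
      exact ih (y * y) (mul_mem hy hy) h2 x hx
  intro x hx y hy
  obtain ⟨k, hk⟩ := ch_two_elt P y hy
  exact (key k y hy (by rw [← hk]; exact pow_orderOf_eq_one y) x hx).symm

end Cfsg.Agent.Lib.helper76
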