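import Mathlib

set_option autoImplicit false

namespace Cfsg.Agent.Lib.helper76

open scoped Pointwise

/-- A finite group is not the union of the conjugates of a proper subgroup. -/
theorem exists_forall_conj_not_mem {G : Type*} [Group G] [Finite G] (M : Subgroup G) (hM : M ≠ ⊤) :
    ∃ g : G, ∀ k : G, k⁻¹ * g * k ∉ M := by
  classical
  by_contra hcon
  push Not at hcon
  let _ : Fintype G := Fintype.ofFinite G
  let _ : ∀ g : G, Fintype (MulAction.fixedBy (G ⧸ M) g) := fun g => Fintype.ofFinite _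
  let _ : Fintype (MulAction.orbitRel.Quotient G (G ⧸ M)) := Fintype.ofFinite _
  have hB := MulAction.sum_card_fixedBy_eq_card_orbits_mul_card_group G (G ⧸ M)
  have h1 : Fintype.card (MulAction.orbitRel.Quotient G (G ⧸ M)) = 1 := by
    rw [Fintype.card_eq_one_iff_nonempty_unique]
    have hs : Subsingleton (MulAction.orbitRel.Quotient G (G ⧸ M)) :=
      (MulAction.pretransitive_iff_subsingleton_quotient G (G ⧸ M)).mp inferInstance
    exact ⟨@Unique.mk' _ ⟨Quotient.mk'' ((1 : G) : G ⧸ M)⟩ hs⟩
  rw [h1, one_mul] at hB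
  have h2 : ∀ g : G, 1 ≤ Fintype.card (MulAction.fixedBy (G ⧸ M) g) := by
    intro g
    obtain ⟨k, hk⟩ := hcon g
    apply Fintype.card_pos_iff.mpr
    refine ⟨⟨(k : G ⧸ M), ?_⟩⟩
    rw [MulAction.mem_fixedBy]
    change ((g * k : G) : G ⧸ M) = (k : G ⧸ M)
    rw [QuotientGroup.eq]
    have : (g * k)⁻¹ * k = (k⁻¹ * g * k)⁻¹ := by group
    rw [this]
    exact inv_mem hk
  have h3 : 2 ≤ Fintype.card (MulAction.fixedBy (G ⧸ M) (1 : G)) := by
    have e : Fintype.card (MulAction.fixedBy (G ⧸ M) (1 : G)) = M.index := by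
      rw [Subgroup.index, Nat.card_eq_fintype_card]
      apply Fintype.card_congr
      exact Equiv.subtypeUnivEquiv (fun x => by rw [MulAction.mem_fixedBy, one_smul])
    rw [e]
    have := Subgroup.one_lt_index_of_ne_top hM
    omega
  have h4 : Fintype.card G + 1 ≤ ∑ g : G, Fintype.card (MulAction.fixedBy (G ⧸ M) g) := by
    rw [← Finset.add_sum_erase Finset.univ _ (Finset.mem_univ (1 : G))]
    have h5 : (Finset.univ.erase (1 : G)).card ≤
        ∑ g ∈ Finset.univ.erase (1 : G), Fintype.card (MulAction.fixedBy (G ⧸ M) g) := by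
      rw [Finset.card_eq_sum_ones]
      exact Finset.sum_le_sum (fun g _ => h2 g)
    rw [Finset.card_erase_of_mem (Finset.mem_univ _), Finset.card_univ] at h5
    have hpos : 0 < Fintype.card G := Fintype.card_pos
    omega
  omega

/-- Membership in a conjugate subgroup. -/
theorem mem_conj_smul {G : Type*} [Group G] (g x : G) (H : Subgroup G) :
    x ∈ MulAut.conj g • H ↔ g⁻¹ * x * g ∈ H := by
  rw [Subgroup.mem_pointwise_smul_iff_inv_smul_mem]
  simp only [MulAut.smul_def, MulAut.inv_apply, MulAut.conj_symm_apply]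

end Cfsg.Agent.Lib.helper76
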