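import Mathlib

/-!
Transvection-like maps over `ZMod 2` and the key lemma for S4410: an involution `t = P * P`
acting as a transvection centralizes every odd-order subgroup normalized by `P`.
-/

namespace Cfsg.Agent.Lib.helper76

section Transv

variable {V : Type*} [AddCommGroup V] [Module (ZMod 2) V]

theorem c2 {x y : V} (h : (1 : ZMod 2) • x = (1 : ZMod 2) • y) : x = y := by
  rwa [one_smul, one_smul] at h

/-- `IsTv g a`: `g` moves every vector by `0` or `a`, and fixes `a`. -/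
def IsTv (g : V ≃ₗ[ZMod 2] V) (a : V) : Prop :=
  (∀ v, g v = v ∨ g v = v + a) ∧ g a = a

/-- `Mv U g`: `g` moves every vector inside its coset mod `U`. -/
def Mv (U : Submodule (ZMod 2) V) (g : V ≃ₗ[ZMod 2] V) : Prop := ∀ v, g v + v ∈ U

theorem Mv.mul {U : Submodule (ZMod 2) V} {g h : V ≃ₗ[ZMod 2] V} (hg : Mv U g) (hh : Mv U h) :
    Mv U (g * h) := by
  intro v
  have e : (g * h) v + v = (g (h v) + h v) + (h v + v) := by
    rw [LinearEquiv.mul_apply]
    apply c2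
    match_scalars <;> decide
  rw [e]
  exact U.add_mem (hg (h v)) (hh v)

theorem IsTv.mv {U : Submodule (ZMod 2) V} {g : V ≃ₗ[ZMod 2] V} {a : V} (hg : IsTv g a)
    (ha : a ∈ U) : Mv U g := by
  intro v
  rcases hg.1 v with h | h
  · rw [h, ZModModule.add_self]; exact U.zero_mem
  · rw [h]
    have : v + a + v = a := by
      apply c2
      match_scalars <;> decide
    rw [this]; exact ha

theorem fix_span (x : V ≃ₗ[ZMod 2] V) (s : Set V) (h : ∀ a ∈ s, x a = a) :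
    ∀ u ∈ Submodule.span (ZMod 2) s, x u = u := by
  intro u hu
  induction hu using Submodule.span_induction with
  | mem a ha => exact h a ha
  | zero => exact map_zero x
  | add a b _ _ ha hb => rw [map_add, ha, hb]
  | smul c a _ ha => rw [map_smul, ha]

theorem mul_self_eq_one_of_fix (x : V ≃ₗ[ZMod 2] V) (U : Submodule (ZMod 2) V)
    (h1 : Mv U x) (h2 : ∀ u ∈ U, x u = u) : x * x = 1 := by
  apply LinearEquiv.ext
  intro v
  rw [LinearEquiv.mul_apply]
  have h3 := h2 _ (h1 v)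
  have h4 : x (x v + v) = x (x v) + x v := map_add x _ _
  have e1 : x (x v) = (x (x v) + x v) + x v := by
    apply c2
    match_scalars <;> decide
  have e2 : (x v + v) + x v = v := by
    apply c2
    match_scalars <;> decide
  rw [e1, ← h4, h3, e2]
  rfl

theorem eq_one_of_odd_of_mul_self {G : Type*} [Group G] (x : G) (ho : Odd (orderOf x))
    (h : x * x = 1) : x = 1 := by
  have h2 : orderOf x ∣ 2 := orderOf_dvd_of_pow_eq_one (by rw [pow_two]; exact h)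
  have h3 : orderOf x = 1 := Nat.Coprime.eq_one_of_dvd ho.coprime_two_right h2
  exact orderOf_eq_one_iff.mp h3

theorem odd_orderOf_mul_self {G : Type*} [Group G] (x : G) (ho : Odd (orderOf x)) :
    Odd (orderOf (x * x)) := by
  have : orderOf (x * x) ∣ orderOf x := by
    rw [← pow_two]; exact orderOf_pow_dvd 2
  exact Odd.of_dvd_nat ho this

/-- Two transvection-like maps whose product has odd order and is nontrivial are "linked". -/
theorem tv_pair (g h : V ≃ₗ[ZMod 2] V) (a b : V) (hg : IsTv g a) (hh : IsTv h b)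
    (ho : Odd (orderOf (h * g))) (hne : h * g ≠ 1) : g b = b + a ∧ h a = a + b := by
  have key : ((h * g) * (h * g)) a = a → ((h * g) * (h * g)) b = b → False := by
    intro ha hb
    have hU : Mv (Submodule.span (ZMod 2) {a, b}) (h * g) :=
      (hh.mv (Submodule.subset_span (by simp))).mul (hg.mv (Submodule.subset_span (by simp)))
    have h1 : ((h * g) * (h * g)) * ((h * g) * (h * g)) = 1 :=
      mul_self_eq_one_of_fix _ _ (hU.mul hU) (fix_span _ _ (by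
        intro x hx
        rcases hx with rfl | rfl
        · exact ha
        · exact hb))
    have h2 := eq_one_of_odd_of_mul_self _ (odd_orderOf_mul_self _ ho) h1
    exact hne (eq_one_of_odd_of_mul_self _ ho h2)
  have ega : g a = a := hg.2
  have ehb : h b = b := hh.2
  rcases hg.1 b with h1 | h1
  · exfalso
    rcases hh.1 a with h2 | h2
    · apply key
      · simp only [LinearEquiv.mul_apply, ega, h2]
      · simp only [LinearEquiv.mul_apply, h1, ehb]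
    · apply key
      · simp only [LinearEquiv.mul_apply, ega, h2, map_add, h1, ehb]
        apply c2
        match_scalars <;> decide
      · simp only [LinearEquiv.mul_apply, h1, ehb]
  · rcases hh.1 a with h2 | h2
    · exfalso
      apply key
      · simp only [LinearEquiv.mul_apply, ega, h2]
      · simp only [LinearEquiv.mul_apply, h1, map_add, ehb, h2, ega]
        apply c2
        match_scalars <;> decide
    · exact ⟨h1, h2⟩

/-- Two linked transvection-like maps with product of odd order: the product has order `3`. -/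
theorem tv_pair_cube (g h : V ≃ₗ[ZMod 2] V) (a b : V) (hg : IsTv g a) (hh : IsTv h b)
    (ho : Odd (orderOf (h * g))) (h1 : g b = b + a) (h2 : h a = a + b) : (h * g) ^ 3 = 1 := by
  have ega : g a = a := hg.2
  have ehb : h b = b := hh.2
  have hU : Mv (Submodule.span (ZMod 2) {a, b}) (h * g) :=
    (hh.mv (Submodule.subset_span (by simp))).mul (hg.mv (Submodule.subset_span (by simp)))
  have e1 : ((h * g) * (h * g) * (h * g)) a = a := by
    simp only [LinearEquiv.mul_apply, ega, h2, map_add, h1, ehb]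
    apply c2
    match_scalars <;> decide
  have e2 : ((h * g) * (h * g) * (h * g)) b = b := by
    simp only [LinearEquiv.mul_apply, ega, h2, map_add, h1, ehb]
    apply c2
    match_scalars <;> decide
  have h3 : ((h * g) * (h * g) * (h * g)) * ((h * g) * (h * g) * (h * g)) = 1 :=
    mul_self_eq_one_of_fix _ _ ((hU.mul hU).mul hU) (fix_span _ _ (by
      intro x hx
      rcases hx with rfl | rfl
      · exact e1
      · exact e2))
  have e3 : (h * g) ^ 3 = (h * g) * (h * g) * (h * g) := by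
    rw [pow_succ, pow_two]
  have h6 : (h * g) ^ (3 * 2) = 1 := by
    rw [pow_mul, e3, pow_two, h3]
  have hd : orderOf (h * g) ∣ 3 * 2 := orderOf_dvd_of_pow_eq_one h6
  have hd3 : orderOf (h * g) ∣ 3 := Nat.Coprime.dvd_of_dvd_mul_right ho.coprime_two_right hd
  exact orderOf_dvd_iff_pow_eq_one.mp hd3

/-- Three pairwise linked transvection-like maps: the word `g₁ g₀ g₂ g₀` has order dividing `4`. -/
theorem tv_triple (g₀ g₁ g₂ : V ≃ₗ[ZMod 2] V) (a₀ a₁ a₂ : V) (h₀ : IsTv g₀ a₀) (h₁ : IsTv g₁ a₁)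
    (h₂ : IsTv g₂ a₂) (h01 : g₀ a₁ = a₁ + a₀) (h10 : g₁ a₀ = a₀ + a₁) (h02 : g₀ a₂ = a₂ + a₀)
    (h20 : g₂ a₀ = a₀ + a₂) (h12 : g₁ a₂ = a₂ + a₁) (h21 : g₂ a₁ = a₁ + a₂) :
    ((g₁ * g₀ * (g₂ * g₀)) * (g₁ * g₀ * (g₂ * g₀))) *
      ((g₁ * g₀ * (g₂ * g₀)) * (g₁ * g₀ * (g₂ * g₀))) = 1 := by
  have e0 : g₀ a₀ = a₀ := h₀.2
  have e1 : g₁ a₁ = a₁ := h₁.2
  have e2 : g₂ a₂ = a₂ := h₂.2
  have hU0 : Mv (Submodule.span (ZMod 2) {a₀, a₁, a₂}) g₀ := h₀.mv (Submodule.subset_span (by simp))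
  have hU1 : Mv (Submodule.span (ZMod 2) {a₀, a₁, a₂}) g₁ := h₁.mv (Submodule.subset_span (by simp))
  have hU2 : Mv (Submodule.span (ZMod 2) {a₀, a₁, a₂}) g₂ := h₂.mv (Submodule.subset_span (by simp))
  have hU : Mv (Submodule.span (ZMod 2) {a₀, a₁, a₂}) (g₁ * g₀ * (g₂ * g₀)) :=
    (hU1.mul hU0).mul (hU2.mul hU0)
  have f0 : ((g₁ * g₀ * (g₂ * g₀)) * (g₁ * g₀ * (g₂ * g₀))) a₀ = a₀ := by
    simp only [LinearEquiv.mul_apply, e0, e1, e2, h01, h10, h02, h20, h12, h21, map_add]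
    apply c2
    match_scalars <;> decide
  have f1 : ((g₁ * g₀ * (g₂ * g₀)) * (g₁ * g₀ * (g₂ * g₀))) a₁ = a₁ := by
    simp only [LinearEquiv.mul_apply, e0, e1, e2, h01, h10, h02, h20, h12, h21, map_add]
    apply c2
    match_scalars <;> decide
  have f2 : ((g₁ * g₀ * (g₂ * g₀)) * (g₁ * g₀ * (g₂ * g₀))) a₂ = a₂ := by
    simp only [LinearEquiv.mul_apply, e0, e1, e2, h01, h10, h02, h20, h12, h21, map_add]
    apply c2
    match_scalars <;> decide
  exact mul_self_eq_one_of_fix _ _ (hU.mul hU) (fix_span _ _ (by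
    intro x hx
    rcases hx with rfl | rfl | rfl
    · exact f0
    · exact f1
    · exact f2))

theorem isTv_conj (t : V ≃ₗ[ZMod 2] V) (a₀ : V) (ht : IsTv t a₀) (y : V ≃ₗ[ZMod 2] V) :
    IsTv (y * t * y⁻¹) (y a₀) := by
  constructor
  · intro v
    have hv : y (y⁻¹ v) = v := by rw [← LinearEquiv.mul_apply, mul_inv_cancel]; rfl
    rcases ht.1 (y⁻¹ v) with h | h
    · left; simp only [LinearEquiv.mul_apply]; rw [h, hv]
    · right; simp only [LinearEquiv.mul_apply]; rw [h, map_add, hv]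
  · simp only [LinearEquiv.mul_apply]
    have : y⁻¹ (y a₀) = a₀ := by rw [← LinearEquiv.mul_apply, inv_mul_cancel]; rfl
    rw [this, ht.2]

/-- Core lemma: a transvection-like involution `t = P * P` centralizes every subgroup of
odd-order elements normalized by `P`. -/
theorem tv_centralizes (P t : V ≃ₗ[ZMod 2] V) (htP : t = P * P) (a₀ : V) (ht : IsTv t a₀)
    (ht2 : t * t = 1) (R : Subgroup (V ≃ₗ[ZMod 2] V))
    (hodd : ∀ x ∈ R, Odd (orderOf x)) (hRP : ∀ x ∈ R, P * x * P⁻¹ ∈ R) :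
    ∀ y ∈ R, y * t = t * y := by
  intro y₁ hy₁
  by_contra hne
  have htinv : t⁻¹ = t := inv_eq_of_mul_eq_one_right ht2
  have hRt : ∀ x ∈ R, t * x * t ∈ R := by
    intro x hx
    have h1 := hRP _ (hRP x hx)
    have e : P * (P * x * P⁻¹) * P⁻¹ = t * x * t⁻¹ := by subst htP; group
    rw [e, htinv] at h1
    exact h1
  have hzR : ∀ y ∈ R, y * t * y⁻¹ * t ∈ R := by
    intro y hy
    have h1 := R.mul_mem hy (hRt _ (R.inv_mem hy))
    have e : y * (t * y⁻¹ * t) = y * t * y⁻¹ * t := by group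
    rw [e] at h1
    exact h1
  have hz1 : y₁ * t * y₁⁻¹ * t ≠ 1 := by
    intro h
    apply hne
    have h' : y₁ * t * y₁⁻¹ = t := (eq_inv_of_mul_eq_one_left h).trans htinv
    calc y₁ * t = y₁ * t * y₁⁻¹ * y₁ := by group
      _ = t * y₁ := by rw [h']
  have hz1R := hzR y₁ hy₁
  have hc1 := isTv_conj t a₀ ht y₁
  obtain ⟨hA1, hA1'⟩ := tv_pair t (y₁ * t * y₁⁻¹) a₀ (y₁ a₀) ht hc1 (hodd _ hz1R) hz1
  have hcube := tv_pair_cube t (y₁ * t * y₁⁻¹) a₀ (y₁ a₀) ht hc1 (hodd _ hz1R) hA1 hA1'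
  -- the inversion relation
  have hinv : t * (y₁ * t * y₁⁻¹ * t) * t = (y₁ * t * y₁⁻¹ * t)⁻¹ := by
    have e1 : (y₁ * t * y₁⁻¹ * t)⁻¹ = t⁻¹ * y₁ * t⁻¹ * y₁⁻¹ := by group
    rw [htinv] at e1
    have e2 : t * (y₁ * t * y₁⁻¹ * t) * t = t * y₁ * t * y₁⁻¹ * (t * t) := by group
    rw [e2, ht2, mul_one, e1]
  -- P-step
  have hex : ∃ y₂ ∈ R, y₂ * t * y₂⁻¹ * t ≠ 1 ∧ y₂ * t * y₂⁻¹ * t ≠ y₁ * t * y₁⁻¹ * t ∧
      y₂ * t * y₂⁻¹ * t ≠ (y₁ * t * y₁⁻¹ * t)⁻¹ := by
    by_contra hall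
    push Not at hall
    have hyR : P * y₁ * P⁻¹ ∈ R := hRP y₁ hy₁
    have hconj : (P * y₁ * P⁻¹) * t * (P * y₁ * P⁻¹)⁻¹ * t = P * (y₁ * t * y₁⁻¹ * t) * P⁻¹ := by
      subst htP; group
    have h3 := hall _ hyR
    rw [hconj] at h3
    have hcomm : P * (P * (y₁ * t * y₁⁻¹ * t) * P⁻¹) * P⁻¹ = y₁ * t * y₁⁻¹ * t := by
      by_cases hc1 : P * (y₁ * t * y₁⁻¹ * t) * P⁻¹ = y₁ * t * y₁⁻¹ * t
      · rw [hc1, hc1]
      · have h4 := h3 (by
          intro h5
          exact hz1 (conj_eq_one_iff.mp h5)) hc1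
        rw [h4]
        have e : P * (y₁ * t * y₁⁻¹ * t)⁻¹ * P⁻¹ = (P * (y₁ * t * y₁⁻¹ * t) * P⁻¹)⁻¹ := by group
        rw [e, h4, inv_inv]
    have e : P * (P * (y₁ * t * y₁⁻¹ * t) * P⁻¹) * P⁻¹ = t * (y₁ * t * y₁⁻¹ * t) * t⁻¹ := by
      subst htP; group
    rw [e, htinv, hinv] at hcomm
    have h5 : (y₁ * t * y₁⁻¹ * t) * (y₁ * t * y₁⁻¹ * t) = 1 := by
      nth_rewrite 1 [← hcomm]
      exact inv_mul_cancel _
    exact hz1 (eq_one_of_odd_of_mul_self _ (hodd _ hz1R) h5)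
  obtain ⟨y₂, hy₂, hz2, hz21, hz21'⟩ := hex
  have hz2R := hzR y₂ hy₂
  have hc2 := isTv_conj t a₀ ht y₂
  obtain ⟨hA2, hA2'⟩ := tv_pair t (y₂ * t * y₂⁻¹) a₀ (y₂ a₀) ht hc2 (hodd _ hz2R) hz2
  -- the pair (t₁, t₂)
  have e12 : (y₁ * t * y₁⁻¹ * t) * (y₂ * t * y₂⁻¹ * t)⁻¹ = y₁ * t * y₁⁻¹ * (y₂ * t⁻¹ * y₂⁻¹) := by
    group
  rw [htinv] at e12
  have h12R : y₁ * t * y₁⁻¹ * (y₂ * t * y₂⁻¹) ∈ R := by
    rw [← e12]; exact R.mul_mem hz1R (R.inv_mem hz2R)
  have h12ne : y₁ * t * y₁⁻¹ * (y₂ * t * y₂⁻¹) ≠ 1 := by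
    rw [← e12]
    intro h
    exact hz21 (mul_inv_eq_one.mp h).symm
  obtain ⟨hA3, hA3'⟩ := tv_pair (y₂ * t * y₂⁻¹) (y₁ * t * y₁⁻¹) (y₂ a₀) (y₁ a₀) hc2 hc1
    (hodd _ h12R) h12ne
  -- the word w = z₁ z₂
  have hw4 := tv_triple t (y₁ * t * y₁⁻¹) (y₂ * t * y₂⁻¹) a₀ (y₁ a₀) (y₂ a₀) ht hc1 hc2
    hA1 hA1' hA2 hA2' hA3' hA3
  have hwR : (y₁ * t * y₁⁻¹ * t) * (y₂ * t * y₂⁻¹ * t) ∈ R := R.mul_mem hz1R hz2R
  have hw2 := eq_one_of_odd_of_mul_self _ (odd_orderOf_mul_self _ (hodd _ hwR)) hw4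
  have hw1 := eq_one_of_odd_of_mul_self _ (hodd _ hwR) hw2
  exact hz21' (eq_inv_of_mul_eq_one_right hw1)

end Transv

end Cfsg.Agent.Lib.helper76
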