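import Mathlib
import Cfsg.Agent.S1324
import Cfsg.Agent.Lib.helper76.Transv

/-!
Elementary abelian 2-groups of automorphisms of odd-order groups: generation by fixed points
of subgroups of index at most 2 (bridge from the internal statement S1324 through a semidirect
product), and involutions acting on cyclic fixed-point subgroups.
-/

namespace Cfsg.Agent.Lib.helper76

section EightAct

variable {P : Type*} [Group P]

/-- Fixed points in `P` of a subgroup `J` of the automorphism group `I`. -/
def fixJ (I : Subgroup (MulAut P)) (J : Subgroup ↥I) : Subgroup P where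
  carrier := {x | ∀ T : ↥I, T ∈ J → (T : MulAut P) x = x}
  mul_mem' := by
    intro a b ha hb T hT
    rw [map_mul, ha T hT, hb T hT]
  one_mem' := by
    intro T _
    exact map_one _
  inv_mem' := by
    intro a ha T hT
    rw [map_inv, ha T hT]

theorem mem_fixJ (I : Subgroup (MulAut P)) (J : Subgroup ↥I) (x : P) :
    x ∈ fixJ I J ↔ ∀ T : ↥I, T ∈ J → (T : MulAut P) x = x := Iff.rfl

/-- Fixed points of a single automorphism. -/
def fixT (T : MulAut P) : Subgroup P where
  carrier := {x | T x = x}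
  mul_mem' := by
    intro a b ha hb
    show T (a * b) = a * b
    rw [map_mul, ha, hb]
  one_mem' := map_one _
  inv_mem' := by
    intro a ha
    show T a⁻¹ = a⁻¹
    rw [map_inv, ha]

theorem mem_fixT (T : MulAut P) (x : P) : x ∈ fixT T ↔ T x = x := Iff.rfl

/-- Generation by fixed points of subgroups of index at most two. -/
theorem gen_fix [Finite P] (I : Subgroup (MulAut P))
    (hcomm : ∀ S ∈ I, ∀ T ∈ I, S * T = T * S) (hsq : ∀ T ∈ I, T * T = 1) (h4 : 4 ≤ Nat.card ↥I)
    (hodd : Odd (Nat.card P)) (X Y : Subgroup P) (hX : ∀ T ∈ I, ∀ x ∈ X, T x ∈ X)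
    (h : ∀ J : Subgroup ↥I, J.index ≤ 2 → X ⊓ fixJ I J ≤ Y) : X ≤ Y := by
  classical
  have hfin : Finite (P ⋊[I.subtype] ↥I) :=
    Finite.of_injective (fun x : P ⋊[I.subtype] ↥I => (x.left, x.right)) (by
      intro a b hab
      simp only [Prod.mk.injEq] at hab
      exact SemidirectProduct.ext hab.1 hab.2)
  have h2 : Fact (Nat.Prime 2) := ⟨Nat.prime_two⟩
  have conj : ∀ (T : ↥I) (x : P), (SemidirectProduct.inr T : P ⋊[I.subtype] ↥I) *
      SemidirectProduct.inl x * (SemidirectProduct.inr T)⁻¹ =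
      SemidirectProduct.inl ((T : MulAut P) x) := by
    intro T x
    have := SemidirectProduct.inl_aut (φ := I.subtype) T x
    rw [map_inv] at this
    exact this.symm
  have hA : Cfsg.IsElementaryAbelian 2
      (SemidirectProduct.inr : ↥I →* P ⋊[I.subtype] ↥I).range := by
    refine ⟨⟨⟨?_⟩⟩, ?_⟩
    · rintro ⟨a, S, rfl⟩ ⟨b, T, rfl⟩
      apply Subtype.ext
      show SemidirectProduct.inr S * SemidirectProduct.inr T =
        SemidirectProduct.inr T * SemidirectProduct.inr S
      rw [← map_mul, ← map_mul]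
      congr 1
      exact Subtype.ext (hcomm S S.2 T T.2)
    · rintro a ⟨T, rfl⟩
      rw [← map_pow]
      have : T ^ 2 = 1 := by
        apply Subtype.ext
        rw [pow_two]
        exact hsq T T.2
      rw [this, map_one]
  have hA2 : 2 ^ 2 ≤ Nat.card ↥(SemidirectProduct.inr : ↥I →* P ⋊[I.subtype] ↥I).range := by
    have e : Nat.card ↥(SemidirectProduct.inr : ↥I →* P ⋊[I.subtype] ↥I).range = Nat.card ↥I :=
      Nat.card_congr (MonoidHom.ofInjective SemidirectProduct.inr_injective).toEquiv.symm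
    rw [e]
    exact h4
  have hXc : ¬ 2 ∣ Nat.card ↥(X.map (SemidirectProduct.inl : P →* P ⋊[I.subtype] ↥I)) := by
    have e : Nat.card ↥(X.map (SemidirectProduct.inl : P →* P ⋊[I.subtype] ↥I)) = Nat.card ↥X :=
      Nat.card_congr (X.equivMapOfInjective _ SemidirectProduct.inl_injective).toEquiv.symm
    rw [e]
    intro hdvd
    have h3 : Odd (Nat.card ↥X) := Odd.of_dvd_nat hodd (Subgroup.card_subgroup_dvd_card X)
    rcases h3 with ⟨k, hk⟩
    omega
  have hAX : (SemidirectProduct.inr : ↥I →* P ⋊[I.subtype] ↥I).range ≤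
      Subgroup.normalizer ((X.map (SemidirectProduct.inl : P →* P ⋊[I.subtype] ↥I) :
        Subgroup (P ⋊[I.subtype] ↥I)) : Set (P ⋊[I.subtype] ↥I)) := by
    rintro a ⟨T, rfl⟩
    rw [Subgroup.mem_normalizer_iff]
    intro y
    constructor
    · rintro ⟨x, hx, rfl⟩
      exact ⟨(T : MulAut P) x, hX _ T.2 x hx, (conj T x).symm⟩
    · rintro ⟨x, hx, hxy⟩
      refine ⟨((T⁻¹ : ↥I) : MulAut P) x, hX _ (T⁻¹).2 x hx, ?_⟩
      rw [← conj (T⁻¹) x, hxy, map_inv]
      group
  have key := Cfsg.Agent.S1324.result 2 (SemidirectProduct.inr : ↥I →* P ⋊[I.subtype] ↥I).range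
    (X.map (SemidirectProduct.inl : P →* P ⋊[I.subtype] ↥I)) hA hA2 hXc hAX
  have hle : X.map (SemidirectProduct.inl : P →* P ⋊[I.subtype] ↥I) ≤
      Y.map (SemidirectProduct.inl : P →* P ⋊[I.subtype] ↥I) := by
    rw [key]
    apply iSup_le
    rintro ⟨B, hBA, hBi⟩
    intro y hy
    obtain ⟨⟨x, hx, rfl⟩, hyc⟩ := hy
    refine ⟨x, h (B.comap (SemidirectProduct.inr : ↥I →* P ⋊[I.subtype] ↥I)) ?_ ⟨hx, ?_⟩, rfl⟩
    · rw [Subgroup.index_comap]
      exact hBi
    · intro T hT
      have hc := (Subgroup.mem_centralizer_iff.mp hyc) (SemidirectProduct.inr T) hT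
      apply SemidirectProduct.inl_injective (φ := I.subtype)
      rw [← conj T x, hc]
      group
  exact (Subgroup.map_le_map_iff_of_injective SemidirectProduct.inl_injective).mp hle

end EightAct

end Cfsg.Agent.Lib.helper76
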