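import Mathlib
import Cfsg.Agent.S3375
import Cfsg.Agent.Lib.helper76.EightAct

/-!
Elementary abelian groups of order eight acting on odd `p`-groups with few non-cyclic
fixed-point subgroups: structure lemmas.
-/

namespace Cfsg.Agent.Lib.helper76

section EightStruct

variable {P : Type*} [Group P]

/-- The fixed points of `T` form a cyclic subgroup. -/
def Nrw (T : MulAut P) : Prop := ∃ g : P, ∀ x : P, (T x = x ↔ x ∈ Subgroup.zpowers g)

theorem inv_or_fix [Finite P] (p : ℕ) (hp : p.Prime) (hp2 : p ≠ 2) (hP : IsPGroup p P)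
    (S T : MulAut P) (hST : S * T = T * S) (hS : S * S = 1) (g : P)
    (hg : ∀ x : P, (T x = x ↔ x ∈ Subgroup.zpowers g)) :
    (∀ x ∈ Subgroup.zpowers g, S x = x) ∨ (∀ x ∈ Subgroup.zpowers g, S x = x⁻¹) := by
  have hTg : T g = g := (hg g).mpr (Subgroup.mem_zpowers g)
  have hSg : S g ∈ Subgroup.zpowers g := by
    rw [← hg]
    have h1 : (T * S) g = (S * T) g := by rw [hST]
    have h2 : T (S g) = S (T g) := h1
    rw [h2, hTg]
  obtain ⟨k, hk⟩ := Subgroup.mem_zpowers_iff.mp hSg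
  have hSS : S (S g) = g := by
    have h1 : (S * S) g = (1 : MulAut P) g := by rw [hS]
    exact h1
  have hkk : g ^ (k * k - 1) = 1 := by
    have h1 : g ^ (k * k) = g := by
      rw [zpow_mul, hk, ← map_zpow, hk, hSS]
    rw [zpow_sub, h1, zpow_one, mul_inv_cancel]
  have hdvd : (orderOf g : ℤ) ∣ (k - 1) * (k + 1) := by
    have h1 := orderOf_dvd_iff_zpow_eq_one.mpr hkk
    have e : (k - 1) * (k + 1) = k * k - 1 := by ring
    rw [e]
    exact h1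
  obtain ⟨m, hm⟩ : ∃ m, orderOf g = p ^ m := by
    obtain ⟨m, hm⟩ := hP g
    obtain ⟨m', -, hm'⟩ := (Nat.dvd_prime_pow hp).mp (orderOf_dvd_of_pow_eq_one hm)
    exact ⟨m', hm'⟩
  have hpZ : Prime (p : ℤ) := Nat.prime_iff_prime_int.mp hp
  have key : g ^ k = g ∨ g ^ k = g⁻¹ := by
    by_cases h1 : (p : ℤ) ∣ k - 1
    · have h2 : ¬ (p : ℤ) ∣ k + 1 := by
        intro h2
        have h3 : (p : ℤ) ∣ 2 := by
          have h4 := dvd_sub h2 h1
          have e : k + 1 - (k - 1) = 2 := by ring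
          rwa [e] at h4
        have h4 : p ∣ 2 := by exact_mod_cast h3
        exact hp2 ((Nat.prime_dvd_prime_iff_eq hp Nat.prime_two).mp h4)
      have hco : IsCoprime ((orderOf g : ℕ) : ℤ) (k + 1) := by
        rw [hm]
        push_cast
        exact IsCoprime.pow_left ((Prime.coprime_iff_not_dvd hpZ).mpr h2)
      have h5 : (orderOf g : ℤ) ∣ k - 1 := hco.dvd_of_dvd_mul_right hdvd
      left
      have h6 := orderOf_dvd_iff_zpow_eq_one.mp h5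
      rw [zpow_sub, zpow_one, mul_inv_eq_one] at h6
      exact h6
    · have hco : IsCoprime ((orderOf g : ℕ) : ℤ) (k - 1) := by
        rw [hm]
        push_cast
        exact IsCoprime.pow_left ((Prime.coprime_iff_not_dvd hpZ).mpr h1)
      have h5 : (orderOf g : ℤ) ∣ k + 1 := hco.dvd_of_dvd_mul_left hdvd
      right
      have h6 := orderOf_dvd_iff_zpow_eq_one.mp h5
      rw [zpow_add, zpow_one] at h6
      exact eq_inv_of_mul_eq_one_left h6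
  rcases key with h | h
  · left
    intro x hx
    obtain ⟨j, rfl⟩ := Subgroup.mem_zpowers_iff.mp hx
    rw [map_zpow, ← hk, h]
  · right
    intro x hx
    obtain ⟨j, rfl⟩ := Subgroup.mem_zpowers_iff.mp hx
    rw [map_zpow, ← hk, h, inv_zpow]

theorem c1 [Finite P] (I : Subgroup (MulAut P))
    (hcomm : ∀ S ∈ I, ∀ T ∈ I, S * T = T * S) (hsq : ∀ T ∈ I, T * T = 1) (h4 : 4 ≤ Nat.card ↥I)
    (hodd : Odd (Nat.card P)) (T : ↥I) (hT : T ≠ 1) :
    ∃ J : Subgroup ↥I, J.index = 2 ∧ T ∉ J ∧ ¬ fixJ I J ≤ fixJ I ⊤ := by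
  have : Finite ↥I := Nat.finite_of_card_ne_zero (by omega)
  by_contra hcon
  push Not at hcon
  have hle : (⊤ : Subgroup P) ≤ fixT (T : MulAut P) := by
    apply gen_fix I hcomm hsq h4 hodd ⊤ (fixT (T : MulAut P)) (fun _ _ _ _ => Subgroup.mem_top _)
    intro J hJ x hx
    rw [mem_fixT]
    by_cases hTJ : T ∈ J
    · exact (mem_fixJ I J x).mp (Subgroup.mem_inf.mp hx).2 T hTJ
    · have hidx : J.index = 2 := by
        have h0 : J.index ≠ 0 := Subgroup.index_ne_zero_of_finite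
        have h1 : J.index ≠ 1 := by
          intro h1
          rw [Subgroup.index_eq_one] at h1
          exact hTJ (h1 ▸ Subgroup.mem_top T)
        omega
      exact (mem_fixJ I ⊤ x).mp (hcon J hidx hTJ (Subgroup.mem_inf.mp hx).2) T (Subgroup.mem_top T)
  apply hT
  apply Subtype.ext
  apply MulEquiv.ext
  intro x
  exact hle (Subgroup.mem_top x)

theorem zstruct [Finite P] (p : ℕ) (hp : p.Prime) (hp2 : p ≠ 2) (hP : IsPGroup p P)
    (I : Subgroup (MulAut P))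
    (hcomm : ∀ S ∈ I, ∀ T ∈ I, S * T = T * S) (hsq : ∀ T ∈ I, T * T = 1)
    (hodd : Odd (Nat.card P))
    (J : Subgroup ↥I) (hJ : J.index = 2) (hJF : ¬ fixJ I J ≤ fixJ I ⊤)
    (s : ↥I) (hs : s ∈ J) (c : P)
    (hc : ∀ x : P, ((s : MulAut P) x = x ↔ x ∈ Subgroup.zpowers c)) :
    c ≠ 1 ∧ (∀ T : ↥I, T ∈ J → (T : MulAut P) c = c) ∧
      (∀ T : ↥I, T ∉ J → (T : MulAut P) c = c⁻¹) := by
  obtain ⟨x, hxJ', hxF⟩ := SetLike.not_le_iff_exists.mp hJF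
  have hxJ := (mem_fixJ I J x).mp hxJ'
  have hxc : x ∈ Subgroup.zpowers c := (hc x).mp (hxJ s hs)
  have hx1 : x ≠ 1 := by
    intro h
    rw [h] at hxF
    exact hxF (Subgroup.one_mem _)
  have hxx : x = x⁻¹ → False := by
    intro h
    apply hx1
    apply eq_one_of_odd_of_mul_self x (Odd.of_dvd_nat hodd (orderOf_dvd_natCard x))
    calc x * x = x * x⁻¹ := by rw [← h]
      _ = 1 := mul_inv_cancel x
  have hc1 : c ≠ 1 := by
    intro h
    rw [h, Subgroup.zpowers_one_eq_bot, Subgroup.mem_bot] at hxc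
    exact hx1 hxc
  have hcc : c ∈ Subgroup.zpowers c := Subgroup.mem_zpowers c
  have alt : ∀ T : ↥I, (∀ y ∈ Subgroup.zpowers c, (T : MulAut P) y = y) ∨
      (∀ y ∈ Subgroup.zpowers c, (T : MulAut P) y = y⁻¹) :=
    fun T => inv_or_fix p hp hp2 hP (T : MulAut P) (s : MulAut P) (hcomm _ T.2 _ s.2)
      (hsq _ T.2) c hc
  refine ⟨hc1, ?_, ?_⟩
  · intro T hT
    rcases alt T with h | h
    · exact h c hcc
    · exfalso
      apply hxx
      rw [← h x hxc]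
      exact (hxJ T hT).symm
  · intro T hT
    rcases alt T with h | h
    · exfalso
      apply hxF
      rw [mem_fixJ]
      intro U _
      by_cases hU : U ∈ J
      · exact hxJ U hU
      · have hUT : U * T ∈ J := (Subgroup.mul_mem_iff_of_index_two hJ).mpr
          ⟨fun h' => absurd h' hU, fun h' => absurd h' hT⟩
        have h2 : (U : MulAut P) ((T : MulAut P) x) = x := hxJ (U * T) hUT
        rw [h x hxc] at h2
        exact h2
    · exact h c hcc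

theorem c3 [Finite P] (p : ℕ) (hp : p.Prime) (hp2 : p ≠ 2) (hP : IsPGroup p P)
    (I : Subgroup (MulAut P))
    (hcomm : ∀ S ∈ I, ∀ T ∈ I, S * T = T * S) (hsq : ∀ T ∈ I, T * T = 1)
    (hodd : Odd (Nat.card P))
    (J J' : Subgroup ↥I) (hJ : J.index = 2) (hJF : ¬ fixJ I J ≤ fixJ I ⊤)
    (hJ' : J'.index = 2) (hJF' : ¬ fixJ I J' ≤ fixJ I ⊤)
    (s : ↥I) (hs : s ∈ J) (hs' : s ∈ J') (hn : Nrw (s : MulAut P)) : J = J' := by
  obtain ⟨c, hc⟩ := hn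
  obtain ⟨hc1, hin, hout⟩ := zstruct p hp hp2 hP I hcomm hsq hodd J hJ hJF s hs c hc
  obtain ⟨-, hin', hout'⟩ := zstruct p hp hp2 hP I hcomm hsq hodd J' hJ' hJF' s hs' c hc
  have hcc : c = c⁻¹ → False := by
    intro h
    apply hc1
    apply eq_one_of_odd_of_mul_self c (Odd.of_dvd_nat hodd (orderOf_dvd_natCard c))
    calc c * c = c * c⁻¹ := by rw [← h]
      _ = 1 := mul_inv_cancel c
  apply le_antisymm
  · intro T hT
    by_contra hT'
    exact hcc ((hin T hT).symm.trans (hout' T hT'))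
  · intro T hT'
    by_contra hT
    exact hcc ((hin' T hT').symm.trans (hout T hT))

theorem frame [Finite P] (p : ℕ) (hp : p.Prime) (hp2 : p ≠ 2) (hP : IsPGroup p P)
    (I : Subgroup (MulAut P)) (hcomm : ∀ S ∈ I, ∀ T ∈ I, S * T = T * S)
    (hsq : ∀ T ∈ I, T * T = 1) (hI8 : Nat.card ↥I = 8)
    (I₀ : Subgroup (MulAut P))
    (hdisj : ∀ T ∈ I₀, T ≠ 1 → Nrw T)
    (hprod : ∀ T ∈ I, ∀ T' ∈ I, T ≠ 1 → T' ≠ 1 → ¬ Nrw T → ¬ Nrw T' → T * T' ∈ I₀) :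
    ∃ T₁ T₂ T₃ : ↥I, ∃ c₁ c₂ c₃ : P,
      (T₁ ≠ 1 ∧ T₂ ≠ 1 ∧ T₃ ≠ 1) ∧
      (¬ Nrw (T₁ : MulAut P) ∧ ¬ Nrw (T₂ : MulAut P) ∧ ¬ Nrw (T₃ : MulAut P)) ∧
      (T₁ ≠ T₂ ∧ T₁ ≠ T₃ ∧ T₂ ≠ T₃) ∧
      (c₁ ≠ 1 ∧ c₂ ≠ 1 ∧ c₃ ≠ 1) ∧
      ((T₁ : MulAut P) c₁ = c₁⁻¹ ∧ (T₁ : MulAut P) c₂ = c₂ ∧ (T₁ : MulAut P) c₃ = c₃) ∧
      ((T₂ : MulAut P) c₁ = c₁ ∧ (T₂ : MulAut P) c₂ = c₂⁻¹ ∧ (T₂ : MulAut P) c₃ = c₃) ∧
      ((T₃ : MulAut P) c₁ = c₁ ∧ (T₃ : MulAut P) c₂ = c₂ ∧ (T₃ : MulAut P) c₃ = c₃⁻¹) ∧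
      ((∀ x : P, ((T₂ * T₃ : ↥I) : MulAut P) x = x ↔ x ∈ Subgroup.zpowers c₁) ∧
       (∀ x : P, ((T₁ * T₃ : ↥I) : MulAut P) x = x ↔ x ∈ Subgroup.zpowers c₂) ∧
       (∀ x : P, ((T₁ * T₂ : ↥I) : MulAut P) x = x ↔ x ∈ Subgroup.zpowers c₃)) ∧
      (∀ J : Subgroup ↥I, J.index ≤ 2 → ∀ x ∈ fixJ I J,
        x ∈ Subgroup.zpowers c₁ ∨ x ∈ Subgroup.zpowers c₂ ∨ x ∈ Subgroup.zpowers c₃) ∧
      (∀ T : ↥I, ((T : MulAut P) c₁ = c₁ ∨ (T : MulAut P) c₁ = c₁⁻¹) ∧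
        ((T : MulAut P) c₂ = c₂ ∨ (T : MulAut P) c₂ = c₂⁻¹) ∧
        ((T : MulAut P) c₃ = c₃ ∨ (T : MulAut P) c₃ = c₃⁻¹)) := by
  classical
  have hfin : Finite ↥I := Nat.finite_of_card_ne_zero (by omega)
  have h4 : 4 ≤ Nat.card ↥I := by omega
  have hodd : Odd (Nat.card P) := by
    have : Fact p.Prime := ⟨hp⟩
    obtain ⟨n, hn⟩ := IsPGroup.iff_card.mp hP
    rw [hn]
    exact (hp.odd_of_ne_two hp2).pow
  have hs : ∀ a : ↥I, a * a = 1 := fun a => Subtype.ext (hsq a a.2)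
  have hc : ∀ a b : ↥I, a * b = b * a := fun a b => Subtype.ext (hcomm a a.2 b b.2)
  have hne_of : ∀ a b : ↥I, a * b = 1 → a = b := by
    intro a b h
    calc a = a * (b * b) := by rw [hs, mul_one]
      _ = (a * b) * b := by rw [mul_assoc]
      _ = b := by rw [h, one_mul]
  have hinf : ∀ J J' : Subgroup ↥I, J.index = 2 → J'.index = 2 →
      ∃ T : ↥I, T ∈ J ∧ T ∈ J' ∧ T ≠ 1 := by
    intro J J' hJ hJ'
    by_contra hcon
    push Not at hcon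
    have hbot : J ⊓ J' = ⊥ := by
      rw [Subgroup.eq_bot_iff_forall]
      intro x hx
      exact hcon x hx.1 hx.2
    have h1 : (J ⊓ J').index ≤ J.index * J'.index := Subgroup.index_inf_le
    rw [hbot, Subgroup.index_bot, hI8, hJ, hJ'] at h1
    omega
  have C3 : ∀ J J' : Subgroup ↥I, J.index = 2 → ¬ fixJ I J ≤ fixJ I ⊤ → J'.index = 2 →
      ¬ fixJ I J' ≤ fixJ I ⊤ → J ≠ J' → ∀ s : ↥I, s ∈ J → s ∈ J' → ¬ Nrw (s : MulAut P) :=
    fun J J' hJ hJF hJ' hJF' hne s hs hs' hn =>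
      hne (c3 p hp hp2 hP I hcomm hsq hodd J J' hJ hJF hJ' hJF' s hs hs' hn)
  have hnar : ∀ a b : ↥I, a ≠ 1 → b ≠ 1 → ¬ Nrw (a : MulAut P) → ¬ Nrw (b : MulAut P) →
      a ≠ b → Nrw ((a * b : ↥I) : MulAut P) := by
    intro a b ha hb hna hnb hab
    apply hdisj _ (hprod a a.2 b b.2 (fun h => ha (Subtype.ext h)) (fun h => hb (Subtype.ext h))
      hna hnb)
    intro h
    exact hab (hne_of a b (Subtype.ext h))
  obtain ⟨T₀, hT₀⟩ : ∃ T : ↥I, T ≠ 1 := by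
    by_contra hcon
    push Not at hcon
    have h1 : Nat.card ↥I ≤ 1 := by
      have hsub : Subsingleton ↥I := ⟨fun a b => (hcon a).trans (hcon b).symm⟩
      exact Finite.card_le_one_iff_subsingleton.mpr hsub
    omega
  obtain ⟨J₁, hJ₁, -, hF₁⟩ := c1 I hcomm hsq h4 hodd T₀ hT₀
  obtain ⟨Ta, hTa, -, hTa1⟩ := hinf J₁ J₁ hJ₁ hJ₁
  obtain ⟨J₂, hJ₂, hTa2, hF₂⟩ := c1 I hcomm hsq h4 hodd Ta hTa1
  have h12 : J₁ ≠ J₂ := by
    intro h
    rw [h] at hTa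
    exact hTa2 hTa
  obtain ⟨T₃, h31, h32, hT₃⟩ := hinf J₁ J₂ hJ₁ hJ₂
  have hb3 : ¬ Nrw (T₃ : MulAut P) := C3 J₁ J₂ hJ₁ hF₁ hJ₂ hF₂ h12 T₃ h31 h32
  obtain ⟨J₃, hJ₃, h33, hF₃⟩ := c1 I hcomm hsq h4 hodd T₃ hT₃
  have h13 : J₁ ≠ J₃ := by
    intro h
    rw [h] at h31
    exact h33 h31
  have h23 : J₂ ≠ J₃ := by
    intro h
    rw [h] at h32
    exact h33 h32
  obtain ⟨T₂, h21, h23', hT₂⟩ := hinf J₁ J₃ hJ₁ hJ₃
  have hb2 : ¬ Nrw (T₂ : MulAut P) := C3 J₁ J₃ hJ₁ hF₁ hJ₃ hF₃ h13 T₂ h21 h23'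
  obtain ⟨T₁, h12', h13', hT₁⟩ := hinf J₂ J₃ hJ₂ hJ₃
  have hb1 : ¬ Nrw (T₁ : MulAut P) := C3 J₂ J₃ hJ₂ hF₂ hJ₃ hF₃ h23 T₁ h12' h13'
  have hT23 : T₂ ≠ T₃ := by
    intro h
    rw [h] at h23'
    exact h33 h23'
  have hT13 : T₁ ≠ T₃ := by
    intro h
    rw [h] at h13'
    exact h33 h13'
  have h22 : T₂ ∉ J₂ := by
    intro h22
    exact C3 J₁ J₂ hJ₁ hF₁ hJ₂ hF₂ h12 (T₂ * T₃) (J₁.mul_mem h21 h31) (J₂.mul_mem h22 h32)
      (hnar T₂ T₃ hT₂ hT₃ hb2 hb3 hT23)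
  have h11 : T₁ ∉ J₁ := by
    intro h11
    exact C3 J₁ J₂ hJ₁ hF₁ hJ₂ hF₂ h12 (T₁ * T₃) (J₁.mul_mem h11 h31) (J₂.mul_mem h12' h32)
      (hnar T₁ T₃ hT₁ hT₃ hb1 hb3 hT13)
  have hT12 : T₁ ≠ T₂ := by
    intro h
    rw [h] at h11
    exact h11 h21
  obtain ⟨c₁, hc₁⟩ := hnar T₂ T₃ hT₂ hT₃ hb2 hb3 hT23
  obtain ⟨c₂, hc₂⟩ := hnar T₁ T₃ hT₁ hT₃ hb1 hb3 hT13
  obtain ⟨c₃, hc₃⟩ := hnar T₁ T₂ hT₁ hT₂ hb1 hb2 hT12
  obtain ⟨hn1, hin1, hout1⟩ := zstruct p hp hp2 hP I hcomm hsq hodd J₁ hJ₁ hF₁ (T₂ * T₃)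
    (J₁.mul_mem h21 h31) c₁ hc₁
  obtain ⟨hn2, hin2, hout2⟩ := zstruct p hp hp2 hP I hcomm hsq hodd J₂ hJ₂ hF₂ (T₁ * T₃)
    (J₂.mul_mem h12' h32) c₂ hc₂
  obtain ⟨hn3, hin3, hout3⟩ := zstruct p hp hp2 hP I hcomm hsq hodd J₃ hJ₃ hF₃ (T₁ * T₂)
    (J₃.mul_mem h13' h23') c₃ hc₃
  refine ⟨T₁, T₂, T₃, c₁, c₂, c₃, ⟨hT₁, hT₂, hT₃⟩, ⟨hb1, hb2, hb3⟩, ⟨hT12, hT13, hT23⟩,
    ⟨hn1, hn2, hn3⟩, ⟨hout1 T₁ h11, hin2 T₁ h12', hin3 T₁ h13'⟩,
    ⟨hin1 T₂ h21, hout2 T₂ h22, hin3 T₂ h23'⟩,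
    ⟨hin1 T₃ h31, hin2 T₃ h32, hout3 T₃ h33⟩, ⟨hc₁, hc₂, hc₃⟩, ?_, ?_⟩
  · intro J hJ x hx'
    have hx := (mem_fixJ I J x).mp hx'
    by_cases m1 : T₂ * T₃ ∈ J
    · left
      exact (hc₁ x).mp (hx _ m1)
    · by_cases m2 : T₁ * T₃ ∈ J
      · right
        left
        exact (hc₂ x).mp (hx _ m2)
      · right
        right
        have hidx : J.index = 2 := by
          have h0 : J.index ≠ 0 := Subgroup.index_ne_zero_of_finite
          have h1 : J.index ≠ 1 := by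
            intro h1
            rw [Subgroup.index_eq_one] at h1
            exact m1 (h1 ▸ Subgroup.mem_top _)
          omega
        have m3 : T₂ * T₃ * (T₁ * T₃) ∈ J := (Subgroup.mul_mem_iff_of_index_two hidx).mpr
          ⟨fun h => absurd h m1, fun h => absurd h m2⟩
        have e : T₂ * T₃ * (T₁ * T₃) = T₁ * T₂ := by
          rw [mul_assoc, hc T₁ T₃, ← mul_assoc T₃, hs T₃, one_mul, hc T₂ T₁]
        rw [e] at m3
        exact (hc₃ x).mp (hx _ m3)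
  · intro T
    refine ⟨?_, ?_, ?_⟩
    · by_cases h : T ∈ J₁
      · left
        exact hin1 T h
      · right
        exact hout1 T h
    · by_cases h : T ∈ J₂
      · left
        exact hin2 T h
      · right
        exact hout2 T h
    · by_cases h : T ∈ J₃
      · left
        exact hin3 T h
      · right
        exact hout3 T h

theorem zpow_split {A : Type*} [Group A] (a : A) (p : ℕ) (hp : 0 < p) (m : ℤ) :
    ∃ i : ℕ, i < p ∧ ∃ y : A, a ^ m = a ^ i * y ^ p := by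
  have hpz : (0 : ℤ) < (p : ℤ) := by exact_mod_cast hp
  have h0 : 0 ≤ m % (p : ℤ) := Int.emod_nonneg m hpz.ne'
  have h1 : m % (p : ℤ) < p := Int.emod_lt_of_pos m hpz
  refine ⟨(m % (p : ℤ)).toNat, by omega, a ^ (m / (p : ℤ)), ?_⟩
  have e : m = ((m % (p : ℤ)).toNat : ℤ) + (m / (p : ℤ)) * (p : ℤ) := by
    rw [Int.toNat_of_nonneg h0]
    have h2 := Int.emod_add_mul_ediv m (p : ℤ)
    linarith [mul_comm (m / (p : ℤ)) (p : ℤ)]
  conv_lhs => rw [e]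
  rw [zpow_add, zpow_natCast, zpow_mul, zpow_natCast]

theorem indep1 {A : Type*} [Group A] (p : ℕ) (hp : p.Prime) (hp2 : p ≠ 2) (T : MulAut A)
    (z u u' : A) (hT : T z = z⁻¹) (hu : T u = u) (hu' : T u' = u') (ho : orderOf z = p)
    (i i' : ℕ) (hi : i < p) (hi' : i' < p) (E : z ^ i * u = z ^ i' * u') : i = i' := by
  have E' : (z ^ i)⁻¹ * u = (z ^ i')⁻¹ * u' := by
    have h1 := congrArg T E
    rw [map_mul, map_mul, map_pow, map_pow, hT, hu, hu', inv_pow, inv_pow] at h1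
    exact h1
  have h2 : z ^ i * z ^ i = z ^ i' * z ^ i' := by
    generalize z ^ i = X at E E' ⊢
    generalize z ^ i' = Y at E E' ⊢
    calc X * X = (X * u) * (X⁻¹ * u)⁻¹ := by group
      _ = (Y * u') * (Y⁻¹ * u')⁻¹ := by rw [E, E']
      _ = Y * Y := by group
  rw [← pow_add, ← pow_add, pow_eq_pow_iff_modEq, ho] at h2
  have h3 : 2 * i ≡ 2 * i' [MOD p] := by
    have e1 : 2 * i = i + i := by ring
    have e2 : 2 * i' = i' + i' := by ring
    rw [e1, e2]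
    exact h2
  have hco : Nat.gcd p 2 = 1 := (Nat.coprime_primes hp Nat.prime_two).mpr hp2
  exact (Nat.ModEq.cancel_left_of_coprime hco h3).eq_of_lt_of_lt hi hi'

theorem not_two_gen_comm {A : Type*} [CommGroup A] [Finite A] (p : ℕ) (hp : p.Prime)
    (hp2 : p ≠ 2) (T₁ T₂ : MulAut A) (z₁ z₂ z₃ : A)
    (ho1 : orderOf z₁ = p) (ho2 : orderOf z₂ = p) (ho3 : orderOf z₃ = p)
    (h11 : T₁ z₁ = z₁⁻¹) (h12 : T₁ z₂ = z₂) (h13 : T₁ z₃ = z₃)
    (h22 : T₂ z₂ = z₂⁻¹) (h23 : T₂ z₃ = z₃) :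
    ¬ ∃ a b : A, Subgroup.closure {a, b} = ⊤ := by
  rintro ⟨a, b, hab⟩
  have hp0 : 0 < p := hp.pos
  have hK : Nat.card ↥(powMonoidHom p : A →* A).ker * Nat.card ↥(powMonoidHom p : A →* A).range
      = Nat.card A := by
    rw [← Subgroup.index_ker]
    exact Subgroup.card_mul_index _
  have hzp : ∀ z : A, orderOf z = p → ∀ i : ℕ, (z ^ i) ^ p = 1 := by
    intro z hz i
    rw [← pow_mul, mul_comm, pow_mul, ← hz, pow_orderOf_eq_one, one_pow]
  have hlow : p * (p * p) ≤ Nat.card ↥(powMonoidHom p : A →* A).ker := by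
    let f : Fin p × Fin p × Fin p → ↥(powMonoidHom p : A →* A).ker := fun t =>
      ⟨z₁ ^ (t.1 : ℕ) * z₂ ^ (t.2.1 : ℕ) * z₃ ^ (t.2.2 : ℕ), by
        rw [MonoidHom.mem_ker, powMonoidHom_apply, mul_pow, mul_pow, hzp z₁ ho1, hzp z₂ ho2,
          hzp z₃ ho3, one_mul, one_mul]⟩
    have hf : Function.Injective f := by
      rintro ⟨i, j, k⟩ ⟨i', j', k'⟩ h
      have E : z₁ ^ (i : ℕ) * z₂ ^ (j : ℕ) * z₃ ^ (k : ℕ) =
          z₁ ^ (i' : ℕ) * z₂ ^ (j' : ℕ) * z₃ ^ (k' : ℕ) := congrArg Subtype.val h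
      have e1 : (i : ℕ) = i' := by
        apply indep1 p hp hp2 T₁ z₁ (z₂ ^ (j : ℕ) * z₃ ^ (k : ℕ)) (z₂ ^ (j' : ℕ) * z₃ ^ (k' : ℕ))
          h11 _ _ ho1 _ _ i.2 i'.2
        · rw [← mul_assoc, ← mul_assoc]
          exact E
        · rw [map_mul, map_pow, map_pow, h12, h13]
        · rw [map_mul, map_pow, map_pow, h12, h13]
      rw [e1, mul_assoc, mul_assoc] at E
      have E2 := mul_left_cancel E
      have e2 : (j : ℕ) = j' := indep1 p hp hp2 T₂ z₂ (z₃ ^ (k : ℕ)) (z₃ ^ (k' : ℕ)) h22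
        (by rw [map_pow, h23]) (by rw [map_pow, h23]) ho2 _ _ j.2 j'.2 E2
      rw [e2] at E2
      have E3 := mul_left_cancel E2
      have e3 : (k : ℕ) = k' := by
        rw [pow_eq_pow_iff_modEq, ho3] at E3
        exact E3.eq_of_lt_of_lt k.2 k'.2
      rw [Prod.mk.injEq, Prod.mk.injEq]
      exact ⟨Fin.ext e1, Fin.ext e2, Fin.ext e3⟩
    have h1 := Nat.card_le_card_of_injective f hf
    simpa [Nat.card_prod] using h1
  have hup : Nat.card A ≤ p * (p * Nat.card ↥(powMonoidHom p : A →* A).range) := by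
    let g : Fin p × Fin p × ↥(powMonoidHom p : A →* A).range → A := fun t =>
      a ^ (t.1 : ℕ) * b ^ (t.2.1 : ℕ) * (t.2.2 : A)
    have hg : Function.Surjective g := by
      intro x
      have hx : x ∈ Subgroup.closure {a, b} := by
        rw [hab]
        exact Subgroup.mem_top x
      obtain ⟨m, n, rfl⟩ := Subgroup.mem_closure_pair.mp hx
      obtain ⟨i, hi, y, hy⟩ := zpow_split a p hp0 m
      obtain ⟨j, hj, w, hw⟩ := zpow_split b p hp0 n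
      refine ⟨(⟨i, hi⟩, ⟨j, hj⟩, ⟨(y * w) ^ p, ⟨y * w, rfl⟩⟩), ?_⟩
      show a ^ i * b ^ j * (y * w) ^ p = a ^ m * b ^ n
      rw [hy, hw, mul_pow]
      exact mul_mul_mul_comm _ _ _ _
    have h1 := Nat.card_le_card_of_surjective g hg
    simpa [Nat.card_prod] using h1
  have hRpos : 0 < Nat.card ↥(powMonoidHom p : A →* A).range := Nat.card_pos
  have h1 : Nat.card ↥(powMonoidHom p : A →* A).ker *
      Nat.card ↥(powMonoidHom p : A →* A).range ≤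
      p * p * Nat.card ↥(powMonoidHom p : A →* A).range := by
    rw [hK]
    calc Nat.card A ≤ p * (p * Nat.card ↥(powMonoidHom p : A →* A).range) := hup
      _ = p * p * Nat.card ↥(powMonoidHom p : A →* A).range := by ring
  have h2 : Nat.card ↥(powMonoidHom p : A →* A).ker ≤ p * p :=
    Nat.le_of_mul_le_mul_right h1 hRpos
  have h3 : p * (p * p) ≤ p * p := le_trans hlow h2
  have h4 : 2 ≤ p := hp.two_le
  nlinarith [Nat.mul_le_mul_right (p * p) h4, Nat.mul_le_mul h4 h4]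

theorem not_two_gen [Finite P] (hPc : ∀ a b : P, a * b = b * a) (p : ℕ) (hp : p.Prime)
    (hp2 : p ≠ 2) (T₁ T₂ : MulAut P) (z₁ z₂ z₃ : P)
    (ho1 : orderOf z₁ = p) (ho2 : orderOf z₂ = p) (ho3 : orderOf z₃ = p)
    (h11 : T₁ z₁ = z₁⁻¹) (h12 : T₁ z₂ = z₂) (h13 : T₁ z₃ = z₃)
    (h22 : T₂ z₂ = z₂⁻¹) (h23 : T₂ z₃ = z₃) :
    ¬ ∃ a b : P, Subgroup.closure {a, b} = ⊤ := by
  letI : CommGroup P := { (inferInstance : Group P) with mul_comm := hPc }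
  exact not_two_gen_comm p hp hp2 T₁ T₂ z₁ z₂ z₃ ho1 ho2 ho3 h11 h12 h13 h22 h23

theorem eight_main [Finite P] (p : ℕ) (hp : p.Prime) (hp2 : p ≠ 2) (hP : IsPGroup p P)
    (I : Subgroup (MulAut P)) (hcomm : ∀ S ∈ I, ∀ T ∈ I, S * T = T * S)
    (hsq : ∀ T ∈ I, T * T = 1) (hI8 : Nat.card ↥I = 8)
    (I₀ : Subgroup (MulAut P))
    (hdisj : ∀ T ∈ I₀, T ≠ 1 → Nrw T)
    (hprod : ∀ T ∈ I, ∀ T' ∈ I, T ≠ 1 → T' ≠ 1 → ¬ Nrw T → ¬ Nrw T' → T * T' ∈ I₀) :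
    ∃ T₁ T₂ T₃ : MulAut P, (T₁ ∈ I ∧ T₂ ∈ I ∧ T₃ ∈ I) ∧ (T₁ ≠ 1 ∧ T₂ ≠ 1 ∧ T₃ ≠ 1) ∧
      (¬ Nrw T₁ ∧ ¬ Nrw T₂ ∧ ¬ Nrw T₃) ∧ (T₁ ≠ T₂ ∧ T₁ ≠ T₃ ∧ T₂ ≠ T₃) ∧
      (Nrw (T₂ * T₃) ∧ Nrw (T₁ * T₃) ∧ Nrw (T₁ * T₂) ∧ Nrw (T₁ * T₂ * T₃)) ∧
      (∀ T ∈ I, T = 1 ∨ T = T₁ ∨ T = T₂ ∨ T = T₃ ∨ T = T₂ * T₃ ∨ T = T₁ * T₃ ∨ T = T₁ * T₂ ∨
        T = T₁ * T₂ * T₃) ∧
      (∀ x y : P, x * y = y * x) ∧ (∃ a b c : P, Subgroup.closure {a, b, c} = ⊤) ∧
      ¬ ∃ a b : P, Subgroup.closure {a, b} = ⊤ := by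
  obtain ⟨T₁, T₂, T₃, c₁, c₂, c₃, ⟨hT₁, hT₂, hT₃⟩, ⟨hb1, hb2, hb3⟩, ⟨hT12, hT13, hT23⟩,
    ⟨hn1, hn2, hn3⟩, ⟨a11, a12, a13⟩, ⟨a21, a22, a23⟩, ⟨a31, a32, a33⟩, ⟨hc₁, hc₂, hc₃⟩, hE, hF⟩ :=
    frame p hp hp2 hP I hcomm hsq hI8 I₀ hdisj hprod
  have hfin : Finite ↥I := Nat.finite_of_card_ne_zero (by omega)
  have h4 : 4 ≤ Nat.card ↥I := by omega
  have hodd : Odd (Nat.card P) := by
    have : Fact p.Prime := ⟨hp⟩
    obtain ⟨n, hn⟩ := IsPGroup.iff_card.mp hP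
    rw [hn]
    exact (hp.odd_of_ne_two hp2).pow
  have hs : ∀ a : ↥I, a * a = 1 := fun a => Subtype.ext (hsq a a.2)
  have hcx : ∀ (a b : ↥I) (x : P),
      (a : MulAut P) ((b : MulAut P) x) = (b : MulAut P) ((a : MulAut P) x) := by
    intro a b x
    have h1 : ((a : MulAut P) * (b : MulAut P)) x = ((b : MulAut P) * (a : MulAut P)) x := by
      rw [hcomm a a.2 b b.2]
    exact h1
  have hxx : ∀ x : P, x = x⁻¹ → x = 1 := by
    intro x h
    apply eq_one_of_odd_of_mul_self x (Odd.of_dvd_nat hodd (orderOf_dvd_natCard x))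
    calc x * x = x * x⁻¹ := by rw [← h]
      _ = 1 := mul_inv_cancel x
  -- generation
  have hgen : Subgroup.closure {c₁, c₂, c₃} = (⊤ : Subgroup P) := by
    rw [eq_top_iff]
    apply gen_fix I hcomm hsq h4 hodd ⊤ _ (fun _ _ _ _ => Subgroup.mem_top _)
    intro J hJ x hx
    rcases hE J hJ x (Subgroup.mem_inf.mp hx).2 with h | h | h
    · exact (Subgroup.zpowers_le.mpr (Subgroup.subset_closure (by simp))) h
    · exact (Subgroup.zpowers_le.mpr (Subgroup.subset_closure (by simp))) h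
    · exact (Subgroup.zpowers_le.mpr (Subgroup.subset_closure (by simp))) h
  -- the product of the three broad elements is fixed-point-free
  have hτmem : (T₁ : MulAut P) * (T₂ : MulAut P) * (T₃ : MulAut P) ∈ I :=
    I.mul_mem (I.mul_mem T₁.2 T₂.2) T₃.2
  have htau : ∀ x : P, (T₁ : MulAut P) ((T₂ : MulAut P) ((T₃ : MulAut P) x)) = x → x = 1 := by
    have hinv : ∀ x : P, (x ∈ Subgroup.zpowers c₁ ∨ x ∈ Subgroup.zpowers c₂ ∨
        x ∈ Subgroup.zpowers c₃) →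
        (T₁ : MulAut P) ((T₂ : MulAut P) ((T₃ : MulAut P) x)) = x⁻¹ := by
      intro x hx
      rcases hx with h | h | h
      · obtain ⟨k, rfl⟩ := Subgroup.mem_zpowers_iff.mp h
        rw [map_zpow, map_zpow, map_zpow, a31, a21, a11, inv_zpow]
      · obtain ⟨k, rfl⟩ := Subgroup.mem_zpowers_iff.mp h
        rw [map_zpow, map_zpow, map_zpow, a32, a22, map_inv, a12, inv_zpow]
      · obtain ⟨k, rfl⟩ := Subgroup.mem_zpowers_iff.mp h
        rw [map_zpow, map_zpow, map_zpow, a33, map_inv, a23, map_inv, a13, inv_zpow]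
    have hle : fixT ((T₁ : MulAut P) * (T₂ : MulAut P) * (T₃ : MulAut P)) ≤ ⊥ := by
      apply gen_fix I hcomm hsq h4 hodd
      · intro T hT x hx
        rw [mem_fixT] at hx ⊢
        have h1 : (((T₁ : MulAut P) * (T₂ : MulAut P) * (T₃ : MulAut P)) * T) x =
            (T * ((T₁ : MulAut P) * (T₂ : MulAut P) * (T₃ : MulAut P))) x := by
          rw [hcomm _ hτmem T hT]
        have h2 : ((T₁ : MulAut P) * (T₂ : MulAut P) * (T₃ : MulAut P)) (T x) =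
            T (((T₁ : MulAut P) * (T₂ : MulAut P) * (T₃ : MulAut P)) x) := h1
        rw [h2, hx]
      · intro J hJ x hx
        rw [Subgroup.mem_bot]
        apply hxx
        have h1 := hinv x (hE J hJ x (Subgroup.mem_inf.mp hx).2)
        have h2 : (T₁ : MulAut P) ((T₂ : MulAut P) ((T₃ : MulAut P) x)) = x :=
          (Subgroup.mem_inf.mp hx).1
        rw [← h1, h2]
    intro x hx
    exact (Subgroup.mem_bot.mp (hle hx))
  have hτ2 : orderOf ((T₁ : MulAut P) * (T₂ : MulAut P) * (T₃ : MulAut P)) = 2 := by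
    apply orderOf_eq_prime
    · rw [pow_two]
      exact hsq _ hτmem
    · intro h
      apply hn1
      apply htau
      have h1 : ((T₁ : MulAut P) * (T₂ : MulAut P) * (T₃ : MulAut P)) c₁ = c₁ := by
        rw [h]
        rfl
      exact h1
  have hPc : ∀ a b : P, a * b = b * a :=
    ((Cfsg.Agent.S3375.result _ hτ2).1 (fun h hh => htau h hh)).1
  have hnτ : Nrw ((T₁ : MulAut P) * (T₂ : MulAut P) * (T₃ : MulAut P)) := by
    refine ⟨1, fun x => ⟨fun h => ?_, fun h => ?_⟩⟩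
    · rw [htau x h]
      exact Subgroup.one_mem _
    · rw [Subgroup.zpowers_one_eq_bot, Subgroup.mem_bot] at h
      rw [h]
      exact map_one _
  -- decomposition of the elements of I
  have hfix1 : ∀ U : ↥I, (U : MulAut P) c₁ = c₁ → (U : MulAut P) c₂ = c₂ →
      (U : MulAut P) c₃ = c₃ → U = 1 := by
    intro U h1 h2 h3
    have hle : Subgroup.closure {c₁, c₂, c₃} ≤ fixT (U : MulAut P) := by
      rw [Subgroup.closure_le]
      intro y hy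
      rcases hy with rfl | rfl | rfl
      · exact h1
      · exact h2
      · exact h3
    rw [hgen] at hle
    apply Subtype.ext
    apply MulEquiv.ext
    intro x
    exact hle (Subgroup.mem_top x)
  have hflip : ∀ (T U : ↥I) (c : P), (U : MulAut P) c = c⁻¹ →
      ((T : MulAut P) c = c ∨ (T : MulAut P) c = c⁻¹) →
      ∃ A : ↥I, (A = 1 ∨ A = U) ∧ (T : MulAut P) ((A : MulAut P) c) = c := by
    intro T U c hU hT
    rcases hT with h | h
    · exact ⟨1, Or.inl rfl, h⟩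
    · refine ⟨U, Or.inr rfl, ?_⟩
      rw [hU, map_inv, h, inv_inv]
  have hdec : ∀ T : ↥I, T = 1 ∨ T = T₁ ∨ T = T₂ ∨ T = T₃ ∨ T = T₂ * T₃ ∨ T = T₁ * T₃ ∨
      T = T₁ * T₂ ∨ T = T₁ * T₂ * T₃ := by
    intro T
    obtain ⟨hF1, hF2, hF3⟩ := hF T
    obtain ⟨A, hA, hTA⟩ := hflip T T₁ c₁ a11 hF1
    obtain ⟨B, hB, hTB⟩ := hflip T T₂ c₂ a22 hF2
    obtain ⟨C, hC, hTC⟩ := hflip T T₃ c₃ a33 hF3
    have hA2 : (A : MulAut P) c₂ = c₂ := by
      rcases hA with h | h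
      · rw [h]; rfl
      · rw [h]; exact a12
    have hA3 : (A : MulAut P) c₃ = c₃ := by
      rcases hA with h | h
      · rw [h]; rfl
      · rw [h]; exact a13
    have hB1 : (B : MulAut P) c₁ = c₁ := by
      rcases hB with h | h
      · rw [h]; rfl
      · rw [h]; exact a21
    have hB3 : (B : MulAut P) c₃ = c₃ := by
      rcases hB with h | h
      · rw [h]; rfl
      · rw [h]; exact a23
    have hC1 : (C : MulAut P) c₁ = c₁ := by
      rcases hC with h | h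
      · rw [h]; rfl
      · rw [h]; exact a31
    have hC2 : (C : MulAut P) c₂ = c₂ := by
      rcases hC with h | h
      · rw [h]; rfl
      · rw [h]; exact a32
    have hU : T * (A * B * C) = 1 := by
      apply hfix1
      · show (T : MulAut P) ((A : MulAut P) ((B : MulAut P) ((C : MulAut P) c₁))) = c₁
        rw [hC1, hB1, hTA]
      · show (T : MulAut P) ((A : MulAut P) ((B : MulAut P) ((C : MulAut P) c₂))) = c₂
        rw [hC2, hcx A B, hA2, hTB]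
      · show (T : MulAut P) ((A : MulAut P) ((B : MulAut P) ((C : MulAut P) c₃))) = c₃
        rw [hcx B C, hB3, hcx A C, hA3, hTC]
    have hT : T = A * B * C := by
      calc T = T * ((A * B * C) * (A * B * C)) := by rw [hs, mul_one]
        _ = (T * (A * B * C)) * (A * B * C) := (mul_assoc _ _ _).symm
        _ = A * B * C := by rw [hU, one_mul]
    rcases hA with h | h <;> rcases hB with h' | h' <;> rcases hC with h'' | h'' <;>
      simp [hT, h, h', h'']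
  have hz : ∀ c : P, c ≠ 1 → orderOf (c ^ (orderOf c / p)) = p := by
    intro c hc1
    apply orderOf_pow_orderOf_div (orderOf_pos c).ne'
    obtain ⟨m, hm⟩ := hP c
    obtain ⟨m', -, hm'⟩ := (Nat.dvd_prime_pow hp).mp (orderOf_dvd_of_pow_eq_one hm)
    rw [hm']
    apply dvd_pow_self
    intro h0
    rw [h0, pow_zero, orderOf_eq_one_iff] at hm'
    exact hc1 hm'
  refine ⟨T₁, T₂, T₃, ⟨T₁.2, T₂.2, T₃.2⟩,
    ⟨fun h => hT₁ (Subtype.ext h), fun h => hT₂ (Subtype.ext h), fun h => hT₃ (Subtype.ext h)⟩,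
    ⟨hb1, hb2, hb3⟩,
    ⟨fun h => hT12 (Subtype.ext h), fun h => hT13 (Subtype.ext h), fun h => hT23 (Subtype.ext h)⟩,
    ⟨⟨c₁, hc₁⟩, ⟨c₂, hc₂⟩, ⟨c₃, hc₃⟩, hnτ⟩, ?_, hPc, ⟨c₁, c₂, c₃, hgen⟩, ?_⟩
  · intro T hT
    rcases hdec ⟨T, hT⟩ with h | h | h | h | h | h | h | h
    · left
      exact congrArg Subtype.val h
    · right; left
      exact congrArg Subtype.val h
    · right; right; left
      exact congrArg Subtype.val h
    · right; right; right; left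
      exact congrArg Subtype.val h
    · right; right; right; right; left
      exact congrArg Subtype.val h
    · right; right; right; right; right; left
      exact congrArg Subtype.val h
    · right; right; right; right; right; right; left
      exact congrArg Subtype.val h
    · right; right; right; right; right; right; right
      exact congrArg Subtype.val h
  · exact not_two_gen hPc p hp hp2 (T₁ : MulAut P) (T₂ : MulAut P) (c₁ ^ (orderOf c₁ / p))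
      (c₂ ^ (orderOf c₂ / p)) (c₃ ^ (orderOf c₃ / p)) (hz c₁ hn1) (hz c₂ hn2) (hz c₃ hn3)
      (by rw [map_pow, a11, inv_pow]) (by rw [map_pow, a12]) (by rw [map_pow, a13])
      (by rw [map_pow, a22, inv_pow]) (by rw [map_pow, a23])

theorem eight_final [Finite P] (p : ℕ) (hp : p.Prime) (hp2 : p ≠ 2) (hP : IsPGroup p P)
    (I : Subgroup (MulAut P)) (hcomm : ∀ S ∈ I, ∀ T ∈ I, S * T = T * S)
    (hsq : ∀ T ∈ I, T * T = 1) (hI8 : Nat.card ↥I = 8)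
    (I₀ : Subgroup (MulAut P)) (hI₀ : I₀ ≤ I)
    (hdisj : ∀ T ∈ I₀, T ≠ 1 → Nrw T)
    (hprod : ∀ T ∈ I, ∀ T' ∈ I, T ≠ 1 → T' ≠ 1 → ¬ Nrw T → ¬ Nrw T' → T * T' ∈ I₀) :
    IsMulCommutative P ∧ (∃ a b c : P, Subgroup.closure {a, b, c} = ⊤) ∧
      (¬ ∃ a b : P, Subgroup.closure {a, b} = ⊤) ∧
      Nat.card {T : MulAut P // T ∈ I ∧ T ≠ 1 ∧ ¬ Nrw T} = 3 ∧
      Subgroup.closure {T : MulAut P | T ∈ I ∧ T ≠ 1 ∧ ¬ Nrw T} = I ∧
      (I₀ : Set (MulAut P)) = {S : MulAut P | ∃ T T' : MulAut P, T ∈ I ∧ T' ∈ I ∧ T ≠ 1 ∧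
        T' ≠ 1 ∧ ¬ Nrw T ∧ ¬ Nrw T' ∧ S = T * T'} := by
  obtain ⟨T₁, T₂, T₃, ⟨m1, m2, m3⟩, ⟨n1, n2, n3⟩, ⟨b1, b2, b3⟩, ⟨d12, d13, d23⟩,
    ⟨w1, w2, w3, wτ⟩, hdec, hPc, h3gen, h2gen⟩ :=
    eight_main p hp hp2 hP I hcomm hsq hI8 I₀ hdisj hprod
  have hset : {T : MulAut P | T ∈ I ∧ T ≠ 1 ∧ ¬ Nrw T} = {T₁, T₂, T₃} := by
    ext T
    simp only [Set.mem_setOf_eq, Set.mem_insert_iff, Set.mem_singleton_iff]
    constructor
    · rintro ⟨hT, hT1, hTn⟩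
      rcases hdec T hT with h | h | h | h | h | h | h | h
      · exact absurd h hT1
      · exact Or.inl h
      · exact Or.inr (Or.inl h)
      · exact Or.inr (Or.inr h)
      · rw [h] at hTn
        exact absurd w1 hTn
      · rw [h] at hTn
        exact absurd w2 hTn
      · rw [h] at hTn
        exact absurd w3 hTn
      · rw [h] at hTn
        exact absurd wτ hTn
    · rintro (h | h | h)
      · rw [h]
        exact ⟨m1, n1, b1⟩
      · rw [h]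
        exact ⟨m2, n2, b2⟩
      · rw [h]
        exact ⟨m3, n3, b3⟩
  refine ⟨⟨⟨hPc⟩⟩, h3gen, h2gen, ?_, ?_, ?_⟩
  · show Nat.card ↥{T : MulAut P | T ∈ I ∧ T ≠ 1 ∧ ¬ Nrw T} = 3
    rw [Nat.card_coe_set_eq, hset]
    exact Set.ncard_eq_three.mpr ⟨T₁, T₂, T₃, d12, d13, d23, rfl⟩
  · rw [hset]
    apply le_antisymm
    · rw [Subgroup.closure_le]
      intro T hT
      rcases hT with rfl | rfl | rfl
      · exact m1
      · exact m2
      · exact m3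
    · intro T hT
      have k1 : T₁ ∈ Subgroup.closure ({T₁, T₂, T₃} : Set (MulAut P)) :=
        Subgroup.subset_closure (by simp)
      have k2 : T₂ ∈ Subgroup.closure ({T₁, T₂, T₃} : Set (MulAut P)) :=
        Subgroup.subset_closure (by simp)
      have k3 : T₃ ∈ Subgroup.closure ({T₁, T₂, T₃} : Set (MulAut P)) :=
        Subgroup.subset_closure (by simp)
      rcases hdec T hT with h | h | h | h | h | h | h | h
      · rw [h]
        exact Subgroup.one_mem _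
      · rw [h]
        exact k1
      · rw [h]
        exact k2
      · rw [h]
        exact k3
      · rw [h]
        exact Subgroup.mul_mem _ k2 k3
      · rw [h]
        exact Subgroup.mul_mem _ k1 k3
      · rw [h]
        exact Subgroup.mul_mem _ k1 k2
      · rw [h]
        exact Subgroup.mul_mem _ (Subgroup.mul_mem _ k1 k2) k3
  · ext S
    simp only [SetLike.mem_coe, Set.mem_setOf_eq]
    constructor
    · intro hS
      rcases hdec S (hI₀ hS) with h | h | h | h | h | h | h | h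
      · exact ⟨T₁, T₁, m1, m1, n1, n1, b1, b1, by rw [h, hsq T₁ m1]⟩
      · rw [h] at hS
        exact absurd (hdisj T₁ hS n1) b1
      · rw [h] at hS
        exact absurd (hdisj T₂ hS n2) b2
      · rw [h] at hS
        exact absurd (hdisj T₃ hS n3) b3
      · exact ⟨T₂, T₃, m2, m3, n2, n3, b2, b3, h⟩
      · exact ⟨T₁, T₃, m1, m3, n1, n3, b1, b3, h⟩
      · exact ⟨T₁, T₂, m1, m2, n1, n2, b1, b2, h⟩
      · rw [h] at hS
        have h12 : T₁ * T₂ ∈ I₀ := hprod T₁ m1 T₂ m2 n1 n2 b1 b2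
        have h3 : T₃ ∈ I₀ := by
          have h4 := I₀.mul_mem (I₀.inv_mem h12) hS
          rw [inv_mul_cancel_left] at h4
          exact h4
        exact absurd (hdisj T₃ h3 n3) b3
    · rintro ⟨T, T', hT, hT', hT1, hT'1, hTn, hT'n, rfl⟩
      exact hprod T hT T' hT' hT1 hT'1 hTn hT'n

end EightStruct

end Cfsg.Agent.Lib.helper76
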