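import Mathlib
import Cfsg.Prelude.Def_Classical
import Cfsg.Prelude.Def_GeometricClasses

/-!
# S5977 / S5978 block [B], piece EICHP: an Eichler transformation of order `p` in `O⁺_{2d}(F)`
whose `(X - 1)^2`-kernel has odd dimension
-/

set_option autoImplicit false

namespace Cfsg.Agent.Lib.helper96.FE

open Polynomial Matrix

theorem helper76_vmv {F : Type*} [Field F] {n : Type*} [Fintype n] (a b v : n → F) :
    vecMulVec a b *ᵥ v = (b ⬝ᵥ v) • a := by
  ext i
  simp only [Matrix.mulVec, dotProduct, Matrix.vecMulVec_apply, Pi.smul_apply, smul_eq_mul,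
    Finset.sum_mul]
  exact Finset.sum_congr rfl (fun j _ => by ring)

theorem helper76_vv {F : Type*} [Field F] {n : Type*} [Fintype n] (a b a' b' : n → F) :
    vecMulVec a b * vecMulVec a' b' = (b ⬝ᵥ a') • vecMulVec a b' := by
  ext i j
  simp only [Matrix.mul_apply, Matrix.vecMulVec_apply, dotProduct, Matrix.smul_apply, smul_eq_mul,
    Finset.sum_mul]
  exact Finset.sum_congr rfl (fun k _ => by ring)

/-- the nilpotent part `N = w cᵀ - u (w + c)ᵀ` of an Eichler transformation: `N² = -2 u cᵀ`, `N³ = 0` -/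
theorem helper76_eich_alg {F : Type*} [Field F] {n : Type*} [Fintype n] [DecidableEq n]
    (u w c : n → F) (h1 : c ⬝ᵥ w = 0) (h2 : c ⬝ᵥ u = 0) (h3 : w ⬝ᵥ w = 2) (h4 : w ⬝ᵥ u = 0) :
    (vecMulVec w c - vecMulVec u (w + c)) * (vecMulVec w c - vecMulVec u (w + c)) =
        (-2 : F) • vecMulVec u c ∧
      (vecMulVec w c - vecMulVec u (w + c)) * (vecMulVec w c - vecMulVec u (w + c)) *
        (vecMulVec w c - vecMulVec u (w + c)) = 0 := by
  have e1 : (w + c) ⬝ᵥ w = 2 := by rw [add_dotProduct, h3, h1, add_zero]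
  have e2 : (w + c) ⬝ᵥ u = 0 := by rw [add_dotProduct, h4, h2, add_zero]
  have hsq : (vecMulVec w c - vecMulVec u (w + c)) * (vecMulVec w c - vecMulVec u (w + c)) =
      (-2 : F) • vecMulVec u c := by
    simp only [sub_mul, mul_sub, helper76_vv, h1, h2, e1, e2, zero_smul, sub_zero, zero_sub,
      neg_smul]
  refine ⟨hsq, ?_⟩
  rw [hsq]
  simp only [Matrix.smul_mul, mul_sub, helper76_vv, h1, h2, zero_smul, sub_zero, smul_zero]

/-- EICHP (M/L): `r = p`, plus type. -/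
theorem fe_eichler_plus {F : Type*} [Field F] (p : ℕ) [Fact p.Prime] [CharP F p] (hp2 : p ≠ 2)
    (d : ℕ) (hd : 2 ≤ d) :
    ∃ x : GL (Fin d ⊕ Fin d) F, x ∈ Cfsg.isometryGroup F (Cfsg.quadFormPlus d F) ∧ x ^ p = 1 ∧
      ∃ f : F[X], Odd (Module.finrank F (LinearMap.ker
        (aeval (Matrix.toLin' (x : Matrix (Fin d ⊕ Fin d) (Fin d ⊕ Fin d) F)) f))) := by
  classical
  have hp : p.Prime := Fact.out
  have hp3 : 3 ≤ p := by
    have := hp.two_le
    omega
  have h2F : (2 : F) ≠ 0 := by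
    intro h
    have h' : ((2 : ℕ) : F) = 0 := by exact_mod_cast h
    have h'' := (CharP.cast_eq_zero_iff F p 2).1 h'
    have := Nat.le_of_dvd (by norm_num) h''
    omega
  have : Nonempty (Fin d ⊕ Fin d) := ⟨Sum.inl ⟨0, by omega⟩⟩
  obtain ⟨i0, hi0⟩ : ∃ i0 : Fin d, i0 = ⟨0, by omega⟩ := ⟨_, rfl⟩
  obtain ⟨i1, hi1⟩ : ∃ i1 : Fin d, i1 = ⟨1, by omega⟩ := ⟨_, rfl⟩
  have h01 : i0 ≠ i1 := by
    rw [hi0, hi1]
    simp [Fin.ext_iff]
  have h10 : i1 ≠ i0 := h01.symm
  obtain ⟨u, hu⟩ : ∃ u : Fin d ⊕ Fin d → F, u = Pi.single (Sum.inl i0) 1 := ⟨_, rfl⟩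
  obtain ⟨w, hw⟩ : ∃ w : Fin d ⊕ Fin d → F,
      w = Pi.single (Sum.inl i1) 1 + Pi.single (Sum.inr i1) 1 := ⟨_, rfl⟩
  obtain ⟨c, hc⟩ : ∃ c : Fin d ⊕ Fin d → F, c = Pi.single (Sum.inr i0) 1 := ⟨_, rfl⟩
  have h1 : c ⬝ᵥ w = 0 := by
    rw [hc, hw]
    simp [h01]
  have h2 : c ⬝ᵥ u = 0 := by
    rw [hc, hu]
    simp
  have h3 : w ⬝ᵥ w = 2 := by
    rw [hw]
    simp
    norm_num
  have h4 : w ⬝ᵥ u = 0 := by
    rw [hw, hu]
    simp [h10]
  obtain ⟨N, hN⟩ : ∃ N : Matrix (Fin d ⊕ Fin d) (Fin d ⊕ Fin d) F,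
      N = vecMulVec w c - vecMulVec u (w + c) := ⟨_, rfl⟩
  obtain ⟨hN2, hN3⟩ := helper76_eich_alg u w c h1 h2 h3 h4
  rw [← hN] at hN2 hN3
  -- `E ^ p = 1`
  have hNp : N ^ p = 0 := by
    have h : N ^ p = N ^ 3 * N ^ (p - 3) := by
      rw [← pow_add]
      congr 1
      omega
    rw [h, pow_succ, pow_two, hN3, zero_mul]
  have hEp : (1 + N) ^ p = 1 := by
    rw [add_pow_char_of_commute p (Commute.one_left N), one_pow, hNp, add_zero]
  have hEE : (1 + N) * (1 + N) ^ (p - 1) = 1 := by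
    rw [← pow_succ', show p - 1 + 1 = p by omega, hEp]
  have hEE' : (1 + N) ^ (p - 1) * (1 + N) = 1 := by
    rw [← pow_succ, show p - 1 + 1 = p by omega, hEp]
  -- the action of `E`
  have hα : ∀ v : Fin d ⊕ Fin d → F, c ⬝ᵥ v = v (Sum.inr i0) := by
    intro v
    rw [hc]
    simp [single_dotProduct]
  have hβ : ∀ v : Fin d ⊕ Fin d → F,
      (w + c) ⬝ᵥ v = v (Sum.inl i1) + v (Sum.inr i1) + v (Sum.inr i0) := by
    intro v
    rw [hc, hw]
    simp [add_dotProduct, single_dotProduct]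
  have hEv : ∀ v : Fin d ⊕ Fin d → F, (1 + N) *ᵥ v =
      v + ((c ⬝ᵥ v) • w - ((w + c) ⬝ᵥ v) • u) := by
    intro v
    rw [Matrix.add_mulVec, Matrix.one_mulVec, hN, Matrix.sub_mulVec, helper76_vmv, helper76_vmv]
  have hQ : ∀ v : Fin d ⊕ Fin d → F,
      Cfsg.quadFormPlus d F ((1 + N) *ᵥ v) = Cfsg.quadFormPlus d F v := by
    intro v
    obtain ⟨α, hαd⟩ : ∃ α : F, α = c ⬝ᵥ v := ⟨_, rfl⟩
    obtain ⟨β, hβd⟩ : ∃ β : F, β = (w + c) ⬝ᵥ v := ⟨_, rfl⟩
    have hl : ∀ i : Fin d, ((1 + N) *ᵥ v) (Sum.inl i) =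
        v (Sum.inl i) + (α * (if i = i1 then 1 else 0) - β * (if i = i0 then 1 else 0)) := by
      intro i
      rw [hEv v, ← hαd, ← hβd, hw, hu]
      simp [Pi.single_apply]
    have hr : ∀ i : Fin d, ((1 + N) *ᵥ v) (Sum.inr i) =
        v (Sum.inr i) + α * (if i = i1 then 1 else 0) := by
      intro i
      rw [hEv v, ← hαd, ← hβd, hw, hu]
      simp [Pi.single_apply]
    have hterm : ∀ i : Fin d, ((1 + N) *ᵥ v) (Sum.inl i) * ((1 + N) *ᵥ v) (Sum.inr i) =
        v (Sum.inl i) * v (Sum.inr i) +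
          (if i = i1 then α * v (Sum.inl i) + α * v (Sum.inr i) + α ^ 2 else 0) -
          (if i = i0 then β * v (Sum.inr i) else 0) := by
      intro i
      rw [hl i, hr i]
      by_cases ha : i = i1
      · have hb : i ≠ i0 := by rw [ha]; exact h10
        simp only [if_pos ha, if_neg hb]
        ring
      · by_cases hb : i = i0
        · simp only [if_neg ha, if_pos hb]
          ring
        · simp only [if_neg ha, if_neg hb]
          ring
    unfold Cfsg.quadFormPlus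
    rw [Finset.sum_congr rfl (fun i _ => hterm i), Finset.sum_sub_distrib, Finset.sum_add_distrib,
      Finset.sum_ite_eq', Finset.sum_ite_eq']
    simp only [Finset.mem_univ, if_true]
    rw [hβd, hαd, hβ v, hα v]
    ring
  refine ⟨⟨1 + N, (1 + N) ^ (p - 1), hEE, hEE'⟩, ?_, ?_, (X - 1) ^ 2, ?_⟩
  · intro a _
    exact hQ a
  · apply Units.ext
    rw [Units.val_pow_eq_pow_val]
    exact hEp
  · change Odd (Module.finrank F (LinearMap.ker
      (aeval (Matrix.toLin' (1 + N)) ((X - 1) ^ 2 : F[X]))))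
    have haev : aeval (Matrix.toLin' (1 + N)) ((X - 1) ^ 2 : F[X]) = Matrix.toLin' (N * N) := by
      rw [map_pow, map_sub, aeval_X, map_one, map_add, Matrix.toLin'_one, Matrix.toLin'_mul,
        pow_two]
      have h : (LinearMap.id + Matrix.toLin' N - 1 : Module.End F (Fin d ⊕ Fin d → F)) =
          Matrix.toLin' N := by
        rw [← Module.End.one_eq_id]
        abel
      rw [h]
      rfl
    have hker : LinearMap.ker (aeval (Matrix.toLin' (1 + N)) ((X - 1) ^ 2 : F[X])) =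
        LinearMap.ker (LinearMap.proj (R := F) (φ := fun _ : Fin d ⊕ Fin d => F) (Sum.inr i0)) := by
      ext v
      rw [LinearMap.mem_ker, LinearMap.mem_ker, haev, Matrix.toLin'_apply, hN2, Matrix.smul_mulVec,
        helper76_vmv, hα v, LinearMap.proj_apply]
      constructor
      · intro h
        have h5 := congrFun h (Sum.inl i0)
        rw [hu] at h5
        simp only [Pi.smul_apply, Pi.single_eq_same, smul_eq_mul, mul_one, Pi.zero_apply] at h5
        rcases mul_eq_zero.1 h5 with h6 | h6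
        · exact absurd (neg_eq_zero.1 h6) h2F
        · exact h6
      · intro h
        rw [h, zero_smul, smul_zero]
    rw [hker]
    have hsurj : LinearMap.range
        (LinearMap.proj (R := F) (φ := fun _ : Fin d ⊕ Fin d => F) (Sum.inr i0)) = ⊤ := by
      rw [LinearMap.range_eq_top]
      intro a
      exact ⟨Pi.single (Sum.inr i0) a, by simp⟩
    have hrn := LinearMap.finrank_range_add_finrank_ker
      (LinearMap.proj (R := F) (φ := fun _ : Fin d ⊕ Fin d => F) (Sum.inr i0))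
    rw [hsurj, finrank_top, Module.finrank_self, Module.finrank_fintype_fun_eq_card,
      Fintype.card_sum, Fintype.card_fin] at hrn
    exact ⟨d - 1, by omega⟩

end Cfsg.Agent.Lib.helper96.FE
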