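import Mathlib
import Cfsg.Prelude.Def_Classical
import Cfsg.Prelude.Def_GeometricClasses
import Cfsg.Agent.Lib.helper76.FeEICHP

/-!
# S5977 / S5978 block [B], piece EICHM (racing copy): an Eichler transformation of order `p` in the
isometry group of the minus-type form whose `(X - 1)^2`-kernel has odd dimension
-/

set_option autoImplicit false

namespace Cfsg.Agent.Lib.helper96.FE

open Polynomial Matrix

/-- EICHM (M/L): `r = p`, minus type. -/
theorem helper76_fe_eichler_minus {F : Type*} [Field F] (p : ℕ) [Fact p.Prime] [CharP F p] (hp2 : p ≠ 2)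
    (m : ℕ) (hm : 2 ≤ m) (a b : F) :
    ∃ x : GL ((Fin m ⊕ Fin m) ⊕ Fin 2) F,
      x ∈ Cfsg.isometryGroup F (Cfsg.quadFormMinus m F a b) ∧ x ^ p = 1 ∧
      ∃ f : F[X], Odd (Module.finrank F (LinearMap.ker
        (aeval (Matrix.toLin' (x : Matrix ((Fin m ⊕ Fin m) ⊕ Fin 2) ((Fin m ⊕ Fin m) ⊕ Fin 2) F)) f))) := by
  classical
  have hp : p.Prime := Fact.out
  have hp3 : 3 ≤ p := by
    have := hp.two_le
    omega
  have h2F : (2 : F) ≠ 0 := by
    intro h
    have h' : ((2 : ℕ) : F) = 0 := by exact_mod_cast h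
    have h'' := (CharP.cast_eq_zero_iff F p 2).1 h'
    have := Nat.le_of_dvd (by norm_num) h''
    omega
  have : Nonempty ((Fin m ⊕ Fin m) ⊕ Fin 2) := ⟨Sum.inl (Sum.inl ⟨0, by omega⟩)⟩
  obtain ⟨i0, hi0⟩ : ∃ i0 : Fin m, i0 = ⟨0, by omega⟩ := ⟨_, rfl⟩
  obtain ⟨i1, hi1⟩ : ∃ i1 : Fin m, i1 = ⟨1, by omega⟩ := ⟨_, rfl⟩
  have h01 : i0 ≠ i1 := by
    rw [hi0, hi1]
    simp [Fin.ext_iff]
  have h10 : i1 ≠ i0 := h01.symm
  obtain ⟨u, hu⟩ : ∃ u : (Fin m ⊕ Fin m) ⊕ Fin 2 → F, u = Pi.single (Sum.inl (Sum.inl i0)) 1 := ⟨_, rfl⟩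
  obtain ⟨w, hw⟩ : ∃ w : (Fin m ⊕ Fin m) ⊕ Fin 2 → F,
      w = Pi.single (Sum.inl (Sum.inl i1)) 1 + Pi.single (Sum.inl (Sum.inr i1)) 1 := ⟨_, rfl⟩
  obtain ⟨c, hc⟩ : ∃ c : (Fin m ⊕ Fin m) ⊕ Fin 2 → F, c = Pi.single (Sum.inl (Sum.inr i0)) 1 := ⟨_, rfl⟩
  have h1 : c ⬝ᵥ w = 0 := by
    rw [hc, hw]
    simp [h01]
  have h2 : c ⬝ᵥ u = 0 := by
    rw [hc, hu]
    simp
  have h3 : w ⬝ᵥ w = 2 := by
    rw [hw]
    simp
    norm_num
  have h4 : w ⬝ᵥ u = 0 := by
    rw [hw, hu]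
    simp [h10]
  obtain ⟨N, hN⟩ : ∃ N : Matrix ((Fin m ⊕ Fin m) ⊕ Fin 2) ((Fin m ⊕ Fin m) ⊕ Fin 2) F,
      N = vecMulVec w c - vecMulVec u (w + c) := ⟨_, rfl⟩
  obtain ⟨hN2, hN3⟩ := helper76_eich_alg u w c h1 h2 h3 h4
  rw [← hN] at hN2 hN3
  -- `E ^ p = 1`
  have hNp : N ^ p = 0 := by
    have h : N ^ p = N ^ 3 * N ^ (p - 3) := by
      rw [← pow_add]
      congr 1
      omega
    rw [h, pow_succ, pow_two, hN3, zero_mul]
  have hEp : (1 + N) ^ p = 1 := by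
    rw [add_pow_char_of_commute p (Commute.one_left N), one_pow, hNp, add_zero]
  have hEE : (1 + N) * (1 + N) ^ (p - 1) = 1 := by
    rw [← pow_succ', show p - 1 + 1 = p by omega, hEp]
  have hEE' : (1 + N) ^ (p - 1) * (1 + N) = 1 := by
    rw [← pow_succ, show p - 1 + 1 = p by omega, hEp]
  -- the action of `E`
  have hα : ∀ v : (Fin m ⊕ Fin m) ⊕ Fin 2 → F, c ⬝ᵥ v = v (Sum.inl (Sum.inr i0)) := by
    intro v
    rw [hc]
    simp [single_dotProduct]
  have hβ : ∀ v : (Fin m ⊕ Fin m) ⊕ Fin 2 → F,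
      (w + c) ⬝ᵥ v = v (Sum.inl (Sum.inl i1)) + v (Sum.inl (Sum.inr i1)) + v (Sum.inl (Sum.inr i0)) := by
    intro v
    rw [hc, hw]
    simp [add_dotProduct, single_dotProduct]
  have hEv : ∀ v : (Fin m ⊕ Fin m) ⊕ Fin 2 → F, (1 + N) *ᵥ v =
      v + ((c ⬝ᵥ v) • w - ((w + c) ⬝ᵥ v) • u) := by
    intro v
    rw [Matrix.add_mulVec, Matrix.one_mulVec, hN, Matrix.sub_mulVec, helper76_vmv, helper76_vmv]
  have hQ : ∀ v : (Fin m ⊕ Fin m) ⊕ Fin 2 → F,
      Cfsg.quadFormMinus m F a b ((1 + N) *ᵥ v) = Cfsg.quadFormMinus m F a b v := by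
    intro v
    obtain ⟨α, hαd⟩ : ∃ α : F, α = c ⬝ᵥ v := ⟨_, rfl⟩
    obtain ⟨β, hβd⟩ : ∃ β : F, β = (w + c) ⬝ᵥ v := ⟨_, rfl⟩
    have hl : ∀ i : Fin m, ((1 + N) *ᵥ v) (Sum.inl (Sum.inl i)) =
        v (Sum.inl (Sum.inl i)) + (α * (if i = i1 then 1 else 0) - β * (if i = i0 then 1 else 0)) := by
      intro i
      rw [hEv v, ← hαd, ← hβd, hw, hu]
      simp [Pi.single_apply]
    have hr : ∀ i : Fin m, ((1 + N) *ᵥ v) (Sum.inl (Sum.inr i)) =
        v (Sum.inl (Sum.inr i)) + α * (if i = i1 then 1 else 0) := by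
      intro i
      rw [hEv v, ← hαd, ← hβd, hw, hu]
      simp [Pi.single_apply]
    have hterm : ∀ i : Fin m, ((1 + N) *ᵥ v) (Sum.inl (Sum.inl i)) * ((1 + N) *ᵥ v) (Sum.inl (Sum.inr i)) =
        v (Sum.inl (Sum.inl i)) * v (Sum.inl (Sum.inr i)) +
          (if i = i1 then α * v (Sum.inl (Sum.inl i)) + α * v (Sum.inl (Sum.inr i)) + α ^ 2 else 0) -
          (if i = i0 then β * v (Sum.inl (Sum.inr i)) else 0) := by
      intro i
      rw [hl i, hr i]
      by_cases ha : i = i1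
      · have hb : i ≠ i0 := by rw [ha]; exact h10
        simp only [if_pos ha, if_neg hb]
        ring
      · by_cases hb : i = i0
        · simp only [if_neg ha, if_pos hb]
          ring
        · simp only [if_neg ha, if_neg hb]
          ring
    have hz : ∀ k : Fin 2, ((1 + N) *ᵥ v) (Sum.inr k) = v (Sum.inr k) := by
      intro k
      rw [hEv v, hw, hu]
      simp
    unfold Cfsg.quadFormMinus
    rw [hz 0, hz 1, Finset.sum_congr rfl (fun i _ => hterm i), Finset.sum_sub_distrib,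
      Finset.sum_add_distrib, Finset.sum_ite_eq', Finset.sum_ite_eq']
    simp only [Finset.mem_univ, if_true]
    rw [hβd, hαd, hβ v, hα v]
    ring
  refine ⟨⟨1 + N, (1 + N) ^ (p - 1), hEE, hEE'⟩, ?_, ?_, (X - 1) ^ 2, ?_⟩
  · intro a _
    exact hQ a
  · apply Units.ext
    rw [Units.val_pow_eq_pow_val]
    exact hEp
  · change Odd (Module.finrank F (LinearMap.ker
      (aeval (Matrix.toLin' (1 + N)) ((X - 1) ^ 2 : F[X]))))
    have haev : aeval (Matrix.toLin' (1 + N)) ((X - 1) ^ 2 : F[X]) = Matrix.toLin' (N * N) := by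
      rw [map_pow, map_sub, aeval_X, map_one, map_add, Matrix.toLin'_one, Matrix.toLin'_mul,
        pow_two]
      have h : (LinearMap.id + Matrix.toLin' N - 1 : Module.End F ((Fin m ⊕ Fin m) ⊕ Fin 2 → F)) =
          Matrix.toLin' N := by
        rw [← Module.End.one_eq_id]
        abel
      rw [h]
      rfl
    have hker : LinearMap.ker (aeval (Matrix.toLin' (1 + N)) ((X - 1) ^ 2 : F[X])) =
        LinearMap.ker (LinearMap.proj (R := F) (φ := fun _ : (Fin m ⊕ Fin m) ⊕ Fin 2 => F) (Sum.inl (Sum.inr i0))) := by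
      ext v
      rw [LinearMap.mem_ker, LinearMap.mem_ker, haev, Matrix.toLin'_apply, hN2, Matrix.smul_mulVec,
        helper76_vmv, hα v, LinearMap.proj_apply]
      constructor
      · intro h
        have h5 := congrFun h (Sum.inl (Sum.inl i0))
        rw [hu] at h5
        simp only [Pi.smul_apply, Pi.single_eq_same, smul_eq_mul, mul_one, Pi.zero_apply] at h5
        rcases mul_eq_zero.1 h5 with h6 | h6
        · exact absurd (neg_eq_zero.1 h6) h2F
        · exact h6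
      · intro h
        rw [h, zero_smul, smul_zero]
    rw [hker]
    have hsurj : LinearMap.range
        (LinearMap.proj (R := F) (φ := fun _ : (Fin m ⊕ Fin m) ⊕ Fin 2 => F) (Sum.inl (Sum.inr i0))) = ⊤ := by
      rw [LinearMap.range_eq_top]
      intro a
      exact ⟨Pi.single (Sum.inl (Sum.inr i0)) a, by simp⟩
    have hrn := LinearMap.finrank_range_add_finrank_ker
      (LinearMap.proj (R := F) (φ := fun _ : (Fin m ⊕ Fin m) ⊕ Fin 2 => F) (Sum.inl (Sum.inr i0)))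
    rw [hsurj, finrank_top, Module.finrank_self, Module.finrank_fintype_fun_eq_card,
      Fintype.card_sum, Fintype.card_sum, Fintype.card_fin, Fintype.card_fin] at hrn
    exact ⟨m, by omega⟩

end Cfsg.Agent.Lib.helper96.FE
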