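import Cfsg.Agent.Lib.helper76.SemiCount

set_option autoImplicit false

namespace Cfsg.Agent.Lib.helper76

/-- The cyclic group of order seven. -/
abbrev Z7 : Type := Multiplicative (ZMod 7)

/-- The cyclic group of order three. -/
abbrev Z3 : Type := Multiplicative (ZMod 3)

/-- Squaring on `Z7`. -/
def autSq7 : MulAut Z7 :=
  mkAut (fun a => 2 * a) (fun a => 4 * a) (by decide) (by decide) (by decide)

theorem autSq7_pow : autSq7 ^ 3 = 1 := by
  apply MulEquiv.ext
  decide +kernel

/-- The Frobenius group of order `21`. -/
abbrev F21 : Type := Z7 ⋊[cycHom 3 autSq7 autSq7_pow] Z3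

instance F21.instFintype : Fintype F21 :=
  Fintype.ofEquiv (Z7 × Z3) SemidirectProduct.equivProd.symm

theorem F21_pow (q : F21) : q ^ 84 = 1 := by
  revert q
  decide +kernel

/-- The additive group of the field with eight elements. -/
abbrev M8 : Type := Multiplicative (ZMod 2 × ZMod 2 × ZMod 2)

/-- Multiplication by a generator of the multiplicative group of the field with eight elements. -/
def autX8 : MulAut M8 :=
  mkAut (fun p => (p.2.2, p.1 + p.2.2, p.2.1)) (fun p => (p.1 + p.2.1, p.2.2, p.1))
    (by decide) (by decide) (by decide)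

/-- The Frobenius automorphism of the field with eight elements. -/
def autY8 : MulAut M8 :=
  mkAut (fun p => (p.1, p.2.2, p.2.1 + p.2.2)) (fun p => (p.1, p.2.1 + p.2.2, p.2.1))
    (by decide) (by decide) (by decide)

theorem autX8_pow : autX8 ^ 7 = 1 := by
  apply MulEquiv.ext
  decide +kernel

theorem autY8_pow : autY8 ^ 3 = 1 := by
  apply MulEquiv.ext
  decide +kernel

theorem aglCompat : ∀ (g : Z3) (n : Z7) (v : M8),
    (cycHom 7 autX8 autX8_pow ((cycHom 3 autSq7 autSq7_pow g) n)) v =
      (cycHom 3 autY8 autY8_pow g * cycHom 7 autX8 autX8_pow n * (cycHom 3 autY8 autY8_pow g)⁻¹) v := by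
  decide +kernel

/-- The action of `F21` on the field with eight elements. -/
def aglHom : F21 →* MulAut M8 :=
  SemidirectProduct.lift (cycHom 7 autX8 autX8_pow) (cycHom 3 autY8 autY8_pow)
    (fun g => MonoidHom.ext fun n => MulEquiv.ext fun v => aglCompat g n v)

/-- The module of `F21` giving the affine semilinear group of the field with eight elements. -/
def modAGL : ModData F21 where
  N := M8
  φ := aglHom
  T := fun q d =>
    if q.right = 1 then (if q.left = 1 then (if d % 2 = 0 then 8 else 1) else 8)
    else (if (d / 3) % 2 = 0 then 8 else 4)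
  hT := by decide +kernel
  hexp := by decide +kernel

/-- The affine semilinear group of the field with eight elements, of order `168`. -/
def pieceAGL : Piece := modAGL.piece F21_pow

theorem pieceAGL_isSolvable : Group.IsSolvable pieceAGL.X :=
  ModData.piece_isSolvable F21_pow modAGL

end Cfsg.Agent.Lib.helper76
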