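import Cfsg.Agent.Lib.helper76.SemiCount

set_option autoImplicit false

namespace Cfsg.Agent.Lib.helper76

/-- The cyclic group of order six. -/
abbrev Z6 : Type := Multiplicative (ZMod 6)

theorem Z6_pow (q : Z6) : q ^ 84 = 1 := by
  revert q
  decide +kernel

/-- Lookup in a table indexed by the element of `Z6` and by the position of `d` among the divisors
of `84`. -/
def tblLookup (rows : List (List ℕ)) (q : Z6) (d : ℕ) : ℕ :=
  (rows.getD (Multiplicative.toAdd q).val []).getD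
    ([1, 2, 3, 4, 6, 7, 12, 14, 21, 28, 42, 84].idxOf d) 0

/-- The automorphism defining the module `3m`. -/
def aut3m : MulAut (Multiplicative (ZMod 3)) :=
  mkAut (fun a => -a) (fun a => -a) (by decide) (by decide) (by decide)

theorem aut3m_pow : aut3m ^ 6 = 1 := by
  apply MulEquiv.ext
  decide +kernel

/-- The `Z6`-module `3m`. -/
def mod3m : ModData Z6 where
  N := Multiplicative (ZMod 3)
  φ := cycHom 6 aut3m aut3m_pow
  T := tblLookup [[1, 1, 3, 1, 3, 1, 3, 1, 3, 1, 3, 3], [1, 3, 1, 3, 3, 1, 3, 3, 1, 3, 3, 3], [1, 1, 3, 1, 3, 1, 3, 1, 3, 1, 3, 3], [1, 3, 1, 3, 3, 1, 3, 3, 1, 3, 3, 3], [1, 1, 3, 1, 3, 1, 3, 1, 3, 1, 3, 3], [1, 3, 1, 3, 3, 1, 3, 3, 1, 3, 3, 3]]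
  hT := by decide +kernel
  hexp := by decide +kernel

/-- The automorphism defining the module `7m`. -/
def aut7m : MulAut (Multiplicative (ZMod 7)) :=
  mkAut (fun a => -a) (fun a => -a) (by decide) (by decide) (by decide)

theorem aut7m_pow : aut7m ^ 6 = 1 := by
  apply MulEquiv.ext
  decide +kernel

/-- The `Z6`-module `7m`. -/
def mod7m : ModData Z6 where
  N := Multiplicative (ZMod 7)
  φ := cycHom 6 aut7m aut7m_pow
  T := tblLookup [[1, 1, 1, 1, 1, 7, 1, 7, 7, 7, 7, 7], [1, 7, 1, 7, 7, 1, 7, 7, 1, 7, 7, 7], [1, 1, 1, 1, 1, 7, 1, 7, 7, 7, 7, 7], [1, 7, 1, 7, 7, 1, 7, 7, 1, 7, 7, 7], [1, 1, 1, 1, 1, 7, 1, 7, 7, 7, 7, 7], [1, 7, 1, 7, 7, 1, 7, 7, 1, 7, 7, 7]]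
  hT := by decide +kernel
  hexp := by decide +kernel

/-- The automorphism defining the module `7w`. -/
def aut7w : MulAut (Multiplicative (ZMod 7)) :=
  mkAut (fun a => 2 * a) (fun a => 4 * a) (by decide) (by decide) (by decide)

theorem aut7w_pow : aut7w ^ 6 = 1 := by
  apply MulEquiv.ext
  decide +kernel

/-- The `Z6`-module `7w`. -/
def mod7w : ModData Z6 where
  N := Multiplicative (ZMod 7)
  φ := cycHom 6 aut7w aut7w_pow
  T := tblLookup [[1, 1, 1, 1, 1, 7, 1, 7, 7, 7, 7, 7], [1, 1, 7, 1, 7, 1, 7, 1, 7, 1, 7, 7], [1, 1, 7, 1, 7, 1, 7, 1, 7, 1, 7, 7], [1, 1, 1, 1, 1, 7, 1, 7, 7, 7, 7, 7], [1, 1, 7, 1, 7, 1, 7, 1, 7, 1, 7, 7], [1, 1, 7, 1, 7, 1, 7, 1, 7, 1, 7, 7]]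
  hT := by decide +kernel
  hexp := by decide +kernel

/-- The automorphism defining the module `7z`. -/
def aut7z : MulAut (Multiplicative (ZMod 7)) :=
  mkAut (fun a => 3 * a) (fun a => 5 * a) (by decide) (by decide) (by decide)

theorem aut7z_pow : aut7z ^ 6 = 1 := by
  apply MulEquiv.ext
  decide +kernel

/-- The `Z6`-module `7z`. -/
def mod7z : ModData Z6 where
  N := Multiplicative (ZMod 7)
  φ := cycHom 6 aut7z aut7z_pow
  T := tblLookup [[1, 1, 1, 1, 1, 7, 1, 7, 7, 7, 7, 7], [1, 1, 1, 1, 7, 1, 7, 1, 1, 1, 7, 7], [1, 1, 7, 1, 7, 1, 7, 1, 7, 1, 7, 7], [1, 7, 1, 7, 7, 1, 7, 7, 1, 7, 7, 7], [1, 1, 7, 1, 7, 1, 7, 1, 7, 1, 7, 7], [1, 1, 1, 1, 7, 1, 7, 1, 1, 1, 7, 7]]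
  hT := by decide +kernel
  hexp := by decide +kernel

/-- The automorphism defining the module `4m`. -/
def aut4m : MulAut (Multiplicative (ZMod 4)) :=
  mkAut (fun a => -a) (fun a => -a) (by decide) (by decide) (by decide)

theorem aut4m_pow : aut4m ^ 6 = 1 := by
  apply MulEquiv.ext
  decide +kernel

/-- The `Z6`-module `4m`. -/
def mod4m : ModData Z6 where
  N := Multiplicative (ZMod 4)
  φ := cycHom 6 aut4m aut4m_pow
  T := tblLookup [[1, 2, 1, 4, 2, 1, 4, 2, 1, 4, 2, 4], [1, 4, 1, 4, 4, 1, 4, 4, 1, 4, 4, 4], [1, 2, 1, 4, 2, 1, 4, 2, 1, 4, 2, 4], [1, 4, 1, 4, 4, 1, 4, 4, 1, 4, 4, 4], [1, 2, 1, 4, 2, 1, 4, 2, 1, 4, 2, 4], [1, 4, 1, 4, 4, 1, 4, 4, 1, 4, 4, 4]]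
  hT := by decide +kernel
  hexp := by decide +kernel

/-- The automorphism defining the module `2J`. -/
def aut2J : MulAut (Multiplicative (ZMod 2 × ZMod 2)) :=
  mkAut (fun p => (p.1 + p.2, p.2)) (fun p => (p.1 + p.2, p.2)) (by decide) (by decide) (by decide)

theorem aut2J_pow : aut2J ^ 6 = 1 := by
  apply MulEquiv.ext
  decide +kernel

/-- The `Z6`-module `2J`. -/
def mod2J : ModData Z6 where
  N := Multiplicative (ZMod 2 × ZMod 2)
  φ := cycHom 6 aut2J aut2J_pow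
  T := tblLookup [[1, 4, 1, 4, 4, 1, 4, 4, 1, 4, 4, 4], [1, 2, 1, 4, 2, 1, 4, 2, 1, 4, 2, 4], [1, 4, 1, 4, 4, 1, 4, 4, 1, 4, 4, 4], [1, 2, 1, 4, 2, 1, 4, 2, 1, 4, 2, 4], [1, 4, 1, 4, 4, 1, 4, 4, 1, 4, 4, 4], [1, 2, 1, 4, 2, 1, 4, 2, 1, 4, 2, 4]]
  hT := by decide +kernel
  hexp := by decide +kernel

/-- The automorphism defining the module `2w`. -/
def aut2w : MulAut (Multiplicative (ZMod 2 × ZMod 2)) :=
  mkAut (fun p => (p.2, p.1 + p.2)) (fun p => (p.1 + p.2, p.1)) (by decide) (by decide) (by decide)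

theorem aut2w_pow : aut2w ^ 6 = 1 := by
  apply MulEquiv.ext
  decide +kernel

/-- The `Z6`-module `2w`. -/
def mod2w : ModData Z6 where
  N := Multiplicative (ZMod 2 × ZMod 2)
  φ := cycHom 6 aut2w aut2w_pow
  T := tblLookup [[1, 4, 1, 4, 4, 1, 4, 4, 1, 4, 4, 4], [1, 1, 4, 1, 4, 1, 4, 1, 4, 1, 4, 4], [1, 1, 4, 1, 4, 1, 4, 1, 4, 1, 4, 4], [1, 4, 1, 4, 4, 1, 4, 4, 1, 4, 4, 4], [1, 1, 4, 1, 4, 1, 4, 1, 4, 1, 4, 4], [1, 1, 4, 1, 4, 1, 4, 1, 4, 1, 4, 4]]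
  hT := by decide +kernel
  hexp := by decide +kernel

/-- The automorphism defining the module `4w`. -/
def aut4w : MulAut (Multiplicative (ZMod 4 × ZMod 4)) :=
  mkAut (fun p => (-p.2, p.1 - p.2)) (fun p => (p.2 - p.1, -p.1)) (by decide) (by decide) (by decide)

theorem aut4w_pow : aut4w ^ 6 = 1 := by
  apply MulEquiv.ext
  decide +kernel

/-- The `Z6`-module `4w`. -/
def mod4w : ModData Z6 where
  N := Multiplicative (ZMod 4 × ZMod 4)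
  φ := cycHom 6 aut4w aut4w_pow
  T := tblLookup [[1, 4, 1, 16, 4, 1, 16, 4, 1, 16, 4, 16], [1, 1, 16, 1, 16, 1, 16, 1, 16, 1, 16, 16], [1, 1, 16, 1, 16, 1, 16, 1, 16, 1, 16, 16], [1, 4, 1, 16, 4, 1, 16, 4, 1, 16, 4, 16], [1, 1, 16, 1, 16, 1, 16, 1, 16, 1, 16, 16], [1, 1, 16, 1, 16, 1, 16, 1, 16, 1, 16, 16]]
  hT := by decide +kernel
  hexp := by decide +kernel

/-- The automorphism defining the module `2z`. -/
def aut2z : MulAut (Multiplicative (ZMod 2 × ZMod 2 × ZMod 2 × ZMod 2)) :=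
  mkAut (fun p => (p.2.1 + p.2.2.1, p.1 + p.2.1 + p.2.2.2, p.2.2.2, p.2.2.1 + p.2.2.2)) (fun p => (p.1 + p.2.1 + p.2.2.2, p.1 + p.2.2.1 + p.2.2.2, p.2.2.1 + p.2.2.2, p.2.2.1)) (by decide) (by decide) (by decide)

theorem aut2z_pow : aut2z ^ 6 = 1 := by
  apply MulEquiv.ext
  decide +kernel

/-- The `Z6`-module `2z`. -/
def mod2z : ModData Z6 where
  N := Multiplicative (ZMod 2 × ZMod 2 × ZMod 2 × ZMod 2)
  φ := cycHom 6 aut2z aut2z_pow
  T := tblLookup [[1, 16, 1, 16, 16, 1, 16, 16, 1, 16, 16, 16], [1, 1, 4, 1, 16, 1, 16, 1, 4, 1, 16, 16], [1, 1, 16, 1, 16, 1, 16, 1, 16, 1, 16, 16], [1, 4, 1, 16, 4, 1, 16, 4, 1, 16, 4, 16], [1, 1, 16, 1, 16, 1, 16, 1, 16, 1, 16, 16], [1, 1, 4, 1, 16, 1, 16, 1, 4, 1, 16, 16]]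
  hT := by decide +kernel
  hexp := by decide +kernel

end Cfsg.Agent.Lib.helper76
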