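import Cfsg.Agent.Lib.helper76.OrderCount

set_option autoImplicit false

open scoped commutatorElement

namespace Cfsg.Agent.Lib.helper76

/-- The `168` permutations of `PSL(3,2)` on seven points, encoded in base `7 ^ 7`. -/
def pslC : ℕ := 890043097198733886896032112589134176247464148398887499192497645629885684156917878104986944536604010758411260200373148558184819242695838031839603326279280123359734750774998166454346224937925474187006133141579866384234174312953479886215282132703119075473985202483912892662027792936130066738270458036505520490490024427503397668240525191678710028055421799626010406255557804623789907630894654849359292705331112496530130394156028948979074753362315507167912951966810163356683230718855021050615187933612156996857310003606272288595038259083614639399064750201231862843851052741355831735515503104040374323375426850861009661924775782298773131720151814282596331534564749516095571866374413299134587453236650791612438905748827598244740600216667509446827291810181438629400348492893059814802663465959591383093487615619156437971500762192897366176995172439978644662890435028181665873920532105494594645556453336105451533137714943664344111623522134021222068443602753668954474782278423308837878955974935736762302072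

/-- The table of inverses, in base `256`. -/
def pslInvC : ℕ := 210627645602094486059290929543079064482344634538003054149887151279526451963844703170973061578356568196916140339917380424189393726824908634043223848407726844911341916532751009930089162273917389266757350427958493777786746962716313265064803871511458419596441661566043076478403447489607160142584781104385661147159335978278327344815075168282312344146075518489240484583140436800939718623045080987996308283465728

/-- The table of right multiplication by the first generator, in base `256`. -/
def pslNxA : ℕ := 164294233935421025672302561678642680573807820638642084587103087762599676028353699479194447588350049461230820023031295554869281358685178812638213187158536390868036829459753984596042229189715628623920871584872132683111482415637212919300248758603809519923581504646831778954333308645494471053734205892687666396826907909627655924866861531000429604438968044207978633988753487659133952348839704486695077773902593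

/-- The table of right multiplication by the second generator, in base `256`. -/
def pslNxB : ℕ := 239372930951679076157347059776059200990618393658662425098818769376343248877125489103180138318029402051283442299358496358552542808067078460792095987547425151482349549446194179929017396907299714198550897237387549362446405526310901768974304076426626527577436144632368927279451011913177923261320642549020144175355669712342469676213974025443624577366644773058689774190955696765537233796155533678720374718596098

/-- The `k`-th permutation, as a function. -/
def pslF (k : Fin 168) (i : Fin 7) : Fin 7 := Fin.ofNat 7 (pslC / 823543 ^ k.val / 7 ^ i.val)

/-- The index of the inverse of the `k`-th permutation. -/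
def pslInvIdx (k : Fin 168) : Fin 168 := Fin.ofNat 168 (pslInvC / 256 ^ k.val % 256)

theorem pslF_left : ∀ (k : Fin 168) (i : Fin 7), pslF (pslInvIdx k) (pslF k i) = i := by
  decide +kernel

theorem pslF_right : ∀ (k : Fin 168) (i : Fin 7), pslF k (pslF (pslInvIdx k) i) = i := by
  decide +kernel

/-- The `k`-th permutation. -/
def pslElt (k : Fin 168) : Equiv.Perm (Fin 7) :=
  ⟨pslF k, pslF (pslInvIdx k), pslF_left k, pslF_right k⟩

/-- The two generators. -/
def pslGen (b : Bool) : Equiv.Perm (Fin 7) := if b then pslElt 2 else pslElt 1

/-- Index of the product with a generator. -/
def pslNx (b : Bool) (k : Fin 168) : Fin 168 :=
  Fin.ofNat 168 ((if b then pslNxB else pslNxA) / 256 ^ k.val % 256)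

theorem psl_mul_gen_aux : ∀ (k : Fin 168) (i : Fin 7),
    pslF k (pslF 1 i) = pslF (pslNx false k) i ∧ pslF k (pslF 2 i) = pslF (pslNx true k) i := by
  decide +kernel

theorem psl_mul_gen (k : Fin 168) (b : Bool) : pslElt k * pslGen b = pslElt (pslNx b k) := by
  apply Equiv.ext
  intro i
  cases b
  · exact (psl_mul_gen_aux k i).1
  · exact (psl_mul_gen_aux k i).2

theorem psl_inj_aux : ∀ j k : Fin 168, (∀ i : Fin 7, pslF j i = pslF k i) → j = k := by
  decide +kernel

theorem psl_inj : Function.Injective pslElt := by
  intro j k h
  apply psl_inj_aux
  intro i
  exact congrArg (fun σ : Equiv.Perm (Fin 7) => σ i) h

theorem psl_one_aux : ∀ i : Fin 7, pslF 0 i = i := by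
  decide +kernel

theorem psl_one : pslElt 0 = 1 := by
  apply Equiv.ext
  intro i
  exact psl_one_aux i

/-- Words in the generators for the `168` elements. -/
def pslWords : List (List Bool) :=
  [[],
  [false],
  [true],
  [false, false],
  [false, true],
  [true, false],
  [false, false, false],
  [false, false, true],
  [false, true, false],
  [true, false, false],
  [true, false, true],
  [false, false, false, false],
  [false, false, false, true],
  [false, false, true, false],
  [false, true, false, false],
  [false, true, false, true],
  [true, false, false, false],
  [true, false, false, true],
  [true, false, true, false],
  [false, false, false, false, false],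
  [false, false, false, false, true],
  [false, false, false, true, false],
  [false, false, true, false, false],
  [false, false, true, false, true],
  [false, true, false, false, false],
  [false, true, false, false, true],
  [false, true, false, true, false],
  [true, false, false, false, false],
  [true, false, false, false, true],
  [true, false, false, true, false],
  [true, false, true, false, false],
  [true, false, true, false, true],
  [false, false, false, false, false, false],
  [false, false, false, false, false, true],
  [false, false, false, false, true, false],
  [false, false, false, true, false, false],
  [false, false, false, true, false, true],
  [false, false, true, false, false, false],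
  [false, false, true, false, false, true],
  [false, false, true, false, true, false],
  [false, true, false, false, false, false],
  [false, true, false, false, false, true],
  [false, true, false, true, false, false],
  [false, true, false, true, false, true],
  [true, false, false, false, false, true],
  [true, false, false, false, true, false],
  [true, false, false, true, false, true],
  [true, false, true, false, false, false],
  [true, false, true, false, false, true],
  [true, false, true, false, true, false],
  [false, false, false, false, false, true, false],
  [false, false, false, false, true, false, false],
  [false, false, false, false, true, false, true],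
  [false, false, false, true, false, false, false],
  [false, false, false, true, false, false, true],
  [false, false, false, true, false, true, false],
  [false, false, true, false, false, false, false],
  [false, false, true, false, false, false, true],
  [false, false, true, false, true, false, false],
  [false, false, true, false, true, false, true],
  [false, true, false, false, false, false, true],
  [false, true, false, false, false, true, false],
  [false, true, false, true, false, false, false],
  [false, true, false, true, false, false, true],
  [true, false, false, false, false, true, false],
  [true, false, false, false, true, false, false],
  [true, false, false, false, true, false, true],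
  [true, false, false, true, false, true, false],
  [true, false, true, false, false, false, false],
  [true, false, true, false, false, false, true],
  [true, false, true, false, true, false, false],
  [false, false, false, false, false, true, false, false],
  [false, false, false, false, false, true, false, true],
  [false, false, false, false, true, false, false, false],
  [false, false, false, false, true, false, false, true],
  [false, false, false, false, true, false, true, false],
  [false, false, false, true, false, false, false, false],
  [false, false, false, true, false, false, false, true],
  [false, false, false, true, false, true, false, false],
  [false, false, false, true, false, true, false, true],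
  [false, false, true, false, false, false, false, true],
  [false, false, true, false, false, false, true, false],
  [false, false, true, false, true, false, false, false],
  [false, false, true, false, true, false, false, true],
  [false, true, false, false, false, false, true, false],
  [false, true, false, false, false, true, false, false],
  [false, true, false, false, false, true, false, true],
  [false, true, false, true, false, false, false, false],
  [false, true, false, true, false, false, false, true],
  [true, false, false, false, false, true, false, false],
  [true, false, false, false, false, true, false, true],
  [true, false, false, false, true, false, false, false],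
  [true, false, false, false, true, false, false, true],
  [true, false, false, false, true, false, true, false],
  [true, false, false, true, false, true, false, false],
  [true, false, false, true, false, true, false, true],
  [true, false, true, false, false, false, false, true],
  [true, false, true, false, true, false, false, false],
  [true, false, true, false, true, false, false, true],
  [false, false, false, false, false, true, false, false, false],
  [false, false, false, false, false, true, false, false, true],
  [false, false, false, false, false, true, false, true, false],
  [false, false, false, false, true, false, false, false, false],
  [false, false, false, false, true, false, false, false, true],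
  [false, false, false, false, true, false, true, false, false],
  [false, false, false, false, true, false, true, false, true],
  [false, false, false, true, false, false, false, false, true],
  [false, false, false, true, false, false, false, true, false],
  [false, false, false, true, false, true, false, false, false],
  [false, false, false, true, false, true, false, false, true],
  [false, false, true, false, false, false, false, true, false],
  [false, false, true, false, false, false, true, false, false],
  [false, false, true, false, false, false, true, false, true],
  [false, false, true, false, true, false, false, false, false],
  [false, false, true, false, true, false, false, false, true],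
  [false, true, false, false, false, false, true, false, false],
  [false, true, false, false, false, false, true, false, true],
  [false, true, false, false, false, true, false, false, false],
  [false, true, false, false, false, true, false, false, true],
  [false, true, false, false, false, true, false, true, false],
  [false, true, false, true, false, false, false, false, true],
  [true, false, false, false, false, true, false, false, false],
  [true, false, false, false, false, true, false, true, false],
  [true, false, false, false, true, false, false, false, false],
  [true, false, false, false, true, false, true, false, false],
  [true, false, false, false, true, false, true, false, true],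
  [true, false, false, true, false, true, false, false, false],
  [true, false, false, true, false, true, false, false, true],
  [true, false, true, false, false, false, false, true, false],
  [true, false, true, false, true, false, false, false, false],
  [true, false, true, false, true, false, false, false, true],
  [false, false, false, false, false, true, false, true, false, false],
  [false, false, false, false, false, true, false, true, false, true],
  [false, false, false, false, true, false, false, false, false, true],
  [false, false, false, false, true, false, false, false, true, false],
  [false, false, false, false, true, false, true, false, false, false],
  [false, false, false, false, true, false, true, false, false, true],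
  [false, false, false, true, false, false, false, false, true, false],
  [false, false, false, true, false, false, false, true, false, false],
  [false, false, false, true, false, false, false, true, false, true],
  [false, false, false, true, false, true, false, false, false, false],
  [false, false, true, false, false, false, true, false, false, false],
  [false, false, true, false, false, false, true, false, false, true],
  [false, false, true, false, true, false, false, false, false, true],
  [false, true, false, false, false, false, true, false, false, false],
  [false, true, false, false, false, false, true, false, true, false],
  [false, true, false, false, false, true, false, false, false, false],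
  [false, true, false, false, false, true, false, true, false, false],
  [false, true, false, false, false, true, false, true, false, true],
  [false, true, false, true, false, false, false, false, true, false],
  [true, false, false, false, false, true, false, false, false, false],
  [true, false, false, false, false, true, false, true, false, false],
  [true, false, false, false, true, false, true, false, false, true],
  [true, false, false, true, false, true, false, false, false, false],
  [true, false, false, true, false, true, false, false, false, true],
  [true, false, true, false, false, false, false, true, false, true],
  [false, false, false, false, false, true, false, true, false, false, false],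
  [false, false, false, false, false, true, false, true, false, false, true],
  [false, false, false, false, true, false, false, false, false, true, false],
  [false, false, false, false, true, false, false, false, true, false, false],
  [false, false, false, true, false, false, false, true, false, false, true],
  [false, false, false, true, false, true, false, false, false, false, true],
  [false, false, true, false, false, false, true, false, false, false, false],
  [false, true, false, false, false, false, true, false, false, false, false],
  [false, true, false, false, false, true, false, true, false, false, true],
  [false, true, false, true, false, false, false, false, true, false, true],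
  [true, false, false, false, false, true, false, false, false, false, true],
  [true, false, true, false, false, false, false, true, false, true, false]]

/-- Evaluation of a word at a point. -/
def pslWordF : List Bool → Fin 7 → Fin 7
  | [], i => i
  | b :: w, i => (if b then pslF 2 else pslF 1) (pslWordF w i)

theorem pslWordF_eq (w : List Bool) (i : Fin 7) : (w.map pslGen).prod i = pslWordF w i := by
  induction w generalizing i with
  | nil => rfl
  | cons b w ih =>
    rw [List.map_cons, List.prod_cons, Equiv.Perm.mul_apply, ih]
    cases b <;> rfl

theorem psl_word_aux : ∀ (k : Fin 168) (i : Fin 7),
    pslF k i = pslWordF (pslWords.getD k.val []) i := by
  decide +kernel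

theorem psl_word (k : Fin 168) : pslElt k = ((pslWords.getD k.val []).map pslGen).prod := by
  apply Equiv.ext
  intro i
  rw [pslWordF_eq]
  exact psl_word_aux k i

/-- The simple group of order `168`, as a permutation group on seven points. -/
def PSL : Subgroup (Equiv.Perm (Fin 7)) := Subgroup.closure {pslGen false, pslGen true}

theorem pslGen_mem (b : Bool) : pslGen b ∈ PSL := by
  apply Subgroup.subset_closure
  cases b
  · exact Set.mem_insert _ _
  · exact Set.mem_insert_of_mem _ rfl

theorem psl_mem (k : Fin 168) : pslElt k ∈ PSL := by
  rw [psl_word k]
  apply Subgroup.list_prod_mem
  intro x hx
  rw [List.mem_map] at hx
  obtain ⟨b, _, rfl⟩ := hx
  exact pslGen_mem b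

theorem psl_range_mul (j k : Fin 168) : ∃ l, pslElt l = pslElt j * pslElt k := by
  have key : ∀ (w : List Bool) (j : Fin 168), ∃ l, pslElt l = pslElt j * (w.map pslGen).prod := by
    intro w
    induction w with
    | nil => intro j; exact ⟨j, by simp⟩
    | cons b w ih =>
      intro j
      obtain ⟨l, hl⟩ := ih (pslNx b j)
      exact ⟨l, by rw [hl, ← psl_mul_gen j b, List.map_cons, List.prod_cons, mul_assoc]⟩
  rw [psl_word k]
  exact key _ j

theorem psl_inv (j : Fin 168) : pslElt (pslInvIdx j) = (pslElt j)⁻¹ := by
  apply Equiv.ext
  intro i
  rfl

theorem psl_surj (x : Equiv.Perm (Fin 7)) (hx : x ∈ PSL) : ∃ k, pslElt k = x := by
  refine Subgroup.closure_induction (p := fun x _ => ∃ k, pslElt k = x) ?_ ?_ ?_ ?_ hx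
  · intro y hy
    rcases hy with rfl | rfl
    · exact ⟨1, rfl⟩
    · exact ⟨2, rfl⟩
  · exact ⟨0, psl_one⟩
  · rintro x y _ _ ⟨j, rfl⟩ ⟨k, rfl⟩
    exact psl_range_mul j k
  · rintro x _ ⟨j, rfl⟩
    exact ⟨pslInvIdx j, psl_inv j⟩

/-- The enumeration of the group. -/
noncomputable def pslEquiv : Fin 168 ≃ PSL :=
  Equiv.ofBijective (fun k => ⟨pslElt k, psl_mem k⟩)
    ⟨fun j k h => psl_inj (congrArg Subtype.val h), fun x => by
      obtain ⟨k, hk⟩ := psl_surj x.1 x.2
      exact ⟨k, Subtype.ext hk⟩⟩

theorem psl_pow_eq_one_iff (k : Fin 168) (d : ℕ) :
    (pslEquiv k) ^ d = 1 ↔ ∀ i : Fin 7, (pslF k)^[d] i = i := by
  rw [← Subtype.coe_inj]
  show pslElt k ^ d = 1 ↔ _
  rw [Equiv.ext_iff]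
  apply forall_congr'
  intro i
  rw [← Equiv.Perm.iterate_eq_pow]
  rfl

theorem psl_cnt (d : ℕ) :
    cnt PSL d = (Finset.univ.filter fun k : Fin 168 => ∀ i : Fin 7, (pslF k)^[d] i = i).card := by
  unfold cnt
  rw [← Fintype.card_subtype, ← Nat.card_eq_fintype_card]
  apply Nat.card_congr
  exact (pslEquiv.subtypeEquiv (fun k => (psl_pow_eq_one_iff k d).symm)).symm

theorem psl_tbl : ∀ d ∈ Nat.divisors 84,
    (Finset.univ.filter fun k : Fin 168 => ∀ i : Fin 7, (pslF k)^[d] i = i).card =
      ([1, 22, 57, 64, 78, 49, 120, 70, 105, 112, 126, 168] : List ℕ).getD
        ([1, 2, 3, 4, 6, 7, 12, 14, 21, 28, 42, 84].idxOf d) 0 := by
  decide +kernel

theorem psl_exp_aux : ∀ (k : Fin 168) (i : Fin 7), (pslF k)^[84] i = i := by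
  decide +kernel

/-- The simple group of order `168` as a piece. -/
noncomputable def piecePSL : Piece where
  X := PSL
  tbl := fun d => ([1, 22, 57, 64, 78, 49, 120, 70, 105, 112, 126, 168] : List ℕ).getD
        ([1, 2, 3, 4, 6, 7, 12, 14, 21, 28, 42, 84].idxOf d) 0
  htbl := by
    intro d hd
    rw [psl_cnt]
    exact psl_tbl d hd
  hexp := by
    intro x
    obtain ⟨k, rfl⟩ := pslEquiv.surjective x
    exact (psl_pow_eq_one_iff k 84).mpr (psl_exp_aux k)

theorem psl_comm_aux : ∀ i : Fin 7,
    pslF 3 (pslF 96 i) = pslF 1 (pslF 96 (pslF 3 i)) ∧
    pslF 34 (pslF 52 i) = pslF 2 (pslF 52 (pslF 34 i)) := by
  decide +kernel

theorem pslGen_false_eq :
    pslGen false = pslElt 3 * pslElt 96 * (pslElt 3)⁻¹ * (pslElt 96)⁻¹ := by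
  have h : pslElt 3 * pslElt 96 = pslGen false * pslElt 96 * pslElt 3 := by
    apply Equiv.ext
    intro i
    exact (psl_comm_aux i).1
  rw [h]
  group

theorem pslGen_true_eq :
    pslGen true = pslElt 34 * pslElt 52 * (pslElt 34)⁻¹ * (pslElt 52)⁻¹ := by
  have h : pslElt 34 * pslElt 52 = pslGen true * pslElt 52 * pslElt 34 := by
    apply Equiv.ext
    intro i
    exact (psl_comm_aux i).2
  rw [h]
  group

theorem psl_commutator : commutator PSL = ⊤ := by
  have hcl : Subgroup.closure (((↑) : PSL → Equiv.Perm (Fin 7)) ⁻¹'
      ({pslGen false, pslGen true} : Set (Equiv.Perm (Fin 7)))) = (⊤ : Subgroup PSL) :=
    Subgroup.closure_closure_coe_preimage
  rw [eq_top_iff, ← hcl, Subgroup.closure_le]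
  intro x hx
  have hx' : (x : Equiv.Perm (Fin 7)) = pslGen false ∨ (x : Equiv.Perm (Fin 7)) = pslGen true := hx
  rw [SetLike.mem_coe, commutator_def]
  rcases hx' with h | h
  · have : x = ⁅(⟨pslElt 3, psl_mem _⟩ : PSL), ⟨pslElt 96, psl_mem _⟩⁆ := by
      apply Subtype.ext
      rw [h, pslGen_false_eq, commutatorElement_def]
      rfl
    rw [this]
    exact Subgroup.commutator_mem_commutator (Subgroup.mem_top _) (Subgroup.mem_top _)
  · have : x = ⁅(⟨pslElt 34, psl_mem _⟩ : PSL), ⟨pslElt 52, psl_mem _⟩⁆ := by
      apply Subtype.ext
      rw [h, pslGen_true_eq, commutatorElement_def]
      rfl
    rw [this]
    exact Subgroup.commutator_mem_commutator (Subgroup.mem_top _) (Subgroup.mem_top _)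

theorem psl_ne_aux : pslF 1 0 ≠ 0 := by
  decide +kernel

theorem psl_not_isSolvable : ¬ Group.IsSolvable PSL := by
  intro h
  have hnt : Nontrivial PSL := by
    refine ⟨⟨⟨pslGen false, pslGen_mem false⟩, 1, ?_⟩⟩
    intro h1
    have h2 : pslGen false = 1 := congrArg Subtype.val h1
    exact psl_ne_aux (congrArg (fun σ : Equiv.Perm (Fin 7) => σ 0) h2)
  have := Group.IsSolvable.commutator_lt_top_of_nontrivial PSL
  rw [psl_commutator] at this
  exact lt_irrefl _ this

theorem piecePSL_not_isSolvable : ¬ Group.IsSolvable piecePSL.X := psl_not_isSolvable

end Cfsg.Agent.Lib.helper76
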