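import Cfsg.Agent.Lib.helper76.OTModules
import Cfsg.Agent.Lib.helper76.OTAGL
import Cfsg.Agent.Lib.helper76.OTPSL

set_option autoImplicit false

namespace Cfsg.Agent.Lib.helper76

/-- The cyclic group of order `2` as a piece. -/
def pieceC2 : Piece where
  X := Multiplicative (ZMod 2)
  tbl := fun d => Nat.gcd d 2
  htbl := by
    intro d hd
    rw [cnt_eq_card_filter]
    revert d
    decide +kernel
  hexp := by decide +kernel

theorem pieceC2_isSolvable : Group.IsSolvable pieceC2.X :=
  (inferInstance : Group.IsSolvable (Multiplicative (ZMod 2)))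

/-- The cyclic group of order `3` as a piece. -/
def pieceC3 : Piece where
  X := Multiplicative (ZMod 3)
  tbl := fun d => Nat.gcd d 3
  htbl := by
    intro d hd
    rw [cnt_eq_card_filter]
    revert d
    decide +kernel
  hexp := by decide +kernel

theorem pieceC3_isSolvable : Group.IsSolvable pieceC3.X :=
  (inferInstance : Group.IsSolvable (Multiplicative (ZMod 3)))

/-- The cyclic group of order `7` as a piece. -/
def pieceC7 : Piece where
  X := Multiplicative (ZMod 7)
  tbl := fun d => Nat.gcd d 7
  htbl := by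
    intro d hd
    rw [cnt_eq_card_filter]
    revert d
    decide +kernel
  hexp := by decide +kernel

theorem pieceC7_isSolvable : Group.IsSolvable pieceC7.X :=
  (inferInstance : Group.IsSolvable (Multiplicative (ZMod 7)))

theorem forall_mem_cons_of {P : Piece × ℕ → Prop} {a : Piece × ℕ} {l : List (Piece × ℕ)}
    (h1 : P (a.1, a.2)) (h2 : ∀ x ∈ l, P x) : ∀ x ∈ a :: l, P x :=
  List.forall_mem_cons.mpr ⟨h1, h2⟩

/-- The factors of the solvable group. -/
def otPos : List (Piece × ℕ) :=
  [(ModData.piece Z6_pow (mod7m.prod (mod7m.prod (mod2J))), 6),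
    (ModData.piece Z6_pow (mod7m.prod (mod2J.prod (mod2J))), 12),
    (ModData.piece Z6_pow (mod7z.prod (mod2J.prod (mod2J))), 12),
    (ModData.piece Z6_pow (mod7w.prod (mod4w)), 6),
    (ModData.piece Z6_pow (mod7w.prod (mod2z)), 15),
    (ModData.piece Z6_pow (mod7z.prod (mod4w)), 36),
    (ModData.piece Z6_pow (mod3m.prod (mod3m.prod (mod7z))), 6),
    (ModData.piece Z6_pow (mod7m.prod (mod7m)), 10),
    (ModData.piece Z6_pow (mod3m.prod (mod4m.prod (mod4m))), 6),
    (ModData.piece Z6_pow (mod3m.prod (mod3m.prod (mod2J))), 6),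
    (ModData.piece Z6_pow (mod7m.prod (mod4m)), 18),
    (ModData.piece Z6_pow (mod7m.prod (mod2J)), 6),
    (pieceAGL, 15),
    (ModData.piece Z6_pow (mod3m.prod (mod7z)), 6),
    (ModData.piece Z6_pow (mod2w.prod (mod2w)), 57),
    (ModData.piece Z6_pow (mod3m.prod (mod2J)), 15),
    (ModData.piece Z6_pow (mod7z), 45),
    (pieceC7, 5),
    (pieceC3, 2)]

/-- The solvable factors of the non-solvable group. -/
def otNeg : List (Piece × ℕ) :=
  [(ModData.piece Z6_pow (mod3m.prod (mod7z.prod (mod4m.prod (mod4m)))), 6),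
    (ModData.piece Z6_pow (mod3m.prod (mod3m.prod (mod7z.prod (mod2J)))), 6),
    (ModData.piece Z6_pow (mod7m.prod (mod7m.prod (mod4m))), 6),
    (ModData.piece Z6_pow (mod7z.prod (mod2w.prod (mod2w))), 57),
    (ModData.piece Z6_pow (mod7m.prod (mod2z)), 15),
    (ModData.piece Z6_pow (mod7m.prod (mod7z)), 10),
    (ModData.piece Z6_pow (mod7z.prod (mod4m)), 6),
    (ModData.piece Z6_pow (mod4m.prod (mod4m)), 24),
    (ModData.piece Z6_pow (mod4w), 42),
    (ModData.piece Z6_pow (mod3m.prod (mod3m)), 6),
    (ModData.piece Z6_pow (mod7m), 36),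
    (ModData.piece Z6_pow (mod7w), 41),
    (ModData.piece Z6_pow (mod4m), 18),
    (ModData.piece Z6_pow (mod3m), 6),
    (pieceC2, 13)]

/-- The solvable group. -/
abbrev OTG : Type := BP otPos

/-- The non-solvable group. -/
abbrev OTH : Type := BP ((piecePSL, 15) :: otNeg)

theorem ot_relation : ∀ d ∈ Nat.divisors 84,
    (otPos.map fun pc => pc.1.tbl d ^ pc.2).prod =
      (((piecePSL, 15) :: otNeg).map fun pc => pc.1.tbl d ^ pc.2).prod := by
  decide +kernel

theorem ot_cnt (n : ℕ) : cnt OTG n = cnt OTH n := by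
  rw [BP.cnt_eq, BP.cnt_eq]
  apply ot_relation
  rw [Nat.mem_divisors]
  exact ⟨Nat.gcd_dvd_right n 84, by norm_num⟩

theorem otG_isSolvable : Group.IsSolvable OTG := by
  apply BP.isSolvable
  exact forall_mem_cons_of (ModData.piece_isSolvable Z6_pow _)
    (forall_mem_cons_of (ModData.piece_isSolvable Z6_pow _)
    (forall_mem_cons_of (ModData.piece_isSolvable Z6_pow _)
    (forall_mem_cons_of (ModData.piece_isSolvable Z6_pow _)
    (forall_mem_cons_of (ModData.piece_isSolvable Z6_pow _)
    (forall_mem_cons_of (ModData.piece_isSolvable Z6_pow _)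
    (forall_mem_cons_of (ModData.piece_isSolvable Z6_pow _)
    (forall_mem_cons_of (ModData.piece_isSolvable Z6_pow _)
    (forall_mem_cons_of (ModData.piece_isSolvable Z6_pow _)
    (forall_mem_cons_of (ModData.piece_isSolvable Z6_pow _)
    (forall_mem_cons_of (ModData.piece_isSolvable Z6_pow _)
    (forall_mem_cons_of (ModData.piece_isSolvable Z6_pow _)
    (forall_mem_cons_of (pieceAGL_isSolvable)
    (forall_mem_cons_of (ModData.piece_isSolvable Z6_pow _)
    (forall_mem_cons_of (ModData.piece_isSolvable Z6_pow _)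
    (forall_mem_cons_of (ModData.piece_isSolvable Z6_pow _)
    (forall_mem_cons_of (ModData.piece_isSolvable Z6_pow _)
    (forall_mem_cons_of (pieceC7_isSolvable)
    (forall_mem_cons_of (pieceC3_isSolvable)
    (fun _ h => absurd h List.not_mem_nil)))))))))))))))))))

theorem BP.not_isSolvable_cons (p : Piece) (c : ℕ) (l : List (Piece × ℕ))
    (hp : ¬ Group.IsSolvable p.X) : ¬ Group.IsSolvable (BP ((p, c + 1) :: l)) := by
  intro h
  apply hp
  have h' : Group.IsSolvable ((Fin (c + 1) → p.X) × BP l) := h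
  let f : p.X →* (Fin (c + 1) → p.X) × BP l :=
    { toFun := fun x => (fun _ => x, 1)
      map_one' := rfl
      map_mul' := fun x y => by
        apply Prod.ext
        · rfl
        · exact (one_mul (1 : BP l)).symm }
  have hf : Function.Injective f := fun x y hxy => congrFun (congrArg Prod.fst hxy) 0
  exact Group.isSolvable_of_isSolvable_injective hf

theorem otH_not_isSolvable : ¬ Group.IsSolvable OTH :=
  BP.not_isSolvable_cons piecePSL 14 otNeg piecePSL_not_isSolvable

end Cfsg.Agent.Lib.helper76
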