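import Mathlib

set_option autoImplicit false

namespace Cfsg.Agent.Lib.helper76

/-- The number of solutions of `x ^ d = 1` in `X`. -/
noncomputable def cnt (X : Type*) [Monoid X] (d : ℕ) : ℕ := Nat.card {x : X // x ^ d = 1}

theorem cnt_prod (X Y : Type*) [Monoid X] [Monoid Y] (d : ℕ) :
    cnt (X × Y) d = cnt X d * cnt Y d := by
  unfold cnt
  rw [← Nat.card_prod]
  apply Nat.card_congr
  exact
    { toFun := fun p => (⟨p.1.1, (Prod.ext_iff.mp p.2).1⟩, ⟨p.1.2, (Prod.ext_iff.mp p.2).2⟩)
      invFun := fun q => ⟨(q.1.1, q.2.1), Prod.ext q.1.2 q.2.2⟩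
      left_inv := fun _ => rfl
      right_inv := fun _ => rfl }

theorem cnt_pi (X : Type*) [Monoid X] (c d : ℕ) : cnt (Fin c → X) d = cnt X d ^ c := by
  unfold cnt
  have e : {f : Fin c → X // f ^ d = 1} ≃ (Fin c → {x : X // x ^ d = 1}) :=
    { toFun := fun f i => ⟨f.1 i, congrFun f.2 i⟩
      invFun := fun g => ⟨fun i => (g i).1, funext fun i => (g i).2⟩
      left_inv := fun _ => rfl
      right_inv := fun _ => rfl }
  rw [Nat.card_congr e, Nat.card_fun, Nat.card_fin]

theorem cnt_gcd (X : Type*) [Group X] (e : ℕ) (h : ∀ x : X, x ^ e = 1) (n : ℕ) :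
    cnt X n = cnt X (Nat.gcd n e) := by
  unfold cnt
  apply Nat.card_congr
  apply Equiv.subtypeEquivRight
  intro x
  constructor
  · intro hx
    exact pow_gcd_eq_one.mpr ⟨hx, h x⟩
  · intro hx
    obtain ⟨k, hk⟩ := Nat.gcd_dvd_left n e
    have : x ^ n = (x ^ (Nat.gcd n e)) ^ k := by rw [← pow_mul, ← hk]
    rw [this, hx, one_pow]

theorem cnt_eq_card_filter (X : Type*) [Monoid X] [Fintype X] [DecidableEq X] (d : ℕ) :
    cnt X d = (Finset.univ.filter fun x : X => x ^ d = 1).card := by
  unfold cnt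
  rw [Nat.card_eq_fintype_card, Fintype.card_subtype]

theorem cnt_unit (d : ℕ) : cnt Unit d = 1 := by
  rw [cnt_eq_card_filter]
  rfl

/-- A finite group of exponent dividing `84` together with its table of solution counts. -/
structure Piece where
  X : Type
  [grp : Group X]
  [fin : Finite X]
  tbl : ℕ → ℕ
  htbl : ∀ d ∈ Nat.divisors 84, cnt X d = tbl d
  hexp : ∀ x : X, x ^ 84 = 1

attribute [instance] Piece.grp Piece.fin

theorem Piece.cnt_eq (p : Piece) (n : ℕ) : cnt p.X n = p.tbl (Nat.gcd n 84) := by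
  rw [cnt_gcd p.X 84 p.hexp n]
  apply p.htbl
  rw [Nat.mem_divisors]
  exact ⟨Nat.gcd_dvd_right n 84, by norm_num⟩

/-- The direct product of powers of pieces. -/
def BP : List (Piece × ℕ) → Type
  | [] => Unit
  | pc :: l => (Fin pc.2 → pc.1.X) × BP l

instance BP.instGroup : (l : List (Piece × ℕ)) → Group (BP l)
  | [] => (inferInstance : Group Unit)
  | pc :: l =>
    letI := BP.instGroup l
    (inferInstance : Group ((Fin pc.2 → pc.1.X) × BP l))

instance BP.instFinite : (l : List (Piece × ℕ)) → Finite (BP l)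
  | [] => (inferInstance : Finite Unit)
  | pc :: l =>
    letI := BP.instFinite l
    (inferInstance : Finite ((Fin pc.2 → pc.1.X) × BP l))

theorem BP.cnt_eq : ∀ (l : List (Piece × ℕ)) (n : ℕ),
    cnt (BP l) n = (l.map fun pc => pc.1.tbl (Nat.gcd n 84) ^ pc.2).prod
  | [], n => by
    show cnt Unit n = 1
    exact cnt_unit n
  | pc :: l, n => by
    show cnt ((Fin pc.2 → pc.1.X) × BP l) n = _
    rw [cnt_prod, cnt_pi, BP.cnt_eq l n, Piece.cnt_eq, List.map_cons, List.prod_cons]

theorem isSolvable_pi_fin (X : Type*) [Group X] [Group.IsSolvable X] :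
    ∀ c : ℕ, Group.IsSolvable (Fin c → X)
  | 0 => inferInstance
  | c + 1 => by
    have ih := isSolvable_pi_fin X c
    let f : (Fin (c + 1) → X) →* X × (Fin c → X) :=
      { toFun := fun g => (g 0, fun i => g i.succ)
        map_one' := rfl
        map_mul' := fun _ _ => rfl }
    have hf : Function.Injective f := by
      intro g₁ g₂ h
      have h1 : g₁ 0 = g₂ 0 := congrArg Prod.fst h
      have h2 : (fun i : Fin c => g₁ i.succ) = (fun i : Fin c => g₂ i.succ) := congrArg Prod.snd h
      funext i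
      refine Fin.cases h1 (fun j => ?_) i
      exact congrFun h2 j
    exact Group.isSolvable_of_isSolvable_injective hf

theorem BP.isSolvable : ∀ (l : List (Piece × ℕ)), (∀ pc ∈ l, Group.IsSolvable pc.1.X) →
    Group.IsSolvable (BP l)
  | [], _ => (inferInstance : Group.IsSolvable Unit)
  | pc :: l, h => by
    have h1 : Group.IsSolvable pc.1.X := h pc (List.mem_cons_self)
    have h2 : Group.IsSolvable (BP l) :=
      BP.isSolvable l (fun q hq => h q (List.mem_cons_of_mem _ hq))
    have h3 : Group.IsSolvable (Fin pc.2 → pc.1.X) := isSolvable_pi_fin _ _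
    show Group.IsSolvable ((Fin pc.2 → pc.1.X) × BP l)
    infer_instance

end Cfsg.Agent.Lib.helper76
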