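import Mathlib
import Cfsg.Prelude.Def_Local
import Cfsg.Agent.Lib.lead.Hall

/-!
# Groups whose maximal subgroups are `p`-nilpotent or of prime index

A finite `p`-soluble group all of whose maximal subgroups have a normal `p`-complement or prime
index has a normal series with factors `p'`, `p`, `p'`, `p`, `p'` (the last one trivial when `p = 2`).
Library file of seat `helper76`; everything lives in `Cfsg.Agent.Lib.helper76`.
-/

set_option autoImplicit false

namespace Cfsg.Agent.Lib.helper76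

universe u

/-- monotonicity of the relative index of a normal subgroup in the second argument -/
theorem relIndex_dvd_relIndex_of_normal {G : Type*} [Group G] (X : Subgroup G) [X.Normal]
    {K L : Subgroup G} (hKL : K ≤ L) : X.relIndex K ∣ X.relIndex L := by
  have h := Subgroup.relIndex_dvd_index_of_normal (X.subgroupOf L) (K.subgroupOf L)
  rw [Subgroup.relIndex_subgroupOf hKL] at h
  exact h

theorem inf_relIndex_inf_dvd {G : Type*} [Group G] (H K X : Subgroup G) [H.Normal] :
    (H ⊓ X).relIndex (K ⊓ X) ∣ H.relIndex K := by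
  have h1 : (H ⊓ X).relIndex (K ⊓ X) = H.relIndex (K ⊓ X) := by
    rw [← Subgroup.inf_relIndex_right (H ⊓ X) (K ⊓ X), ← Subgroup.inf_relIndex_right H (K ⊓ X)]
    congr 1
    exact le_antisymm (le_inf (inf_le_left.trans inf_le_left) inf_le_right)
      (le_inf (le_inf inf_le_left (inf_le_right.trans inf_le_right)) inf_le_right)
  rw [h1]
  exact relIndex_dvd_relIndex_of_normal H inf_le_left

/-- the hypothesis on maximal subgroups: each has a normal `p`-complement or prime index -/
def MaxHyp (p : ℕ) (G : Type*) [Group G] : Prop :=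
  ∀ M : Subgroup G, IsCoatom M →
    (∃ K : Subgroup ↥M, K.Normal ∧ ¬ p ∣ Nat.card K ∧ ∃ k : ℕ, K.index = p ^ k) ∨ (M.index).Prime

theorem maxHyp_quotient {G : Type*} [Group G] (p : ℕ) [hp : Fact p.Prime] (N : Subgroup G)
    [N.Normal] (h : MaxHyp p G) : MaxHyp p (G ⧸ N) := by
  intro Mb hMb
  have hsurj := QuotientGroup.mk'_surjective N
  have hMco : IsCoatom (Mb.comap (QuotientGroup.mk' N)) := by
    refine ⟨?_, ?_⟩
    · intro htop
      apply hMb.1
      rw [← Subgroup.map_comap_eq_self_of_surjective hsurj Mb, htop]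
      exact Subgroup.map_top_of_surjective _ hsurj
    · intro K hK
      have hNK : N ≤ K := by
        refine le_trans ?_ hK.le
        intro x hx
        rw [Subgroup.mem_comap]
        have : QuotientGroup.mk' N x = 1 := (QuotientGroup.eq_one_iff x).mpr hx
        rw [this]; exact Mb.one_mem
      have hcm : (K.map (QuotientGroup.mk' N)).comap (QuotientGroup.mk' N) = K := by
        apply Subgroup.comap_map_eq_self
        rw [QuotientGroup.ker_mk']; exact hNK
      have hle : Mb ≤ K.map (QuotientGroup.mk' N) := by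
        rw [← Subgroup.map_comap_eq_self_of_surjective hsurj Mb]
        exact Subgroup.map_mono hK.le
      have hne : Mb ≠ K.map (QuotientGroup.mk' N) := by
        intro heq
        rw [heq, hcm] at hK
        exact lt_irrefl _ hK
      have htop := hMb.2 _ (lt_of_le_of_ne hle hne)
      rw [← hcm, htop, Subgroup.comap_top]
  rcases h _ hMco with ⟨K, hKn, hKp, k, hk⟩ | hprime
  · left
    let φ : ↥(Mb.comap (QuotientGroup.mk' N)) →* ↥Mb :=
      ((QuotientGroup.mk' N).comp (Mb.comap (QuotientGroup.mk' N)).subtype).codRestrict Mb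
        (fun x => x.2)
    have hφ : Function.Surjective φ := by
      rintro ⟨y, hy⟩
      obtain ⟨g, rfl⟩ := hsurj y
      exact ⟨⟨g, hy⟩, rfl⟩
    refine ⟨K.map φ, hKn.map φ hφ, ?_, ?_⟩
    · intro hdvd
      exact hKp (hdvd.trans (Subgroup.card_map_dvd K φ))
    · have hdvd : (K.map φ).index ∣ p ^ k := by
        rw [← hk]; exact Subgroup.index_map_dvd K hφ
      obtain ⟨j, -, hj⟩ := (Nat.dvd_prime_pow hp.out).mp hdvd
      exact ⟨j, hj⟩
  · right
    rwa [Subgroup.index_comap_of_surjective Mb hsurj] at hprime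

/-- a normal series with factors `p'`, `p`, `p'`, `p`, `p'` (the last factor trivial if `p = 2`) -/
def Ser (p : ℕ) (G : Type*) [Group G] : Prop :=
  ∃ A B C D : Subgroup G, A.Normal ∧ B.Normal ∧ C.Normal ∧ D.Normal ∧ A ≤ B ∧ B ≤ C ∧ C ≤ D ∧
    ¬ p ∣ Nat.card A ∧ (∃ k : ℕ, A.relIndex B = p ^ k) ∧ ¬ p ∣ B.relIndex C ∧
    (∃ k : ℕ, C.relIndex D = p ^ k) ∧ ¬ p ∣ D.index ∧ (p = 2 → D = ⊤)

/-- the same series above a subgroup `N` -/
def SerOver (p : ℕ) {G : Type*} [Group G] (N : Subgroup G) : Prop :=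
  ∃ A B C D : Subgroup G, A.Normal ∧ B.Normal ∧ C.Normal ∧ D.Normal ∧ N ≤ A ∧ A ≤ B ∧ B ≤ C ∧
    C ≤ D ∧ ¬ p ∣ N.relIndex A ∧ (∃ k : ℕ, A.relIndex B = p ^ k) ∧ ¬ p ∣ B.relIndex C ∧
    (∃ k : ℕ, C.relIndex D = p ^ k) ∧ ¬ p ∣ D.index ∧ (p = 2 → D = ⊤)

theorem serOver_of_quotient {G : Type*} [Group G] (p : ℕ) (N : Subgroup G) [N.Normal]
    (h : Ser p (G ⧸ N)) : SerOver p N := by
  obtain ⟨A, B, C, D, hA, hB, hC, hD, hAB, hBC, hCD, hpA, hAB', hBC', hCD', hDi, h2⟩ := h
  have hs := QuotientGroup.mk'_surjective N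
  have hri : ∀ X Y : Subgroup (G ⧸ N), (X.comap (QuotientGroup.mk' N)).relIndex
      (Y.comap (QuotientGroup.mk' N)) = X.relIndex Y := by
    intro X Y
    rw [Subgroup.relIndex_comap, Subgroup.map_comap_eq_self_of_surjective hs]
  have hNA : N ≤ A.comap (QuotientGroup.mk' N) := by
    intro x hx
    rw [Subgroup.mem_comap]
    have : QuotientGroup.mk' N x = 1 := (QuotientGroup.eq_one_iff x).mpr hx
    rw [this]; exact A.one_mem
  have hNri : N.relIndex (A.comap (QuotientGroup.mk' N)) = Nat.card A := by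
    calc N.relIndex (A.comap (QuotientGroup.mk' N))
        = ((⊥ : Subgroup (G ⧸ N)).comap (QuotientGroup.mk' N)).relIndex
            (A.comap (QuotientGroup.mk' N)) := by
          rw [MonoidHom.comap_bot, QuotientGroup.ker_mk']
      _ = (⊥ : Subgroup (G ⧸ N)).relIndex A := hri _ _
      _ = Nat.card A := Subgroup.relIndex_bot_left A
  refine ⟨A.comap _, B.comap _, C.comap _, D.comap _, hA.comap _, hB.comap _, hC.comap _,
    hD.comap _, hNA, Subgroup.comap_mono hAB, Subgroup.comap_mono hBC, Subgroup.comap_mono hCD,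
    ?_, ?_, ?_, ?_, ?_, ?_⟩
  · rw [hNri]; exact hpA
  · rw [hri]; exact hAB'
  · rw [hri]; exact hBC'
  · rw [hri]; exact hCD'
  · rw [Subgroup.index_comap_of_surjective D hs]; exact hDi
  · intro hp2
    rw [h2 hp2, Subgroup.comap_top]

theorem ser_of_serOver {G : Type*} [Group G] (p : ℕ) [hp : Fact p.Prime] (N : Subgroup G)
    (hN : ¬ p ∣ Nat.card N) (h : SerOver p N) : Ser p G := by
  obtain ⟨A, B, C, D, hA, hB, hC, hD, hNA, hAB, hBC, hCD, hpA, hAB', hBC', hCD', hDi, h2⟩ := h
  refine ⟨A, B, C, D, hA, hB, hC, hD, hAB, hBC, hCD, ?_, hAB', hBC', hCD', hDi, h2⟩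
  have h1 := Subgroup.relIndex_mul_relIndex ⊥ N A bot_le hNA
  rw [Subgroup.relIndex_bot_left, Subgroup.relIndex_bot_left] at h1
  rw [← h1]
  intro hdvd
  rcases (Nat.Prime.dvd_mul hp.out).mp hdvd with h | h
  · exact hN h
  · exact hpA h

/-- Frattini argument for a complement of an abelian normal Hall subgroup `N` of a normal
subgroup `A`. -/
theorem frattini_complement {G : Type*} [Group G] [Finite G] (N A : Subgroup G) [N.Normal]
    [hAn : A.Normal] (hab : ∀ a ∈ N, ∀ b ∈ N, a * b = b * a) (hNA : N ≤ A)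
    (hcop : (Nat.card N).Coprime (N.relIndex A)) :
    ∃ H : Subgroup G, N ⊔ H = A ∧ Nat.card H = N.relIndex A ∧
      N ⊔ Subgroup.normalizer (H : Set G) = ⊤ := by
  have : IsMulCommutative N := ⟨⟨fun a b => Subtype.ext (hab a a.2 b b.2)⟩⟩
  have hcop' : (Nat.card (N.subgroupOf A)).Coprime (N.subgroupOf A).index := by
    have : Nat.card (N.subgroupOf A) = Nat.card N :=
      Nat.card_congr (Subgroup.subgroupOfEquivOfLe hNA).toEquiv
    rw [this]; exact hcop
  obtain ⟨H', hH'⟩ := Subgroup.exists_right_complement'_of_coprime hcop'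
  have hcardH : Nat.card (H'.map A.subtype) = N.relIndex A := by
    rw [Subgroup.card_map_of_injective A.subtype_injective, ← hH'.symm.index_eq_card]
    rfl
  have hsupH : N ⊔ H'.map A.subtype = A := by
    have h1 := hH'.sup_eq_top
    have h2 := congrArg (Subgroup.map A.subtype) h1
    rw [Subgroup.map_sup, Subgroup.map_subgroupOf_eq_of_le hNA, ← MonoidHom.range_eq_map,
      Subgroup.range_subtype] at h2
    exact h2
  refine ⟨H'.map A.subtype, hsupH, hcardH, ?_⟩
  have hcopH : (Nat.card (H'.map A.subtype)).Coprime (Nat.card N) := by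
    rw [hcardH]; exact hcop.symm
  rw [eq_top_iff]
  intro g _
  have hK : (H'.map A.subtype).map (MulAut.conj g).toMonoidHom ≤ H'.map A.subtype ⊔ N := by
    rw [sup_comm, hsupH]
    rintro x ⟨h, hh, rfl⟩
    have hhA : h ∈ A := Subgroup.map_subtype_le H' hh
    exact hAn.conj_mem h hhA g
  have hcardK : Nat.card ((H'.map A.subtype).map (MulAut.conj g).toMonoidHom)
      = Nat.card (H'.map A.subtype) :=
    Subgroup.card_map_of_injective (MulAut.conj g).injective
  obtain ⟨a, ha, hle⟩ := Cfsg.Agent.Lib.lead.sz_le_conj N (H'.map A.subtype)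
    ((H'.map A.subtype).map (MulAut.conj g).toMonoidHom) hcopH (by rw [hcardK]; exact hcopH) hK
  have heq : (H'.map A.subtype).map (MulAut.conj g).toMonoidHom
      = (H'.map A.subtype).map (MulAut.conj a).toMonoidHom := by
    apply Subgroup.eq_of_le_of_card_ge hle
    rw [hcardK]
    exact le_of_eq (Subgroup.card_map_of_injective (MulAut.conj a).injective)
  have hmem : a⁻¹ * g ∈ Subgroup.normalizer ((H'.map A.subtype : Subgroup G) : Set G) := by
    rw [Subgroup.mem_normalizer_iff_map_conj_eq]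
    have e : (MulAut.conj (a⁻¹ * g)).toMonoidHom
        = (MulAut.conj a⁻¹).toMonoidHom.comp (MulAut.conj g).toMonoidHom := by
      ext x; simp [MulAut.conj_apply, mul_assoc]
    have e' : (MulAut.conj a⁻¹).toMonoidHom.comp (MulAut.conj a).toMonoidHom = MonoidHom.id G := by
      ext x; simp [MulAut.conj_apply, mul_assoc]
    show (H'.map A.subtype).map (MulAut.conj (a⁻¹ * g)).toMonoidHom = H'.map A.subtype
    rw [e, ← Subgroup.map_map, heq, Subgroup.map_map, e', Subgroup.map_id]
  have hg : g = a * (a⁻¹ * g) := by group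
  rw [hg]
  exact Subgroup.mul_mem_sup ha hmem

/-- if `N` is normal of prime order `p` then `g ^ (p - 1)` centralizes `N` -/
theorem pow_pred_mem_centralizer {G : Type*} [Group G] (p : ℕ) [hp : Fact p.Prime]
    (N : Subgroup G) [hNn : N.Normal] (hN : Nat.card N = p) (g : G) :
    g ^ (p - 1) ∈ Subgroup.centralizer (N : Set G) := by
  have : Finite N := Nat.finite_of_card_ne_zero (by rw [hN]; exact hp.out.ne_zero)
  have hcyc : IsCyclic N := isCyclic_of_prime_card hN
  obtain ⟨⟨x, hxN⟩, hx⟩ := hcyc.exists_generator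
  have hpow : ∀ y ∈ N, ∃ k : ℕ, x ^ k = y := by
    intro y hy
    obtain ⟨k, hk⟩ := mem_powers_iff_mem_zpowers.mpr (hx ⟨y, hy⟩)
    exact ⟨k, congrArg Subtype.val hk⟩
  have hord : orderOf x = p := by
    have h1 := orderOf_eq_card_of_forall_mem_zpowers hx
    rw [hN] at h1
    rw [← h1]
    exact (Subgroup.orderOf_mk x hxN).symm
  obtain ⟨k, hk⟩ := hpow (g * x * g⁻¹) (hNn.conj_mem x hxN g)
  have hkp : k.Coprime p := by
    rw [Nat.coprime_comm, Nat.Prime.coprime_iff_not_dvd hp.out]
    intro hdvd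
    have h1 : x ^ k = 1 := by
      rw [← hord] at hdvd
      exact orderOf_dvd_iff_pow_eq_one.mp hdvd
    rw [h1] at hk
    have hx1 : x = 1 := by
      have : x = g⁻¹ * (g * x * g⁻¹) * g := by group
      rw [this, ← hk]; group
    rw [hx1, orderOf_one] at hord
    exact hp.out.one_lt.ne hord
  have hiter : ∀ j : ℕ, g ^ j * x * (g ^ j)⁻¹ = x ^ (k ^ j) := by
    intro j
    induction j with
    | zero => simp
    | succ j ih =>
      calc g ^ (j + 1) * x * (g ^ (j + 1))⁻¹ = g * (g ^ j * x * (g ^ j)⁻¹) * g⁻¹ := by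
            rw [pow_succ']; group
        _ = g * x ^ (k ^ j) * g⁻¹ := by rw [ih]
        _ = (g * x * g⁻¹) ^ (k ^ j) := conj_pow.symm
        _ = (x ^ k) ^ (k ^ j) := by rw [hk]
        _ = x ^ (k ^ (j + 1)) := by rw [← pow_mul, pow_succ']
  have hfer : k ^ (p - 1) ≡ 1 [MOD p] := by
    have := Nat.ModEq.pow_totient hkp
    rwa [Nat.totient_prime hp.out] at this
  have hfix : g ^ (p - 1) * x * (g ^ (p - 1))⁻¹ = x := by
    rw [hiter]
    have : x ^ (k ^ (p - 1)) = x ^ 1 := by
      rw [pow_eq_pow_iff_modEq, hord]; exact hfer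
    rw [this, pow_one]
  have hcomm : Commute (g ^ (p - 1)) x := by
    have : g ^ (p - 1) * x = x * g ^ (p - 1) := by
      calc g ^ (p - 1) * x = (g ^ (p - 1) * x * (g ^ (p - 1))⁻¹) * g ^ (p - 1) := by group
        _ = x * g ^ (p - 1) := by rw [hfix]
    exact this
  rw [Subgroup.mem_centralizer_iff]
  intro y hy
  obtain ⟨j, rfl⟩ := hpow y hy
  exact ((hcomm.pow_right j).eq).symm

theorem exists_minimal_normal_le {G : Type*} [Group G] [Finite G] (N0 : Subgroup G)
    (hN0 : N0.Normal) (hne : N0 ≠ ⊥) :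
    ∃ N : Subgroup G, N.Normal ∧ N ≠ ⊥ ∧ N ≤ N0 ∧
      ∀ K : Subgroup G, K.Normal → K ≤ N → K ≠ ⊥ → K = N := by
  classical
  have hex : ∃ n : ℕ, ∃ N : Subgroup G, N.Normal ∧ N ≠ ⊥ ∧ N ≤ N0 ∧ Nat.card N = n :=
    ⟨_, N0, hN0, hne, le_rfl, rfl⟩
  obtain ⟨N, hNn, hNne, hNle, hcard⟩ := Nat.find_spec hex
  refine ⟨N, hNn, hNne, hNle, fun K hKn hKN hKne => ?_⟩
  have h1 : Nat.find hex ≤ Nat.card K := Nat.find_min' hex ⟨K, hKn, hKne, hKN.trans hNle, rfl⟩
  exact Subgroup.eq_of_le_of_card_ge hKN (by rw [hcard]; exact h1)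

/-- normal subgroup of order prime to `p` has cardinality one if there are no nontrivial ones -/
theorem ser_main (p : ℕ) [hp : Fact p.Prime] : ∀ (n : ℕ) (G : Type u) [Group G] [Finite G],
    Nat.card G = n → Cfsg.IsPSolvable p G → MaxHyp p G → Ser p G := by
  intro n
  induction n using Nat.strong_induction_on with
  | _ n ih =>
  intro G _ _ hcard hsol hmax
  classical
  by_cases htriv : Subsingleton G
  · refine ⟨⊤, ⊤, ⊤, ⊤, inferInstance, inferInstance, inferInstance, inferInstance, le_rfl,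
      le_rfl, le_rfl, ?_, ⟨0, ?_⟩, ?_, ⟨0, ?_⟩, ?_, fun _ => rfl⟩
    · rw [Subgroup.card_top, Nat.card_of_subsingleton (1 : G)]
      exact hp.out.not_dvd_one
    · rw [Subgroup.relIndex_self, pow_zero]
    · rw [Subgroup.relIndex_self]
      exact hp.out.not_dvd_one
    · rw [Subgroup.relIndex_self, pow_zero]
    · rw [Subgroup.index_top]
      exact hp.out.not_dvd_one
  have hnt : Nontrivial G := not_subsingleton_iff_nontrivial.mp htriv
  have hquot : ∀ R : Subgroup G, ∀ [R.Normal], R ≠ ⊥ → SerOver p R := by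
    intro R _ hRne
    have hlt : Nat.card (G ⧸ R) < n := by
      rw [← hcard, ← Subgroup.index_eq_card, ← Subgroup.card_mul_index R]
      have h1 : 1 < Nat.card R := by
        rw [Finite.one_lt_card_iff_nontrivial]
        exact (Subgroup.nontrivial_iff_ne_bot R).mpr hRne
      have h2 : 0 < R.index := Nat.pos_of_ne_zero Subgroup.index_ne_zero_of_finite
      nlinarith
    exact serOver_of_quotient p R (ih _ hlt (G ⧸ R) rfl
      (Cfsg.Agent.Lib.lead.isPSolvable_quotient R hsol) (maxHyp_quotient p R hmax))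
  by_cases hR : ∃ R : Subgroup G, R.Normal ∧ R ≠ ⊥ ∧ ¬ p ∣ Nat.card R
  · obtain ⟨R, hRn, hRne, hRp⟩ := hR
    exact ser_of_serOver p R hRp (hquot R hRne)
  push Not at hR
  obtain ⟨N0, hN0n, hN0ne, hN0⟩ := Cfsg.Agent.Lib.lead.pSolvable_exists_normal hsol hnt
  have hN0' : IsPGroup p N0 ∧ IsMulCommutative N0 := by
    rcases hN0 with h | h
    · exfalso
      have h1 := hR N0 hN0n hN0ne
      rw [Nat.coprime_comm, Nat.Prime.coprime_iff_not_dvd hp.out] at h
      exact h h1
    · exact h
  obtain ⟨N, hNn, hNne, hNle, hNmin⟩ := exists_minimal_normal_le N0 hN0n hN0ne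
  have hNab : ∀ a ∈ N, ∀ b ∈ N, a * b = b * a := by
    intro a ha b hb
    have h1 : (⟨a, hNle ha⟩ : N0) * ⟨b, hNle hb⟩ = ⟨b, hNle hb⟩ * ⟨a, hNle ha⟩ :=
      hN0'.2.is_comm.comm _ _
    exact congrArg Subtype.val h1
  have hNp : IsPGroup p N := hN0'.1.to_le hNle
  obtain ⟨a, ha⟩ := IsPGroup.iff_card.mp hNp
  obtain ⟨A', B', C', D', hA, hB, hC, hD, hNA, hAB, hBC, hCD, hpA, ⟨k1, hk1⟩, hBC', ⟨k2, hk2⟩,
    hDi, h2⟩ := hquot N hNne
  by_cases hfr : ∀ M : Subgroup G, IsCoatom M → N ≤ M
  · -- `N` is contained in the Frattini subgroup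
    have hAN : A' = N := by
      have hcop : (Nat.card N).Coprime (N.relIndex A') := by
        rw [ha]
        exact Nat.Coprime.pow_left _ ((Nat.Prime.coprime_iff_not_dvd hp.out).mpr hpA)
      obtain ⟨H, hNHA, hcH, hfrat⟩ := frattini_complement N A' hNab hNA hcop
      have hHn : H.Normal := by
        by_contra hcon
        have hne : Subgroup.normalizer (H : Set G) ≠ ⊤ :=
          fun h => hcon (Subgroup.normalizer_eq_top_iff.mp h)
        obtain ⟨M, hM, hle⟩ := (eq_top_or_exists_le_coatom _).resolve_left hne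
        have : (⊤ : Subgroup G) ≤ M := by
          rw [← hfrat]; exact sup_le (hfr M hM) hle
        exact hM.1 (top_le_iff.mp this)
      have hHbot : H = ⊥ := by
        by_contra hne
        have := hR H hHn hne
        rw [hcH] at this
        exact hpA this
      rw [← hNHA, hHbot, sup_bot_eq]
    rw [hAN] at hAB hk1
    refine ⟨⊥, B', C', D', inferInstance, hB, hC, hD, bot_le, hBC, hCD, ?_, ?_, hBC',
      ⟨k2, hk2⟩, hDi, h2⟩
    · rw [Subgroup.card_bot]; exact hp.out.not_dvd_one
    · refine ⟨a + k1, ?_⟩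
      have := Subgroup.relIndex_mul_relIndex ⊥ N B' bot_le hAB
      rw [Subgroup.relIndex_bot_left, ha, hk1] at this
      rw [← this, pow_add]
  push Not at hfr
  obtain ⟨M, hMco, hNM⟩ := hfr
  have hsup : N ⊔ M = ⊤ := by
    by_contra hne
    have hlt : M < N ⊔ M :=
      lt_of_le_of_ne le_sup_right (fun h => hNM (by rw [h]; exact le_sup_left))
    exact hne (hMco.2 _ hlt)
  have hmem : ∀ g : G, ∃ n ∈ N, ∃ m ∈ M, n * m = g := by
    intro g
    have : g ∈ N ⊔ M := by rw [hsup]; trivial
    exact Subgroup.mem_sup_of_normal_left.mp this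
  have hinf : N ⊓ M = ⊥ := by
    by_contra hne
    have hnorm : (N ⊓ M).Normal := by
      constructor
      intro x hx g
      obtain ⟨n, hn, m, hm, rfl⟩ := hmem g
      have h1 : m * x * m⁻¹ ∈ N ⊓ M :=
        ⟨hNn.conj_mem x hx.1 m, M.mul_mem (M.mul_mem hm hx.2) (M.inv_mem hm)⟩
      have h2 : n * m * x * (n * m)⁻¹ = m * x * m⁻¹ := by
        have hc := hNab n hn (m * x * m⁻¹) h1.1
        calc n * m * x * (n * m)⁻¹ = n * (m * x * m⁻¹) * n⁻¹ := by group
          _ = (m * x * m⁻¹) * n * n⁻¹ := by rw [hc]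
          _ = m * x * m⁻¹ := by group
      rw [h2]; exact h1
    have := hNmin (N ⊓ M) hnorm inf_le_left hne
    exact hNM (this ▸ inf_le_right)
  -- orders
  have hNidx : N.index = Nat.card M := by
    rw [← Subgroup.relIndex_top_right, ← hsup, Subgroup.relIndex_sup_left,
      ← Subgroup.inf_relIndex_right, hinf, Subgroup.relIndex_bot_left]
  rcases hmax M hMco with ⟨K, hKn, hKp, k, hk⟩ | hprime
  · -- `M` has a normal `p`-complement `K`
    have hφs : Function.Surjective ((QuotientGroup.mk' N).comp M.subtype) := by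
      intro y
      obtain ⟨g, rfl⟩ := QuotientGroup.mk'_surjective N y
      obtain ⟨n, hn, m, hm, rfl⟩ := hmem g
      refine ⟨⟨m, hm⟩, ?_⟩
      show QuotientGroup.mk' N m = QuotientGroup.mk' N (n * m)
      have hn1 : QuotientGroup.mk' N n = 1 := (QuotientGroup.eq_one_iff n).mpr hn
      rw [map_mul, hn1, one_mul]
    have hCn : ((K.map ((QuotientGroup.mk' N).comp M.subtype)).comap (QuotientGroup.mk' N)).Normal :=
      (hKn.map _ hφs).comap _
    have hCeq : (K.map ((QuotientGroup.mk' N).comp M.subtype)).comap (QuotientGroup.mk' N)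
        = N ⊔ K.map M.subtype := by
      rw [← Subgroup.map_map, QuotientGroup.comap_map_mk']
    rw [hCeq] at hCn
    have hK'M : K.map M.subtype ≤ M := Subgroup.map_subtype_le K
    have hcardK' : Nat.card (K.map M.subtype) = Nat.card K :=
      Subgroup.card_map_of_injective M.subtype_injective
    have hNC : N.relIndex (N ⊔ K.map M.subtype) = Nat.card K := by
      rw [Subgroup.relIndex_sup_left, ← Subgroup.inf_relIndex_right,
        (le_bot_iff.mp (hinf ▸ inf_le_inf_left N hK'M) : N ⊓ K.map M.subtype = ⊥),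
        Subgroup.relIndex_bot_left, hcardK']
    have hCidx : (N ⊔ K.map M.subtype).index = p ^ k := by
      have h1 := Subgroup.card_mul_index (N ⊔ K.map M.subtype)
      have h3 := Subgroup.relIndex_mul_relIndex ⊥ N (N ⊔ K.map M.subtype) bot_le le_sup_left
      rw [Subgroup.relIndex_bot_left, Subgroup.relIndex_bot_left, hNC] at h3
      have h4 := Subgroup.card_mul_index N
      have h5 := Subgroup.card_mul_index K
      rw [hNidx] at h4
      rw [← h3, ← h4, ← h5, hk] at h1
      have hpos : 0 < Nat.card N * Nat.card K := Nat.mul_pos Nat.card_pos Nat.card_pos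
      have h6 : Nat.card N * Nat.card K * (N ⊔ K.map M.subtype).index
          = Nat.card N * Nat.card K * p ^ k := by rw [h1, mul_assoc]
      exact Nat.eq_of_mul_eq_mul_left hpos h6
    refine ⟨⊥, N, N ⊔ K.map M.subtype, ⊤, inferInstance, hNn, hCn, inferInstance, bot_le,
      le_sup_left, le_top, ?_, ⟨a, ?_⟩, ?_, ⟨k, ?_⟩, ?_, fun _ => rfl⟩
    · rw [Subgroup.card_bot]; exact hp.out.not_dvd_one
    · rw [Subgroup.relIndex_bot_left, ha]
    · rw [hNC]; exact hKp
    · rw [Subgroup.relIndex_top_right, hCidx]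
    · rw [Subgroup.index_top]; exact hp.out.not_dvd_one
  · -- `M` has prime index, so `|N| = p`
    have hMidx : M.index = Nat.card N := by
      have h4 := Subgroup.card_mul_index N
      have h5 := Subgroup.card_mul_index M
      rw [hNidx, ← h5] at h4
      have hpos : 0 < Nat.card M := Nat.card_pos
      have h6 : Nat.card M * M.index = Nat.card M * Nat.card N := by rw [← h4, mul_comm]
      exact Nat.eq_of_mul_eq_mul_left hpos h6
    rw [hMidx] at hprime
    have hNcard : Nat.card N = p :=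
      ((Nat.prime_dvd_prime_iff_eq hp.out hprime).mp (hR N hNn hNne)).symm
    have hZ : ∀ g : G, g ^ (p - 1) ∈ Subgroup.centralizer (N : Set G) :=
      fun g => pow_pred_mem_centralizer p N hNcard g
    have hZi : ¬ p ∣ (Subgroup.centralizer (N : Set G)).index := by
      intro hdvd
      rw [Subgroup.index_eq_card] at hdvd
      obtain ⟨y, hy⟩ := exists_prime_orderOf_dvd_card' p hdvd
      obtain ⟨g, rfl⟩ := QuotientGroup.mk'_surjective _ y
      have h1 : (QuotientGroup.mk' (Subgroup.centralizer (N : Set G)) g) ^ (p - 1) = 1 := by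
        rw [← map_pow]
        exact (QuotientGroup.eq_one_iff _).mpr (hZ g)
      have h3 := orderOf_dvd_of_pow_eq_one h1
      rw [hy] at h3
      have h4 := Nat.le_of_dvd (Nat.sub_pos_of_lt hp.out.one_lt) h3
      have := hp.out.one_lt
      omega
    have hNZ : N ≤ Subgroup.centralizer (N : Set G) := by
      intro x hx
      rw [Subgroup.mem_centralizer_iff]
      intro y hy
      exact hNab y hy x hx
    have hM0n : (M ⊓ Subgroup.centralizer (N : Set G)).Normal := by
      constructor
      intro x hx g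
      obtain ⟨n, hn, m, hm, rfl⟩ := hmem g
      have h1 : m * x * m⁻¹ ∈ M ⊓ Subgroup.centralizer (N : Set G) :=
        ⟨M.mul_mem (M.mul_mem hm hx.1) (M.inv_mem hm),
          (inferInstance : (Subgroup.centralizer (N : Set G)).Normal).conj_mem x hx.2 m⟩
      have h2 : n * m * x * (n * m)⁻¹ = m * x * m⁻¹ := by
        have hc := (Subgroup.mem_centralizer_iff.mp h1.2) n hn
        calc n * m * x * (n * m)⁻¹ = n * (m * x * m⁻¹) * n⁻¹ := by group
          _ = (m * x * m⁻¹) * n * n⁻¹ := by rw [hc]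
          _ = m * x * m⁻¹ := by group
      rw [h2]; exact h1
    have hAn : (A' ⊓ (M ⊓ Subgroup.centralizer (N : Set G))).Normal :=
      Subgroup.normal_inf_normal _ _
    have hBn : (B' ⊓ Subgroup.centralizer (N : Set G)).Normal := Subgroup.normal_inf_normal _ _
    have hCn : (C' ⊓ Subgroup.centralizer (N : Set G)).Normal := Subgroup.normal_inf_normal _ _
    have hDn : (D' ⊓ Subgroup.centralizer (N : Set G)).Normal := Subgroup.normal_inf_normal _ _
    have hA'Zn : (A' ⊓ Subgroup.centralizer (N : Set G)).Normal := Subgroup.normal_inf_normal _ _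
    -- `A' ∩ Z ≤ N (A' ∩ M ∩ Z)`
    have hded : A' ⊓ Subgroup.centralizer (N : Set G)
        ≤ N ⊔ (A' ⊓ (M ⊓ Subgroup.centralizer (N : Set G))) := by
      intro x hx
      obtain ⟨n, hn, m, hm, rfl⟩ := hmem x
      have hmA : m ∈ A' := by
        have : m = n⁻¹ * (n * m) := by group
        rw [this]; exact A'.mul_mem (A'.inv_mem (hNA hn)) hx.1
      have hmZ : m ∈ Subgroup.centralizer (N : Set G) := by
        have : m = n⁻¹ * (n * m) := by group
        rw [this]; exact Subgroup.mul_mem _ (Subgroup.inv_mem _ (hNZ hn)) hx.2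
      exact Subgroup.mul_mem_sup hn ⟨hmA, hm, hmZ⟩
    have hAbot : N ⊓ (A' ⊓ (M ⊓ Subgroup.centralizer (N : Set G))) = ⊥ := by
      apply le_bot_iff.mp
      rw [← hinf]
      exact inf_le_inf_left N (inf_le_right.trans inf_le_left)
    refine ⟨A' ⊓ (M ⊓ Subgroup.centralizer (N : Set G)), B' ⊓ Subgroup.centralizer (N : Set G),
      C' ⊓ Subgroup.centralizer (N : Set G), D' ⊓ Subgroup.centralizer (N : Set G),
      hAn, hBn, hCn, hDn, inf_le_inf hAB inf_le_right, inf_le_inf_right _ hBC,
      inf_le_inf_right _ hCD, ?_, ?_, ?_, ?_, ?_, ?_⟩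
    · -- `p ∤ |A|`
      intro hdvd
      have h1 : Nat.card ↥(A' ⊓ (M ⊓ Subgroup.centralizer (N : Set G)))
          = N.relIndex (A' ⊓ (M ⊓ Subgroup.centralizer (N : Set G))) := by
        rw [← Subgroup.inf_relIndex_right, hAbot, Subgroup.relIndex_bot_left]
      rw [h1] at hdvd
      exact hpA (hdvd.trans (relIndex_dvd_relIndex_of_normal N inf_le_left))
    · -- `|B : A|` is a power of `p`
      have hle1 : A' ⊓ (M ⊓ Subgroup.centralizer (N : Set G))
          ≤ A' ⊓ Subgroup.centralizer (N : Set G) := inf_le_inf_left _ inf_le_right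
      have hle2 : A' ⊓ Subgroup.centralizer (N : Set G)
          ≤ B' ⊓ Subgroup.centralizer (N : Set G) := inf_le_inf_right _ hAB
      have h1 := Subgroup.relIndex_mul_relIndex _ _ _ hle1 hle2
      have h2 : (A' ⊓ Subgroup.centralizer (N : Set G)).relIndex
          (B' ⊓ Subgroup.centralizer (N : Set G)) ∣ p ^ k1 := by
        rw [← hk1]; exact inf_relIndex_inf_dvd A' B' _
      have h3 : (A' ⊓ (M ⊓ Subgroup.centralizer (N : Set G))).relIndex
          (A' ⊓ Subgroup.centralizer (N : Set G)) ∣ p ^ 1 := by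
        have h4 := relIndex_dvd_relIndex_of_normal
          (A' ⊓ (M ⊓ Subgroup.centralizer (N : Set G))) hded
        rw [sup_comm, Subgroup.relIndex_sup_left] at h4
        rw [pow_one, ← hNcard]
        exact h4.trans (Subgroup.relIndex_dvd_card _ _)
      have h5 : (A' ⊓ (M ⊓ Subgroup.centralizer (N : Set G))).relIndex
          (B' ⊓ Subgroup.centralizer (N : Set G)) ∣ p ^ (1 + k1) := by
        rw [← h1, pow_add]; exact Nat.mul_dvd_mul h3 h2
      obtain ⟨j, -, hj⟩ := (Nat.dvd_prime_pow hp.out).mp h5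
      exact ⟨j, hj⟩
    · intro hdvd
      exact hBC' (hdvd.trans (inf_relIndex_inf_dvd B' C' _))
    · have h2 : (C' ⊓ Subgroup.centralizer (N : Set G)).relIndex
          (D' ⊓ Subgroup.centralizer (N : Set G)) ∣ p ^ k2 := by
        rw [← hk2]; exact inf_relIndex_inf_dvd C' D' _
      obtain ⟨j, -, hj⟩ := (Nat.dvd_prime_pow hp.out).mp h2
      exact ⟨j, hj⟩
    · intro hdvd
      rw [← Subgroup.relIndex_mul_index (inf_le_left : D' ⊓ Subgroup.centralizer (N : Set G) ≤ D'),
        inf_comm, Subgroup.inf_relIndex_right] at hdvd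
      rcases (Nat.Prime.dvd_mul hp.out).mp hdvd with h | h
      · exact hZi (h.trans (Subgroup.relIndex_dvd_index_of_normal _ _))
      · exact hDi h
    · intro hp2
      have hZtop : Subgroup.centralizer (N : Set G) = ⊤ := by
        rw [eq_top_iff]
        intro g _
        have := hZ g
        rw [hp2] at this
        simpa using this
      rw [h2 hp2, hZtop, inf_top_eq]

end Cfsg.Agent.Lib.helper76
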