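import Mathlib

/-! S5238R piece FC (racer copy by helper76): `h76_pearl_x_nonab` is the Skel statement of
`pearl_x_nonab`. -/

set_option autoImplicit false

namespace Cfsg.Agent.Lib.helper88.PearlF

/-- a group of order `p ^ k` with `k ≤ 2` is commutative -/
theorem h76_comm_of_card_pow_le_two {H : Type*} [Group H] (p : ℕ) [Fact p.Prime] (k : ℕ)
    (hk : k ≤ 2) (hH : Nat.card H = p ^ k) (x y : H) : x * y = y * x := by
  interval_cases k
  · rw [pow_zero, Nat.card_eq_one_iff_unique] at hH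
    have := hH.1
    exact Subsingleton.elim _ _
  · rw [pow_one] at hH
    have : IsCyclic H := isCyclic_of_prime_card hH
    obtain ⟨g, hg⟩ := IsCyclic.exists_generator (α := H)
    obtain ⟨i, rfl⟩ := Subgroup.mem_zpowers_iff.mp (hg x)
    obtain ⟨j, rfl⟩ := Subgroup.mem_zpowers_iff.mp (hg y)
    rw [← zpow_add, ← zpow_add, add_comm]
  · exact IsPGroup.commutative_of_card_eq_prime_sq hH x y

/-- subgroup orders in a group of order `p ^ n` -/
theorem h76_card_pow {G : Type*} [Group G] [Finite G] (p : ℕ) [Fact p.Prime] (n : ℕ)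
    (hG : Nat.card G = p ^ n) (H : Subgroup G) : ∃ i, Nat.card H = p ^ i := by
  have hp : p.Prime := Fact.out
  have h1 : Nat.card H ∣ p ^ n := hG ▸ Subgroup.card_subgroup_dvd_card H
  obtain ⟨i, -, hi⟩ := (Nat.dvd_prime_pow hp).mp h1
  exact ⟨i, hi⟩

/-- a strict inclusion multiplies the order by at least `p` -/
theorem h76_card_lt {G : Type*} [Group G] [Finite G] (p : ℕ) [Fact p.Prime] (n : ℕ)
    (hG : Nat.card G = p ^ n) (H K : Subgroup G) (hlt : H < K) :
    p * Nat.card H ≤ Nat.card K := by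
  have hp : p.Prime := Fact.out
  obtain ⟨i, hi⟩ := h76_card_pow p n hG H
  obtain ⟨j, hj⟩ := h76_card_pow p n hG K
  have hdvd : Nat.card H ∣ Nat.card K := Subgroup.card_dvd_of_le hlt.le
  have hne : i ≠ j := by
    rintro rfl
    exact hlt.ne (Subgroup.eq_of_le_of_card_ge hlt.le (by rw [hi, hj]))
  rw [hi, hj] at hdvd ⊢
  have hij : i ≤ j := (Nat.pow_dvd_pow_iff_le_right hp.one_lt).mp hdvd
  calc p * p ^ i = p ^ (i + 1) := by ring
    _ ≤ p ^ j := Nat.pow_le_pow_right hp.pos (by omega)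

/-- a subgroup of order at most `p ^ 2` is commutative -/
theorem h76_comm_small {G : Type*} [Group G] [Finite G] (p : ℕ) [Fact p.Prime] (n : ℕ)
    (hG : Nat.card G = p ^ n) (Y : Subgroup G) (hY : Nat.card Y ≤ p ^ 2) (y1 y2 : G)
    (h1 : y1 ∈ Y) (h2 : y2 ∈ Y) : y1 * y2 = y2 * y1 := by
  have hp : p.Prime := Fact.out
  obtain ⟨i, hi⟩ := h76_card_pow p n hG Y
  have hi2 : i ≤ 2 := by
    rw [hi] at hY
    exact (Nat.pow_le_pow_iff_right hp.one_lt).mp hY
  have h := h76_comm_of_card_pow_le_two p i hi2 hi (⟨y1, h1⟩ : Y) ⟨y2, h2⟩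
  exact congrArg Subtype.val h

/-- an element commuting with two non-commuting elements of `E` (of order `p ^ 3`) centralizes
`E` -/
theorem h76_mem_centralizer_of_comm {G : Type*} [Group G] [Finite G] (p : ℕ) [Fact p.Prime]
    (n : ℕ) (hG : Nat.card G = p ^ n) (E : Subgroup G) (hE : Nat.card E = p ^ 3) (a b : G)
    (ha : a ∈ E) (hb : b ∈ E) (hab : a * b ≠ b * a) (u : G) (hua : u * a = a * u)
    (hub : u * b = b * u) : u ∈ Subgroup.centralizer (E : Set G) := by
  have hp : p.Prime := Fact.out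
  have haY : a ∈ E ⊓ Subgroup.centralizer ({u} : Set G) :=
    ⟨ha, Subgroup.mem_centralizer_iff.mpr (fun h hh => by
      rw [Set.mem_singleton_iff.mp hh]; exact hua)⟩
  have hbY : b ∈ E ⊓ Subgroup.centralizer ({u} : Set G) :=
    ⟨hb, Subgroup.mem_centralizer_iff.mpr (fun h hh => by
      rw [Set.mem_singleton_iff.mp hh]; exact hub)⟩
  have hYE : E ⊓ Subgroup.centralizer ({u} : Set G) = E := by
    by_contra hne
    have hlt : E ⊓ Subgroup.centralizer ({u} : Set G) < E := lt_of_le_of_ne inf_le_left hne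
    have h1 := h76_card_lt p n hG _ _ hlt
    rw [hE] at h1
    have h2 : Nat.card (E ⊓ Subgroup.centralizer ({u} : Set G) : Subgroup G) ≤ p ^ 2 := by
      have h3 : p * Nat.card (E ⊓ Subgroup.centralizer ({u} : Set G) : Subgroup G)
          ≤ p * p ^ 2 := by
        calc _ ≤ p ^ 3 := h1
          _ = p * p ^ 2 := by ring
      exact Nat.le_of_mul_le_mul_left h3 hp.pos
    exact hab (h76_comm_small p n hG _ h2 a b haY hbY)
  rw [Subgroup.mem_centralizer_iff]
  intro e he
  have he' : e ∈ E ⊓ Subgroup.centralizer ({u} : Set G) := by rw [hYE]; exact he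
  exact (Subgroup.mem_centralizer_iff.mp he'.2 u (Set.mem_singleton u)).symm

/-- counting through the commutator map into the centre -/
theorem h76_card_le_comm {G : Type*} [Group G] [Finite G] (V : Subgroup G) (g0 : G)
    (h : ∀ v ∈ V, v * g0 * v⁻¹ * g0⁻¹ ∈ Subgroup.center G) :
    Nat.card V ≤ Nat.card (V ⊓ Subgroup.centralizer ({g0} : Set G) : Subgroup G) *
      Nat.card (Subgroup.center G) := by
  let f : ↥V →* ↥(Subgroup.center G) := MonoidHom.mk'
    (fun v => ⟨(v : G) * g0 * (v : G)⁻¹ * g0⁻¹, h v v.2⟩) (by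
      intro v1 v2
      apply Subtype.ext
      have hz : ∀ g : G, g * ((v2 : G) * g0 * (v2 : G)⁻¹ * g0⁻¹) =
          ((v2 : G) * g0 * (v2 : G)⁻¹ * g0⁻¹) * g := Subgroup.mem_center_iff.mp (h v2 v2.2)
      show ((v1 : G) * (v2 : G)) * g0 * ((v1 : G) * (v2 : G))⁻¹ * g0⁻¹ =
        ((v1 : G) * g0 * (v1 : G)⁻¹ * g0⁻¹) * ((v2 : G) * g0 * (v2 : G)⁻¹ * g0⁻¹)
      calc ((v1 : G) * (v2 : G)) * g0 * ((v1 : G) * (v2 : G))⁻¹ * g0⁻¹
          = (v1 : G) * ((v2 : G) * g0 * (v2 : G)⁻¹ * g0⁻¹) * (g0 * (v1 : G)⁻¹ * g0⁻¹) := by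
            group
        _ = ((v2 : G) * g0 * (v2 : G)⁻¹ * g0⁻¹) * (v1 : G) * (g0 * (v1 : G)⁻¹ * g0⁻¹) := by
            rw [hz (v1 : G)]
        _ = ((v2 : G) * g0 * (v2 : G)⁻¹ * g0⁻¹) * ((v1 : G) * g0 * (v1 : G)⁻¹ * g0⁻¹) := by
            group
        _ = ((v1 : G) * g0 * (v1 : G)⁻¹ * g0⁻¹) * ((v2 : G) * g0 * (v2 : G)⁻¹ * g0⁻¹) :=
            (hz _).symm)
  have h1 : Nat.card f.ker * f.ker.index = Nat.card V := Subgroup.card_mul_index f.ker
  have h2 : f.ker.index ≤ Nat.card (Subgroup.center G) := by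
    rw [Subgroup.index_ker]
    exact Subgroup.card_le_card_group f.range
  have h3 : Nat.card f.ker ≤
      Nat.card (V ⊓ Subgroup.centralizer ({g0} : Set G) : Subgroup G) := by
    have hmem : ∀ y : f.ker, ((y : V) : G) ∈ V ⊓ Subgroup.centralizer ({g0} : Set G) := by
      intro y
      refine Subgroup.mem_inf.mpr ⟨(y : V).2, ?_⟩
      rw [Subgroup.mem_centralizer_iff]
      intro hh hhh
      rw [Set.mem_singleton_iff.mp hhh]
      have hy : f (y : V) = 1 := MonoidHom.mem_ker.mp y.2
      have hy' : ((y : V) : G) * g0 * ((y : V) : G)⁻¹ * g0⁻¹ = 1 := congrArg Subtype.val hy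
      calc g0 * ((y : V) : G)
          = (((y : V) : G) * g0 * ((y : V) : G)⁻¹ * g0⁻¹)⁻¹ * (((y : V) : G) * g0) := by group
        _ = ((y : V) : G) * g0 := by rw [hy', inv_one, one_mul]
    refine Nat.card_le_card_of_injective
      (fun y => (⟨((y : V) : G), hmem y⟩ : ↥(V ⊓ Subgroup.centralizer ({g0} : Set G)))) ?_
    intro y1 y2 hy
    apply Subtype.ext
    apply Subtype.ext
    exact congrArg (fun t : ↥(V ⊓ Subgroup.centralizer ({g0} : Set G)) => (t : G)) hy
  calc Nat.card V = Nat.card f.ker * f.ker.index := h1.symm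
    _ ≤ _ := Nat.mul_le_mul h3 h2

/-- commutators of `E` (of order `p ^ 3`) lie in the centre of `G` when it has order `p` and
lies in `E` -/
theorem h76_comm_mem_center {G : Type*} [Group G] [Finite G] (p : ℕ) [Fact p.Prime]
    (E : Subgroup G) (hE : Nat.card E = p ^ 3) (hZE : Subgroup.center G ≤ E)
    (hZ : Nat.card (Subgroup.center G) = p) (e1 e2 : G) (h1 : e1 ∈ E) (h2 : e2 ∈ E) :
    e1 * e2 * e1⁻¹ * e2⁻¹ ∈ Subgroup.center G := by
  have hp : p.Prime := Fact.out
  have hNc : Nat.card ((Subgroup.center G).subgroupOf E) = p := by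
    rw [← hZ]
    exact Nat.card_congr (Subgroup.subgroupOfEquivOfLe hZE).toEquiv
  have hQ : Nat.card (↥E ⧸ (Subgroup.center G).subgroupOf E) = p ^ 2 := by
    have h3 := Subgroup.card_eq_card_quotient_mul_card_subgroup ((Subgroup.center G).subgroupOf E)
    rw [hE, hNc] at h3
    have h4 : Nat.card (↥E ⧸ (Subgroup.center G).subgroupOf E) * p = p ^ 2 * p := by
      rw [← h3]; ring
    exact Nat.eq_of_mul_eq_mul_right hp.pos h4
  have hcomm := IsPGroup.commutative_of_card_eq_prime_sq hQ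
  have hmem : ((⟨e1, h1⟩ : ↥E) * ⟨e2, h2⟩ * (⟨e1, h1⟩ : ↥E)⁻¹ * (⟨e2, h2⟩ : ↥E)⁻¹) ∈
      (Subgroup.center G).subgroupOf E := by
    rw [← QuotientGroup.eq_one_iff]
    simp only [QuotientGroup.mk_mul, QuotientGroup.mk_inv]
    rw [hcomm (QuotientGroup.mk ⟨e1, h1⟩) (QuotientGroup.mk ⟨e2, h2⟩)]
    group
  exact hmem

/-- elements acting trivially on `E` modulo the centre of `G` -/
def h76_pearlV {G : Type*} [Group G] (E : Subgroup G) : Subgroup G where
  carrier := {v | ∀ e ∈ E, v * e * v⁻¹ * e⁻¹ ∈ Subgroup.center G}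
  mul_mem' := by
    intro v1 v2 h1 h2 e he
    have e1 : v1 * v2 * e * (v1 * v2)⁻¹ * e⁻¹ =
        (v1 * (v2 * e * v2⁻¹ * e⁻¹) * v1⁻¹) * (v1 * e * v1⁻¹ * e⁻¹) := by group
    rw [e1]
    exact Subgroup.mul_mem _
      ((inferInstance : (Subgroup.center G).Normal).conj_mem _ (h2 e he) v1) (h1 e he)
  one_mem' := by
    intro e he
    simp
  inv_mem' := by
    intro v h e he
    have e1 : v⁻¹ * e * v⁻¹⁻¹ * e⁻¹ = v⁻¹ * (v * e * v⁻¹ * e⁻¹)⁻¹ * v⁻¹⁻¹ := by group
    rw [e1]
    exact (inferInstance : (Subgroup.center G).Normal).conj_mem _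
      (Subgroup.inv_mem _ (h e he)) v⁻¹

theorem h76_mem_pearlV {G : Type*} [Group G] (E : Subgroup G) (v : G) :
    v ∈ h76_pearlV E ↔ ∀ e ∈ E, v * e * v⁻¹ * e⁻¹ ∈ Subgroup.center G := Iff.rfl

/-- FC (racer copy of `pearl_x_nonab`, verbatim Skel statement). -/
theorem h76_pearl_x_nonab {G : Type*} [Group G] [Finite G] (p : ℕ) [Fact p.Prime] (n : ℕ)
    (hG : Nat.card G = p ^ n) (E : Subgroup G) (hE : Nat.card E = p ^ 3)
    (hna : ¬ IsMulCommutative E) (hexp : ∀ x ∈ E, x ^ p = 1)
    (hC : Subgroup.centralizer (E : Set G) ≤ E) :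
    ∃ x : G, x ^ p = 1 ∧ Nat.card (Subgroup.centralizer ({x} : Set G)) = p ^ 2 := by
  have hp : p.Prime := Fact.out
  have hpG : IsPGroup p G := IsPGroup.of_card hG
  obtain ⟨a, ha, b, hb, hab⟩ : ∃ a ∈ E, ∃ b ∈ E, a * b ≠ b * a := by
    by_contra h
    push Not at h
    exact hna ⟨⟨fun x y => Subtype.ext (h x.1 x.2 y.1 y.2)⟩⟩
  haveI : Nontrivial G := ⟨⟨a * b, b * a, hab⟩⟩
  have hZE : Subgroup.center G ≤ E := fun z hz => hC (Subgroup.center_le_centralizer _ hz)
  have haK : a ∉ Subgroup.centralizer (E : Set G) := fun h =>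
    hab ((Subgroup.mem_centralizer_iff.mp h b hb).symm)
  have hKlt : Subgroup.centralizer (E : Set G) < E ⊓ Subgroup.centralizer ({a} : Set G) := by
    refine lt_of_le_of_ne
      (le_inf hC (Subgroup.centralizer_le (Set.singleton_subset_iff.mpr ha))) ?_
    intro heq
    apply haK
    rw [heq]
    exact ⟨ha, Subgroup.mem_centralizer_iff.mpr (fun h hh => by
      rw [Set.mem_singleton_iff.mp hh])⟩
  have hCalt : E ⊓ Subgroup.centralizer ({a} : Set G) < E := by
    refine lt_of_le_of_ne inf_le_left ?_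
    intro heq
    have hb' : b ∈ E ⊓ Subgroup.centralizer ({a} : Set G) := by rw [heq]; exact hb
    exact hab (Subgroup.mem_centralizer_iff.mp hb'.2 a (Set.mem_singleton a))
  have hK : Nat.card (Subgroup.centralizer (E : Set G)) ≤ p := by
    have h1 := h76_card_lt p n hG _ _ hKlt
    have h2 := h76_card_lt p n hG _ _ hCalt
    rw [hE] at h2
    have h3 : p * p * Nat.card (Subgroup.centralizer (E : Set G)) ≤ p * p * p := by
      calc p * p * Nat.card (Subgroup.centralizer (E : Set G))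
          = p * (p * Nat.card (Subgroup.centralizer (E : Set G))) := by ring
        _ ≤ p * Nat.card (E ⊓ Subgroup.centralizer ({a} : Set G) : Subgroup G) :=
            Nat.mul_le_mul_left p h1
        _ ≤ p ^ 3 := h2
        _ = p * p * p := by ring
    exact Nat.le_of_mul_le_mul_left h3 (Nat.mul_pos hp.pos hp.pos)
  have hZK : Subgroup.center G ≤ Subgroup.centralizer (E : Set G) :=
    Subgroup.center_le_centralizer _
  have hZ : Nat.card (Subgroup.center G) = p := by
    have h1 : Nat.card (Subgroup.center G) ≤ p := (Subgroup.card_le_of_le hZK).trans hK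
    obtain ⟨i, hi⟩ := h76_card_pow p n hG (Subgroup.center G)
    have hnt : Nontrivial (Subgroup.center G) := hpG.center_nontrivial
    have h2 : 1 < Nat.card (Subgroup.center G) := Finite.one_lt_card_iff_nontrivial.mpr hnt
    rw [hi] at h1 h2 ⊢
    have hi0 : i ≠ 0 := by
      rintro rfl
      simp at h2
    have hi1 : i ≤ 1 := by
      by_contra hcon
      have h4 : p ^ 2 ≤ p ^ i := Nat.pow_le_pow_right hp.pos (by omega)
      have h5 : p * p ≤ p := by
        calc p * p = p ^ 2 := by ring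
          _ ≤ p ^ i := h4
          _ ≤ p := h1
      nlinarith [hp.one_lt]
    have hi' : i = 1 := by omega
    rw [hi', pow_one]
  have hKZ : Subgroup.centralizer (E : Set G) = Subgroup.center G :=
    (Subgroup.eq_of_le_of_card_ge hZK (by rw [hZ]; exact hK)).symm
  -- an element of the second centre outside the centre
  obtain ⟨w, hwZ, hw⟩ : ∃ w : G, w ∉ Subgroup.center G ∧
      ∀ g : G, g * w * g⁻¹ * w⁻¹ ∈ Subgroup.center G := by
    have hZtop : Subgroup.center G ≠ ⊤ := by
      intro htop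
      have haZ : a ∈ Subgroup.center G := by rw [htop]; exact Subgroup.mem_top a
      exact hab ((Subgroup.mem_center_iff.mp haZ b).symm)
    haveI : Nontrivial (G ⧸ Subgroup.center G) := by
      have h1 : (Subgroup.center G).index ≠ 1 := fun h => hZtop (Subgroup.index_eq_one.mp h)
      have h2 : (Subgroup.center G).index ≠ 0 := Subgroup.index_ne_zero_of_finite
      have h3 : 1 < (Subgroup.center G).index := by omega
      rw [Subgroup.index_eq_card] at h3
      exact Finite.one_lt_card_iff_nontrivial.mp h3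
    have hpQ : IsPGroup p (G ⧸ Subgroup.center G) := hpG.to_quotient _
    haveI : Nontrivial (Subgroup.center (G ⧸ Subgroup.center G)) := hpQ.center_nontrivial
    obtain ⟨q, hq1⟩ := exists_ne (1 : ↥(Subgroup.center (G ⧸ Subgroup.center G)))
    obtain ⟨w, hwq⟩ := QuotientGroup.mk_surjective (q : G ⧸ Subgroup.center G)
    refine ⟨w, ?_, ?_⟩
    · intro hwc
      apply hq1
      apply Subtype.ext
      rw [← hwq]
      exact (QuotientGroup.eq_one_iff w).mpr hwc
    · intro g
      rw [← QuotientGroup.eq_one_iff]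
      simp only [QuotientGroup.mk_mul, QuotientGroup.mk_inv]
      rw [hwq]
      have hc := Subgroup.mem_center_iff.mp q.2 (g : G ⧸ Subgroup.center G)
      rw [hc]
      group
  -- the second centre lies in `E`
  have hEV : E ≤ h76_pearlV E := fun e1 h1 =>
    (h76_mem_pearlV E e1).mpr (fun e2 h2 => h76_comm_mem_center p E hE hZE hZ e1 e2 h1 h2)
  have hwV : w ∈ h76_pearlV E := by
    rw [h76_mem_pearlV]
    intro e he
    have h1 := Subgroup.inv_mem _ (hw e)
    have e1 : (e * w * e⁻¹ * w⁻¹)⁻¹ = w * e * w⁻¹ * e⁻¹ := by group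
    rw [e1] at h1
    exact h1
  have hVcard : Nat.card (h76_pearlV E) ≤ p ^ 3 := by
    have h1 := h76_card_le_comm (h76_pearlV E) a
      (fun v hv => (h76_mem_pearlV E v).mp hv a ha)
    have h2 := h76_card_le_comm (h76_pearlV E ⊓ Subgroup.centralizer ({a} : Set G)) b
      (fun v hv => (h76_mem_pearlV E v).mp hv.1 b hb)
    have h3 : (h76_pearlV E ⊓ Subgroup.centralizer ({a} : Set G)) ⊓
        Subgroup.centralizer ({b} : Set G) ≤ Subgroup.centralizer (E : Set G) := by
      intro u hu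
      have hua : u * a = a * u :=
        (Subgroup.mem_centralizer_iff.mp hu.1.2 a (Set.mem_singleton a)).symm
      have hub : u * b = b * u :=
        (Subgroup.mem_centralizer_iff.mp hu.2 b (Set.mem_singleton b)).symm
      exact h76_mem_centralizer_of_comm p n hG E hE a b ha hb hab u hua hub
    have h4 := (Subgroup.card_le_of_le h3).trans hK
    rw [hZ] at h1 h2
    calc Nat.card (h76_pearlV E)
        ≤ Nat.card (h76_pearlV E ⊓ Subgroup.centralizer ({a} : Set G) : Subgroup G) * p := h1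
      _ ≤ (Nat.card ((h76_pearlV E ⊓ Subgroup.centralizer ({a} : Set G)) ⊓
            Subgroup.centralizer ({b} : Set G) : Subgroup G) * p) * p :=
          Nat.mul_le_mul_right p h2
      _ ≤ (p * p) * p := Nat.mul_le_mul_right p (Nat.mul_le_mul_right p h4)
      _ = p ^ 3 := by ring
  have hVE : E = h76_pearlV E := Subgroup.eq_of_le_of_card_ge hEV (by rw [hE]; exact hVcard)
  have hwE : w ∈ E := by rw [hVE]; exact hwV
  have hwK : w ∉ Subgroup.centralizer (E : Set G) := by rw [hKZ]; exact hwZ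
  obtain ⟨x, hxE, hxw⟩ : ∃ x ∈ E, x * w ≠ w * x := by
    by_contra h
    push Not at h
    exact hwK (Subgroup.mem_centralizer_iff.mpr h)
  refine ⟨x, hexp x hxE, ?_⟩
  have hup : Nat.card (Subgroup.centralizer ({x} : Set G)) ≤ p ^ 2 := by
    have h1 := h76_card_le_comm (Subgroup.centralizer ({x} : Set G)) w (fun v _ => hw v)
    have h3 : Subgroup.centralizer ({x} : Set G) ⊓ Subgroup.centralizer ({w} : Set G) ≤
        Subgroup.centralizer (E : Set G) := by
      intro u hu
      have hux : u * x = x * u :=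
        (Subgroup.mem_centralizer_iff.mp hu.1 x (Set.mem_singleton x)).symm
      have huw : u * w = w * u :=
        (Subgroup.mem_centralizer_iff.mp hu.2 w (Set.mem_singleton w)).symm
      exact h76_mem_centralizer_of_comm p n hG E hE x w hxE hwE hxw u hux huw
    have h4 := (Subgroup.card_le_of_le h3).trans hK
    rw [hZ] at h1
    calc Nat.card (Subgroup.centralizer ({x} : Set G))
        ≤ Nat.card (Subgroup.centralizer ({x} : Set G) ⊓
            Subgroup.centralizer ({w} : Set G) : Subgroup G) * p := h1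
      _ ≤ p * p := Nat.mul_le_mul_right p h4
      _ = p ^ 2 := by ring
  have hlow : p ^ 2 ≤ Nat.card (Subgroup.centralizer ({x} : Set G)) := by
    have hlt : Subgroup.center G < Subgroup.centralizer ({x} : Set G) := by
      refine lt_of_le_of_ne (Subgroup.center_le_centralizer _) ?_
      intro heq
      have hx : x ∈ Subgroup.center G := by
        rw [heq]
        exact Subgroup.mem_centralizer_iff.mpr (fun h hh => by
          rw [Set.mem_singleton_iff.mp hh])
      exact hxw ((Subgroup.mem_center_iff.mp hx w).symm)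
    have h5 := h76_card_lt p n hG _ _ hlt
    rw [hZ] at h5
    calc p ^ 2 = p * p := by ring
      _ ≤ _ := h5
  exact le_antisymm hup hlow

end Cfsg.Agent.Lib.helper88.PearlF
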