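import Mathlib
import Cfsg.Agent.Lib.helper65.PearlBasic

/-! S5238L piece I3 (racer copy by helper76): `h76_rel_ph_mul_const` is the Skel statement of
`rel_ph_mul_const`. -/

set_option autoImplicit false

namespace Cfsg.Agent.Lib.helper65.PearlPow

open Cfsg.Agent.Lib.helper68

variable {H : Type*} [Group H]

/-- I3 (racer copy of `rel_ph_mul_const`, verbatim Skel statement). -/
theorem h76_rel_ph_mul_const {v j : ℕ} (x : H) {s : ℕ → H} {y : H} (hs : PolySeq v s)
    (hy : y ∈ gam H j) :
    Rel (v + 1 + j) (fun n => ph x s n * com y x) (ph x (fun n => s n * y)) := by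
  unfold Rel
  have e : (fun n : ℕ => (ph x s n * com y x)⁻¹ * ph x (fun n => s n * y) n)
      = fun n => (com y x)⁻¹ * com (ph x s n) y * com y x := by
    funext n
    unfold ph com
    group
  rw [e]
  have h1 : PolySeq (v + 1 + j) (fun n => com (ph x s n) y) :=
    PolySeq.comm (polyseq_ph x hs) (polyseq_const hy)
  have hc : com y x ∈ gam H 1 := by
    unfold gam
    simp
  have h2 : PolySeq 1 (fun _ : ℕ => com y x) := polyseq_const hc
  exact polyseq_conj (e := fun n => com (ph x s n) y) (s := fun _ : ℕ => com y x) h1 h2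

end Cfsg.Agent.Lib.helper65.PearlPow
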