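import Mathlib
import Cfsg.Prelude.Def_Solvable
import Cfsg.Agent.Lib.helper76.KazGroup

set_option autoImplicit false

/-!
# Classes of prime power size (helper76 library)

If the conjugacy class of `x` has `p`-power size, then the normal closure of `x` is abelian
modulo `O_p(G)`; in particular commutators of conjugates of `x` lie in `O_p(G)`.
-/

namespace Cfsg.Agent.Lib.helper76

universe u

section PCoreBasics

variable {G : Type*} [Group G]

theorem pc_pCore_normal (p : ℕ) : (Cfsg.pCore p G).Normal :=
  Subgroup.sSup_normal _ (fun _ h => h.1)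

theorem pc_pCore_isPGroup (p : ℕ) : IsPGroup p (Cfsg.pCore p G) :=
  Sylow.sSup_of_normal _ (fun _ h => h.2) (fun _ h => h.1)

theorem pc_le_pCore {p : ℕ} {N : Subgroup G} (hn : N.Normal) (hp : IsPGroup p N) :
    N ≤ Cfsg.pCore p G :=
  le_sSup ⟨hn, hp⟩

/-- `O_p(G / O_p(G)) = 1`. -/
theorem pc_pCore_quotient_eq_bot (p : ℕ) [Fact p.Prime] :
    haveI := pc_pCore_normal (G := G) p
    Cfsg.pCore p (G ⧸ Cfsg.pCore p G) = ⊥ := by
  haveI := pc_pCore_normal (G := G) p
  rw [eq_bot_iff]
  refine sSup_le ?_
  rintro Q ⟨hQn, hQp⟩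
  have h1 : IsPGroup p (Q.comap (QuotientGroup.mk' (Cfsg.pCore p G))) := by
    refine hQp.comap_of_ker_isPGroup _ ?_
    rw [QuotientGroup.ker_mk']
    exact pc_pCore_isPGroup p
  have h2 : Q.comap (QuotientGroup.mk' (Cfsg.pCore p G)) ≤ Cfsg.pCore p G :=
    pc_le_pCore (hQn.comap _) h1
  intro q hq
  obtain ⟨g, rfl⟩ := QuotientGroup.mk'_surjective (Cfsg.pCore p G) q
  have h3 : g ∈ Cfsg.pCore p G := h2 hq
  rw [Subgroup.mem_bot]
  exact (QuotientGroup.eq_one_iff g).mpr h3

end PCoreBasics

section Descent

variable {H : Type u} [Group H] [Finite H]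

/-- A normal subgroup of order prime to `p` is centralized by an element with `p`-power
class size. -/
theorem pc_le_centralizer_of_coprime {p : ℕ} (hp : p.Prime) (y : H) (b : ℕ)
    (hy : (Subgroup.centralizer ({y} : Set H)).index = p ^ b) (M : Subgroup H) [M.Normal]
    (hM : (Nat.card M).Coprime p) : M ≤ Subgroup.centralizer ({y} : Set H) := by
  rw [← Subgroup.relIndex_eq_one]
  have h1 : (Subgroup.centralizer ({y} : Set H)).relIndex M ∣ p ^ b := by
    rw [← hy]
    exact relIndex_dvd_index_of_normal_right _ M
  have h2 : (Subgroup.centralizer ({y} : Set H)).relIndex M ∣ Nat.card M :=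
    Subgroup.relIndex_dvd_card _ _
  have h3 : (Nat.card M).Coprime (p ^ b) := Nat.Coprime.pow_right b hM
  exact Nat.eq_one_of_dvd_coprimes h3 h2 h1

/-- A nilpotent normal subgroup of a group with trivial `p`-core has order prime to `p`. -/
theorem pc_coprime_of_nilpotent {p : ℕ} [Fact p.Prime] (hO : Cfsg.pCore p H = ⊥)
    (M : Subgroup H) [M.Normal] (hM : Group.IsNilpotent ↥M) : (Nat.card M).Coprime p := by
  have hp : p.Prime := Fact.out
  obtain ⟨P⟩ : Nonempty (Sylow p ↥M) := inferInstance
  have hPn : (P : Subgroup ↥M).Normal := by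
    haveI := hM
    infer_instance
  haveI hPc : (P : Subgroup ↥M).Characteristic := Sylow.characteristic_of_normal P hPn
  have hPn' : ((P : Subgroup ↥M).map M.subtype).Normal :=
    ConjAct.normal_of_characteristic_of_normal
  have hPp : IsPGroup p ((P : Subgroup ↥M).map M.subtype) := P.isPGroup'.map _
  have h1 : (P : Subgroup ↥M).map M.subtype ≤ Cfsg.pCore p H := pc_le_pCore hPn' hPp
  rw [hO, le_bot_iff] at h1
  have h2 : (P : Subgroup ↥M) = ⊥ := by
    rw [eq_bot_iff]
    intro z hz
    have : M.subtype z ∈ (P : Subgroup ↥M).map M.subtype := Subgroup.mem_map_of_mem _ hz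
    rw [h1, Subgroup.mem_bot] at this
    rw [Subgroup.mem_bot]
    exact M.subtype_injective (by simpa using this)
  rw [Nat.coprime_comm, Nat.Prime.coprime_iff_not_dvd hp]
  intro hdvd
  exact P.ne_bot_of_dvd_card hdvd h2

/-- In a group with trivial `p`-core, the normal closure of an element with `p`-power class size
centralizes every nilpotent normal subgroup. -/
theorem pc_normalClosure_le_centralizer {p : ℕ} [Fact p.Prime] (hO : Cfsg.pCore p H = ⊥)
    (y : H) (b : ℕ) (hy : (Subgroup.centralizer ({y} : Set H)).index = p ^ b)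
    (M : Subgroup H) [M.Normal] (hM : Group.IsNilpotent ↥M) :
    Subgroup.normalClosure ({y} : Set H) ≤ Subgroup.centralizer (M : Set H) := by
  have hp : p.Prime := Fact.out
  have h1 : M ≤ Subgroup.centralizer ({y} : Set H) :=
    pc_le_centralizer_of_coprime hp y b hy M (pc_coprime_of_nilpotent hO M hM)
  refine Subgroup.normalClosure_le_normal ?_
  intro z hz
  rw [Set.mem_singleton_iff] at hz
  subst hz
  rw [SetLike.mem_coe, Subgroup.mem_centralizer_iff]
  intro m hm
  have := h1 hm
  rw [Subgroup.mem_centralizer_singleton_iff] at this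
  exact this

/-- A normal subgroup whose derived subgroup is central in it is nilpotent. -/
theorem pc_isNilpotent_of_commutator_le (M : Subgroup H)
    (h : ⁅M, M⁆ ≤ Subgroup.centralizer (M : Set H)) : Group.IsNilpotent ↥M := by
  refine Subgroup.isNilpotent_of_ker_le_center (Abelianization.of (G := ↥M)) ?_
  rw [Abelianization.ker_of]
  intro z hz
  rw [Subgroup.mem_center_iff]
  intro w
  have h1 : (z : H) ∈ ⁅M, M⁆ := by
    have h2 : M.subtype z ∈ (commutator ↥M).map M.subtype := Subgroup.mem_map_of_mem _ hz
    rw [commutator_def, Subgroup.map_commutator] at h2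
    have h3 : (⊤ : Subgroup ↥M).map M.subtype = M := by
      rw [← MonoidHom.range_eq_map, Subgroup.range_subtype]
    rw [h3] at h2
    exact h2
  have h4 := h h1
  rw [Subgroup.mem_centralizer_iff] at h4
  have h5 := h4 (w : H) w.2
  exact Subtype.ext h5

/-- The derived series of `N`, as subgroups of the ambient group. -/
def pcDer (N : Subgroup H) : ℕ → Subgroup H
  | 0 => N
  | (i + 1) => ⁅pcDer N i, pcDer N i⁆

theorem pcDer_normal (N : Subgroup H) [hN : N.Normal] (i : ℕ) : (pcDer N i).Normal := by
  induction i with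
  | zero => exact hN
  | succ i ih =>
    haveI := ih
    exact Subgroup.commutator_normal _ _

theorem pcDer_le (N : Subgroup H) [hN : N.Normal] (i : ℕ) : pcDer N i ≤ N := by
  induction i with
  | zero => exact le_rfl
  | succ i ih =>
    have h1 : ⁅pcDer N i, pcDer N i⁆ ≤ ⁅N, N⁆ := Subgroup.commutator_mono ih ih
    have h2 : ⁅N, N⁆ ≤ N := Subgroup.commutator_le_left N N
    exact h1.trans h2

theorem pcDer_eq_map (N : Subgroup H) (i : ℕ) :
    pcDer N i = (derivedSeries ↥N i).map N.subtype := by
  induction i with
  | zero =>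
    rw [derivedSeries_zero, ← MonoidHom.range_eq_map, Subgroup.range_subtype]
    rfl
  | succ i ih =>
    rw [derivedSeries_succ, Subgroup.map_commutator, ← ih]
    rfl

/-- Descent: in a group with trivial `p`-core, the normal closure of an element with `p`-power
class size is abelian. -/
theorem pc_normalClosure_abelian {p : ℕ} [Fact p.Prime] (hO : Cfsg.pCore p H = ⊥)
    (y : H) (b : ℕ) (hy : (Subgroup.centralizer ({y} : Set H)).index = p ^ b) :
    ⁅Subgroup.normalClosure ({y} : Set H), Subgroup.normalClosure ({y} : Set H)⁆ = ⊥ := by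
  have hp : p.Prime := Fact.out
  have hsol : Group.IsSolvable ↥(Subgroup.normalClosure ({y} : Set H)) := kazarin hp y b hy
  obtain ⟨n, hn⟩ := (Group.isSolvable_def _).mp hsol
  have hDn : pcDer (Subgroup.normalClosure ({y} : Set H)) n = ⊥ := by
    rw [pcDer_eq_map, hn, Subgroup.map_bot]
  have key : ∀ i : ℕ, pcDer (Subgroup.normalClosure ({y} : Set H)) (i + 1) = ⊥ →
      pcDer (Subgroup.normalClosure ({y} : Set H)) 1 = ⊥ := by
    intro i
    induction i with
    | zero => exact fun h => h
    | succ i ih =>
      intro h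
      apply ih
      haveI := pcDer_normal (Subgroup.normalClosure ({y} : Set H)) (i + 1)
      haveI := pcDer_normal (Subgroup.normalClosure ({y} : Set H)) i
      -- `D (i+1)` is abelian, hence centralized by `N`
      have h1 : Subgroup.normalClosure ({y} : Set H) ≤
          Subgroup.centralizer (pcDer (Subgroup.normalClosure ({y} : Set H)) (i + 1) : Set H) := by
        refine pc_normalClosure_le_centralizer hO y b hy _ ?_
        refine pc_isNilpotent_of_commutator_le _ ?_
        have : ⁅pcDer (Subgroup.normalClosure ({y} : Set H)) (i + 1),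
            pcDer (Subgroup.normalClosure ({y} : Set H)) (i + 1)⁆ = ⊥ := h
        rw [this]
        exact bot_le
      -- so `D i` is nilpotent of class at most two, hence centralized by `N`
      have h2 : Subgroup.normalClosure ({y} : Set H) ≤
          Subgroup.centralizer (pcDer (Subgroup.normalClosure ({y} : Set H)) i : Set H) := by
        refine pc_normalClosure_le_centralizer hO y b hy _ ?_
        refine pc_isNilpotent_of_commutator_le _ ?_
        have h3 : ⁅pcDer (Subgroup.normalClosure ({y} : Set H)) i,
            pcDer (Subgroup.normalClosure ({y} : Set H)) i⁆ =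
            pcDer (Subgroup.normalClosure ({y} : Set H)) (i + 1) := rfl
        rw [h3]
        intro z hz
        have hzN : z ∈ Subgroup.normalClosure ({y} : Set H) := pcDer_le _ _ hz
        have h4 : pcDer (Subgroup.normalClosure ({y} : Set H)) (i + 1) ≤
            Subgroup.centralizer (Subgroup.normalClosure ({y} : Set H) : Set H) := by
          rw [← Subgroup.commutator_eq_bot_iff_le_centralizer, Subgroup.commutator_comm,
            Subgroup.commutator_eq_bot_iff_le_centralizer]
          exact h1
        exact Subgroup.centralizer_le (pcDer_le _ i) (h4 hz)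
      show ⁅pcDer (Subgroup.normalClosure ({y} : Set H)) i,
            pcDer (Subgroup.normalClosure ({y} : Set H)) i⁆ = ⊥
      rw [Subgroup.commutator_eq_bot_iff_le_centralizer]
      exact (pcDer_le _ i).trans h2
  cases n with
  | zero =>
    have h0 : Subgroup.normalClosure ({y} : Set H) = ⊥ := hDn
    rw [h0]
    exact Subgroup.commutator_bot_left _
  | succ n => exact key n hDn

/-- Conjugates of an element with `p`-power class size commute when `O_p = 1`. -/
theorem pc_conj_commute {p : ℕ} [Fact p.Prime] (hO : Cfsg.pCore p H = ⊥)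
    (y : H) (b : ℕ) (hy : (Subgroup.centralizer ({y} : Set H)).index = p ^ b) (g h : H) :
    Commute (g * y * g⁻¹) (h * y * h⁻¹) := by
  have h1 := pc_normalClosure_abelian hO y b hy
  have hy' : y ∈ Subgroup.normalClosure ({y} : Set H) :=
    Subgroup.subset_normalClosure (Set.mem_singleton y)
  have hg : g * y * g⁻¹ ∈ Subgroup.normalClosure ({y} : Set H) :=
    Subgroup.normalClosure_normal.conj_mem _ hy' g
  have hh : h * y * h⁻¹ ∈ Subgroup.normalClosure ({y} : Set H) :=
    Subgroup.normalClosure_normal.conj_mem _ hy' h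
  have h2 := Subgroup.commutator_mem_commutator hg hh
  rw [h1, Subgroup.mem_bot] at h2
  exact commutatorElement_eq_one_iff_commute.mp h2

end Descent

/-- **Commutators of conjugates of an element of `p`-power class size lie in `O_p(G)`.** -/
theorem pc_commutator_mem_pCore {G : Type u} [Group G] [Finite G] (p : ℕ) [Fact p.Prime]
    (x : G) (a : ℕ) (hx : (Subgroup.centralizer ({x} : Set G)).index = p ^ a) (g h : G) :
    (g * x * g⁻¹) * (h * x * h⁻¹) * (g * x * g⁻¹)⁻¹ * (h * x * h⁻¹)⁻¹ ∈ Cfsg.pCore p G := by
  have hp : p.Prime := Fact.out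
  haveI := pc_pCore_normal (G := G) p
  have hO := pc_pCore_quotient_eq_bot (G := G) p
  have hdvd := index_centralizer_mk_dvd (Cfsg.pCore p G) x
  rw [hx] at hdvd
  obtain ⟨b, -, hb⟩ := (Nat.dvd_prime_pow hp).mp hdvd
  have hc := pc_conj_commute hO (x : G ⧸ Cfsg.pCore p G) b hb
    (g : G ⧸ Cfsg.pCore p G) (h : G ⧸ Cfsg.pCore p G)
  rw [← QuotientGroup.eq_one_iff]
  simp only [QuotientGroup.mk_mul, QuotientGroup.mk_inv]
  have hc' := hc.eq
  rw [mul_inv_eq_one, mul_inv_eq_iff_eq_mul]
  exact hc'

end Cfsg.Agent.Lib.helper76
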