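import Mathlib
import Cfsg.Prelude.Def_GeometricClasses
import Cfsg.Agent.Lib.helper24.SfoDefs

/-!
# S5977 / S5978 sub-split s5977u, piece SUMD (racing copy):
`N_1(<1,..,1,c>) + N_1(<1,..,1,c'>) = 2 q^m` when `c / c'` is a nonsquare
-/

set_option autoImplicit false

namespace Cfsg.Agent.Lib.helper2

open Cfsg.Geo Matrix Cfsg.Agent.Lib.helper24

/-- for `c / c'` a nonsquare, `c y² = a` and `c' y² = a` have two solutions altogether -/
theorem h76_qfu_sqrt_pair {E : Type*} [Field E] [Fintype E] (h2 : (2 : E) ≠ 0)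
    (c c' : E) (hc : c ≠ 0) (hc' : c' ≠ 0) (hns : ∀ s : E, c ≠ s ^ 2 * c') (a : E) :
    Nat.card {y : E // c * y ^ 2 = a} + Nat.card {y : E // c' * y ^ 2 = a} = 2 := by
  classical
  have hchar : ringChar E ≠ 2 := by
    intro h
    apply h2
    have h3 := ringChar.Nat.cast_ringChar (R := E)
    rw [h] at h3
    exact_mod_cast h3
  have hA : Nat.card {y : E // c * y ^ 2 = a} = ({x : E | x ^ 2 = a / c}.toFinset).card := by
    rw [Nat.card_eq_fintype_card, Fintype.card_subtype]
    congr 1
    ext y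
    simp only [Finset.mem_filter, Finset.mem_univ, true_and, Set.mem_toFinset, Set.mem_setOf_eq]
    rw [eq_div_iff hc, mul_comm]
  have hB : Nat.card {y : E // c' * y ^ 2 = a} = ({x : E | x ^ 2 = a / c'}.toFinset).card := by
    rw [Nat.card_eq_fintype_card, Fintype.card_subtype]
    congr 1
    ext y
    simp only [Finset.mem_filter, Finset.mem_univ, true_and, Set.mem_toFinset, Set.mem_setOf_eq]
    rw [eq_div_iff hc', mul_comm]
  have h1 := quadraticChar_card_sqrts hchar (a / c)
  have h1' := quadraticChar_card_sqrts hchar (a / c')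
  have hnsq : ¬ IsSquare (c * c'⁻¹) := by
    rintro ⟨s, hs⟩
    apply hns s
    have h : c = c * c'⁻¹ * c' := by field_simp
    rw [h, hs]
    ring
  have e1 : quadraticChar E (c * c'⁻¹) = -1 := quadraticChar_neg_one_iff_not_isSquare.mpr hnsq
  have e2 : quadraticChar E c * quadraticChar E c'⁻¹ = -1 := by rw [← map_mul]; exact e1
  have e3 : quadraticChar E c * quadraticChar E c⁻¹ = 1 := by
    rw [← map_mul, mul_inv_cancel₀ hc, map_one]
  have e4 : quadraticChar E c⁻¹ + quadraticChar E c'⁻¹ = 0 := by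
    have h : quadraticChar E c * (quadraticChar E c⁻¹ + quadraticChar E c'⁻¹) = 0 := by
      rw [mul_add, e2, e3]
      norm_num
    rcases mul_eq_zero.1 h with h0 | h0
    · rw [h0, zero_mul] at e3
      exact absurd e3 (by norm_num)
    · exact h0
  have e5 : quadraticChar E (a / c) + quadraticChar E (a / c') = 0 := by
    rw [div_eq_mul_inv, div_eq_mul_inv, map_mul, map_mul, ← mul_add, e4, mul_zero]
  have h5 : ((Nat.card {y : E // c * y ^ 2 = a} : ℕ) : ℤ) +
      ((Nat.card {y : E // c' * y ^ 2 = a} : ℕ) : ℤ) = 2 := by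
    rw [hA, hB, h1, h1']
    linarith
  exact_mod_cast h5

/-- fibering the count over the first `m` coordinates -/
theorem h76_qfu_fibre {E : Type*} [Field E] [Fintype E] {m : ℕ} (d : E) :
    sfoCount (fun x : Fin (m + 1) → E => ∑ j, (if j = Fin.last m then d else 1) * x j ^ 2) 1 =
      ∑ x : Fin m → E, Nat.card {y : E // d * y ^ 2 = 1 - ∑ j, x j ^ 2} := by
  classical
  unfold sfoCount
  rw [Nat.card_eq_fintype_card, Fintype.card_subtype, Finset.card_filter,
    ← Equiv.sum_comp (Fin.snocEquiv (fun _ : Fin (m + 1) => E)), Fintype.sum_prod_type,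
    Finset.sum_comm]
  apply Finset.sum_congr rfl
  intro x _
  rw [Nat.card_eq_fintype_card, Fintype.card_subtype, Finset.card_filter]
  apply Finset.sum_congr rfl
  intro y _
  have hsum : (∑ j, (if j = Fin.last m then d else 1) *
      (Fin.snocEquiv (fun _ : Fin (m + 1) => E) (y, x)) j ^ 2) = ∑ j, x j ^ 2 + d * y ^ 2 := by
    rw [Fin.sum_univ_castSucc]
    simp [Fin.snocEquiv, (Fin.castSucc_lt_last _).ne]
  beta_reduce
  rw [hsum]
  exact if_congr ⟨fun h => by linear_combination h, fun h => by linear_combination h⟩ rfl rfl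

/-- SUMD -/
theorem h76_qfu_diag_count_sum {E : Type*} [Field E] [Fintype E] {m : ℕ} (h2 : (2 : E) ≠ 0)
    (c c' : E) (hc : c ≠ 0) (hc' : c' ≠ 0) (hns : ∀ s : E, c ≠ s ^ 2 * c') :
    sfoCount (fun x : Fin (m + 1) → E => ∑ j, (if j = Fin.last m then c else 1) * x j ^ 2) 1 +
      sfoCount (fun x : Fin (m + 1) → E => ∑ j, (if j = Fin.last m then c' else 1) * x j ^ 2) 1 =
      2 * Fintype.card E ^ m := by
  rw [h76_qfu_fibre c, h76_qfu_fibre c', ← Finset.sum_add_distrib,
    Finset.sum_congr rfl (fun x _ => h76_qfu_sqrt_pair h2 c c' hc hc' hns _)]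
  simp [Finset.sum_const, Finset.card_univ, mul_comm]

end Cfsg.Agent.Lib.helper2
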