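import Mathlib
import Cfsg.Agent.Lib.helper44.SL3Defs
import Cfsg.Agent.Lib.helper76.SL3C1ef

/-!
# S2287 piece C1a (`core1_z0`), racing copy under a prefixed name
-/

set_option autoImplicit false

namespace Cfsg.Agent.Lib.helper44.SL3

open Polynomial

theorem h76_commute_conj {G : Type*} [Group G] (t u v : G) (hc : Commute u v) :
    Commute (t * u * t⁻¹) (t * v * t⁻¹) := by
  show t * u * t⁻¹ * (t * v * t⁻¹) = t * v * t⁻¹ * (t * u * t⁻¹)
  have e1 : t * u * t⁻¹ * (t * v * t⁻¹) = t * (u * v) * t⁻¹ := by group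
  have e2 : t * v * t⁻¹ * (t * u * t⁻¹) = t * (v * u) * t⁻¹ := by group
  rw [e1, e2, hc.eq]

/-- Racing copy of piece C1a: VERBATIM statement of `core1_z0` under a prefixed name. -/
theorem h76_core1_z0 {G : Type*} [Group G] {F : Type*} [Field F] [Fintype F] {p : ℕ} [Fact p.Prime]
    [Algebra (ZMod p) F] (x y : F → G) (h g d : G) (ω κ : F) (hT : IsTor1 x y h g d ω κ)
    (hκ : Algebra.adjoin (ZMod p) {κ} = ⊤) :
    (∀ a, Commute (x a) (cm (x 1) (y 1))) ∧ (∀ a, Commute (y a) (cm (x 1) (y 1))) := by
  have hx0 := h76_map_zero x hT.x_add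
  have hy0 := h76_map_zero y hT.y_add
  have hz1 : d * cm (x 1) (y 1) * d⁻¹ = cm (x 1) (y 1) := by
    rw [hT.z_d.eq, mul_inv_cancel_right]
  have hz2 : d⁻¹ * cm (x 1) (y 1) * d = cm (x 1) (y 1) := by
    rw [mul_assoc, ← hT.z_d.eq, inv_mul_cancel_left]
  constructor
  · have hS : ∀ a : F, (1 : F) * a ∈ {a : F | Commute (x a) (cm (x 1) (y 1))} := by
      apply h76_span_mul κ 1 hκ
      · show Commute (x 0) (cm (x 1) (y 1))
        rw [hx0]; exact Commute.one_left _
      · intro a b ha hb
        show Commute (x (a + b)) (cm (x 1) (y 1))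
        rw [hT.x_add]; exact Commute.mul_left ha hb
      · intro n
        show Commute (x (1 * κ ^ n)) (cm (x 1) (y 1))
        rw [one_mul]
        induction n with
        | zero => rw [pow_zero]; exact hT.z_x
        | succ n ih =>
          have h1 := h76_commute_conj d _ _ ih
          rw [hT.d_x, hz1] at h1
          have e : κ ^ (n + 1) = κ * κ ^ n := by ring
          rw [e]; exact h1
    intro a
    have h3 := hS a
    rw [one_mul] at h3
    exact h3
  · have hS : ∀ a : F, (1 : F) * a ∈ {a : F | Commute (y a) (cm (x 1) (y 1))} := by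
      apply h76_span_mul κ 1 hκ
      · show Commute (y 0) (cm (x 1) (y 1))
        rw [hy0]; exact Commute.one_left _
      · intro a b ha hb
        show Commute (y (a + b)) (cm (x 1) (y 1))
        rw [hT.y_add]; exact Commute.mul_left ha hb
      · intro n
        show Commute (y (1 * κ ^ n)) (cm (x 1) (y 1))
        rw [one_mul]
        induction n with
        | zero => rw [pow_zero]; exact hT.z_y
        | succ n ih =>
          have h1 := h76_commute_conj d⁻¹ _ _ ih
          rw [inv_inv, hT.d_y, hz2] at h1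
          have e : κ ^ (n + 1) = κ * κ ^ n := by ring
          rw [e]; exact h1
    intro a
    have h3 := hS a
    rw [one_mul] at h3
    exact h3

end Cfsg.Agent.Lib.helper44.SL3
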