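import Cfsg.Agent.S3335
import Mathlib

/-! S0892 split (helper70), piece G1: `ker_le_of_lifts`, the complement lemma.  If the generators
of the Carmichael presentation have lifts `y i` satisfying the relations modulo a subgroup `W` of
the central kernel `K ≤ Γ'`, then `K ≤ W`. -/

set_option autoImplicit false
set_option linter.unusedVariables false
set_option linter.style.haveILetI false
open Cfsg Cfsg.Agent.S3335

namespace Cfsg.Agent.Lib.helper70.SM

universe u

/-- commutators do not see central factors -/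
theorem h76_comm_central {Γ : Type*} [Group Γ] (u v c d : Γ) (hc : c ∈ Subgroup.center Γ)
    (hd : d ∈ Subgroup.center Γ) :
    (u * c) * (v * d) * (u * c)⁻¹ * (v * d)⁻¹ = u * v * u⁻¹ * v⁻¹ := by
  have hcc : ∀ g, c * g * c⁻¹ = g := fun g => by
    rw [← Subgroup.mem_center_iff.mp hc g, mul_inv_cancel_right]
  have hdd : ∀ g, d * g * d⁻¹ = g := fun g => by
    rw [← Subgroup.mem_center_iff.mp hd g, mul_inv_cancel_right]
  have e1 : (u * c) * (v * d) * (u * c)⁻¹ = u * (c * (v * d) * c⁻¹) * u⁻¹ := by group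
  rw [e1, hcc]
  have e2 : u * (v * d) * u⁻¹ * (v * d)⁻¹ = u * v * (d * u⁻¹ * d⁻¹) * v⁻¹ := by group
  rw [e2, hdd]

/-- G1 (complement lemma). -/
theorem ker_le_of_lifts {Γ : Type u} [Group Γ] (k : ℕ)
    (π : Γ →* PresentedGroup (rels k)) (hπ : Function.Surjective π)
    (hc : π.ker ≤ Subgroup.center Γ) (hd : π.ker ≤ commutator Γ)
    (W : Subgroup Γ) (hW : W ≤ π.ker)
    (y : Fin (k + 1) → Γ) (hy : ∀ i, π (y i) = x k i)
    (h1 : ∀ i : Fin (k + 1), i.val = 0 → y i ^ 3 ∈ W)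
    (h2 : ∀ i : Fin (k + 1), 1 ≤ i.val → y i ^ 2 ∈ W)
    (h3 : ∀ i j : Fin (k + 1), j.val = i.val + 1 → (y i * y j) ^ 3 ∈ W)
    (h4 : ∀ i j : Fin (k + 1), i.val + 1 < j.val → (y i * y j) ^ 2 ∈ W) :
    π.ker ≤ W := by
  have hWc : W ≤ Subgroup.center Γ := hW.trans hc
  haveI hWn : W.Normal := ⟨fun n hn g => by
    have e : g * n * g⁻¹ = n := by
      rw [Subgroup.mem_center_iff.mp (hWc hn) g, mul_inv_cancel_right]
    rw [e]
    exact hn⟩
  obtain ⟨q, hq⟩ : ∃ q : Γ →* Γ ⧸ W, q = QuotientGroup.mk' W := ⟨_, rfl⟩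
  have hq1 : ∀ g : Γ, g ∈ W → q g = 1 := by
    intro g hg
    rw [hq]
    exact (QuotientGroup.eq_one_iff g).mpr hg
  have hq1' : ∀ g : Γ, q g = 1 → g ∈ W := by
    intro g hg
    rw [hq] at hg
    exact (QuotientGroup.eq_one_iff g).mp hg
  have hrel : ∀ r ∈ rels k, FreeGroup.lift (fun i => q (y i)) r = 1 := by
    apply lift_ok
    · intro i hi
      rw [← map_pow]
      exact hq1 _ (h1 i hi)
    · intro i hi
      rw [← map_pow]
      exact hq1 _ (h2 i hi)
    · intro i j hij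
      rw [← map_mul, ← map_pow]
      exact hq1 _ (h3 i j hij)
    · intro i j hij
      rw [← map_mul, ← map_pow]
      exact hq1 _ (h4 i j hij)
  obtain ⟨σ, hσ⟩ : ∃ σ : PresentedGroup (rels k) →* Γ ⧸ W, σ = PresentedGroup.toGroup hrel :=
    ⟨_, rfl⟩
  have hσof : ∀ i, σ (PresentedGroup.of i) = q (y i) := by
    intro i
    rw [hσ]
    exact PresentedGroup.toGroup.of hrel
  obtain ⟨πbar, hπbar⟩ : ∃ πbar : Γ ⧸ W →* PresentedGroup (rels k),
      πbar = QuotientGroup.lift W π hW := ⟨_, rfl⟩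
  have hπq : ∀ g : Γ, πbar (q g) = π g := by
    intro g
    rw [hπbar, hq]
    exact QuotientGroup.lift_mk W hW g
  have hcomp : πbar.comp σ = MonoidHom.id _ := by
    apply PresentedGroup.ext
    intro i
    rw [MonoidHom.comp_apply, hσof, hπq, hy]
    rfl
  have hlift : ∀ a : Γ, ∃ b : Γ, q b = σ (π a) ∧ π b = π a := by
    intro a
    obtain ⟨b, hb⟩ : ∃ b : Γ, q b = σ (π a) := by
      rw [hq]
      exact QuotientGroup.mk'_surjective W (σ (π a))
    refine ⟨b, hb, ?_⟩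
    have e := congrArg πbar hb
    rw [hπq] at e
    rw [e]
    exact congrArg (fun f : PresentedGroup (rels k) →* PresentedGroup (rels k) => f (π a)) hcomp
  obtain ⟨τ, hτ⟩ : ∃ τ : Γ →* Γ ⧸ W, τ = σ.comp π := ⟨_, rfl⟩
  have hEq : Set.EqOn q τ (commutatorSet Γ) := by
    rintro _ ⟨a, b, rfl⟩
    obtain ⟨ba, hqa, hπa⟩ := hlift a
    obtain ⟨bb, hqb, hπb⟩ := hlift b
    obtain ⟨ca, hca⟩ : ∃ ca : Γ, ca = ba⁻¹ * a := ⟨_, rfl⟩
    obtain ⟨cb, hcb⟩ : ∃ cb : Γ, cb = bb⁻¹ * b := ⟨_, rfl⟩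
    have hcaZ : ca ∈ Subgroup.center Γ := by
      apply hc
      rw [MonoidHom.mem_ker, hca, map_mul, map_inv, hπa, inv_mul_cancel]
    have hcbZ : cb ∈ Subgroup.center Γ := by
      apply hc
      rw [MonoidHom.mem_ker, hcb, map_mul, map_inv, hπb, inv_mul_cancel]
    have ha : a = ba * ca := by
      rw [hca]
      group
    have hb : b = bb * cb := by
      rw [hcb]
      group
    have key : a * b * a⁻¹ * b⁻¹ = ba * bb * ba⁻¹ * bb⁻¹ := by
      rw [ha, hb]
      exact h76_comm_central ba bb ca cb hcaZ hcbZ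
    have hτa : τ ba = q ba := by
      rw [hτ, MonoidHom.comp_apply, hπa, hqa]
    have hτb : τ bb = q bb := by
      rw [hτ, MonoidHom.comp_apply, hπb, hqb]
    rw [commutatorElement_def, key]
    simp only [map_mul, map_inv, hτa, hτb]
  have hEq2 := MonoidHom.eqOn_closure hEq
  intro g hg
  have hg2 : g ∈ Subgroup.closure (commutatorSet Γ) := by
    rw [← commutator_eq_closure]
    exact hd hg
  have e := hEq2 hg2
  apply hq1'
  rw [e, hτ, MonoidHom.comp_apply, MonoidHom.mem_ker.mp hg, map_one]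

end Cfsg.Agent.Lib.helper70.SM
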