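import Cfsg.Agent.S3335
import Mathlib

/-! S0892 split (helper70), piece G2: `ker_isPGroup_two_of_odd`, the reduction to a 2-group
kernel.  `K₂` = the 2-part of the central kernel `K`; in `Γ ⧸ K₂` the kernel of the induced map is
central, inside the commutator subgroup and of odd order, hence trivial by `hodd`: `K = K₂`. -/

set_option autoImplicit false
set_option linter.unusedVariables false
set_option linter.style.haveILetI false
open Cfsg Cfsg.Agent.S3335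

namespace Cfsg.Agent.Lib.helper70.SM

universe u

/-- G2 (reduction to a 2-group kernel). -/
theorem ker_isPGroup_two_of_odd {Γ : Type u} [Group Γ] [Finite Γ] {P : Type*} [Group P]
    (hodd : ∀ (Δ : Type u) [Group Δ] [Finite Δ] (ρ : Δ →* P), Function.Surjective ρ →
      ρ.ker ≤ Subgroup.center Δ → ρ.ker ≤ commutator Δ → Odd (Nat.card ρ.ker) → ρ.ker = ⊥)
    (π : Γ →* P) (hπ : Function.Surjective π)
    (hc : π.ker ≤ Subgroup.center Γ) (hd : π.ker ≤ commutator Γ) : IsPGroup 2 π.ker := by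
  classical
  obtain ⟨K₂, hK₂⟩ : ∃ K₂ : Subgroup Γ,
      ∀ g, g ∈ K₂ ↔ (g ∈ π.ker ∧ ∃ m : ℕ, g ^ 2 ^ m = 1) := by
    refine ⟨{ carrier := {g | g ∈ π.ker ∧ ∃ m : ℕ, g ^ 2 ^ m = 1}
              mul_mem' := ?_
              one_mem' := ?_
              inv_mem' := ?_ }, fun g => Iff.rfl⟩
    · rintro a b ⟨ha, m, hm⟩ ⟨hb, n, hn⟩
      refine ⟨π.ker.mul_mem ha hb, m + n, ?_⟩
      have hcomm : Commute a b := Subgroup.mem_center_iff.mp (hc hb) a
      rw [hcomm.mul_pow, pow_add, pow_mul, hm, one_pow, one_mul, mul_comm (2 ^ m) (2 ^ n),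
        pow_mul, hn, one_pow]
    · exact ⟨π.ker.one_mem, 0, one_pow _⟩
    · rintro a ⟨ha, m, hm⟩
      exact ⟨π.ker.inv_mem ha, m, by rw [inv_pow, hm, inv_one]⟩
  have hK₂le : K₂ ≤ π.ker := fun g hg => ((hK₂ g).mp hg).1
  haveI hK₂n : K₂.Normal := ⟨fun n hn g => by
    have e : g * n * g⁻¹ = n := by
      rw [Subgroup.mem_center_iff.mp (hc (hK₂le hn)) g, mul_inv_cancel_right]
    rw [e]
    exact hn⟩
  obtain ⟨q, hq⟩ : ∃ q : Γ →* Γ ⧸ K₂, q = QuotientGroup.mk' K₂ := ⟨_, rfl⟩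
  have hqs : Function.Surjective q := by
    rw [hq]
    exact QuotientGroup.mk'_surjective K₂
  obtain ⟨ρ, hρ⟩ : ∃ ρ : Γ ⧸ K₂ →* P, ρ = QuotientGroup.lift K₂ π hK₂le := ⟨_, rfl⟩
  have hρq : ∀ g, ρ (q g) = π g := by
    intro g
    rw [hρ, hq]
    exact QuotientGroup.lift_mk K₂ hK₂le g
  have hρs : Function.Surjective ρ := by
    intro t
    obtain ⟨g, rfl⟩ := hπ t
    exact ⟨q g, hρq g⟩
  have hq1 : ∀ g, q g = 1 ↔ g ∈ K₂ := by
    intro g
    rw [hq]
    exact QuotientGroup.eq_one_iff g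
  have hker : ∀ t : Γ ⧸ K₂, t ∈ ρ.ker → ∃ g ∈ π.ker, q g = t := by
    intro t ht
    obtain ⟨g, rfl⟩ := hqs t
    refine ⟨g, ?_, rfl⟩
    rw [MonoidHom.mem_ker, ← hρq]
    exact MonoidHom.mem_ker.mp ht
  have h1 : ρ.ker ≤ Subgroup.center (Γ ⧸ K₂) := by
    intro t ht
    obtain ⟨g, hg, rfl⟩ := hker t ht
    rw [Subgroup.mem_center_iff]
    intro s
    obtain ⟨s', rfl⟩ := hqs s
    rw [← map_mul, ← map_mul, Subgroup.mem_center_iff.mp (hc hg) s']
  have h2 : ρ.ker ≤ commutator (Γ ⧸ K₂) := by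
    intro t ht
    obtain ⟨g, hg, rfl⟩ := hker t ht
    have e : (commutator Γ).map q = commutator (Γ ⧸ K₂) := by
      rw [commutator_def, Subgroup.map_commutator, Subgroup.map_top_of_surjective q hqs,
        ← commutator_def]
    rw [← e]
    exact Subgroup.mem_map_of_mem q (hd hg)
  have h3 : Odd (Nat.card ρ.ker) := by
    rw [← Nat.not_even_iff_odd, even_iff_two_dvd]
    intro hdvd
    obtain ⟨t, ht⟩ := exists_prime_orderOf_dvd_card' 2 hdvd
    obtain ⟨g, hg, hgt⟩ := hker t.1 t.2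
    have ht2 : (t : Γ ⧸ K₂) ^ 2 = 1 := by
      have h5 := pow_orderOf_eq_one t
      rw [ht] at h5
      have h6 := congrArg Subtype.val h5
      simpa using h6
    rw [← hgt, ← map_pow, hq1] at ht2
    obtain ⟨-, m, hm⟩ := (hK₂ _).mp ht2
    have hgK₂ : g ∈ K₂ := (hK₂ g).mpr ⟨hg, m + 1, by rw [pow_succ', pow_mul]; exact hm⟩
    have ht1 : (t : Γ ⧸ K₂) = 1 := by
      rw [← hgt]
      exact (hq1 g).mpr hgK₂
    have ht1' : t = 1 := Subtype.ext ht1
    rw [ht1', orderOf_one] at ht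
    omega
  have h4 := hodd (Γ ⧸ K₂) ρ hρs h1 h2 h3
  intro g
  have hg : q g.1 ∈ ρ.ker := by
    rw [MonoidHom.mem_ker, hρq]
    exact MonoidHom.mem_ker.mp g.2
  rw [h4, Subgroup.mem_bot, hq1] at hg
  obtain ⟨-, m, hm⟩ := (hK₂ _).mp hg
  exact ⟨m, Subtype.ext (by simpa using hm)⟩

end Cfsg.Agent.Lib.helper70.SM
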