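import Mathlib
import Cfsg.Agent.Lib.helper44.SUWDefs
import Cfsg.Agent.Lib.helper44.SUODefs
import Cfsg.Agent.Lib.helper17.Herm
import Cfsg.Agent.Lib.helper76.SUWLEVI

/-!
# S2334 piece OLEVI: Levi elements of `SU_{2m+1}(q)` normalising the Siegel subgroup
-/

set_option autoImplicit false

namespace Cfsg.Agent.Lib.helper44.SUW

open Matrix Cfsg.Agent.Lib.helper99

/-- the `2m × 2m` block of the Levi element attached to `B ∈ GL_m` -/
theorem h76_levi_odd_mat {K : Type*} [Field K] {m : ℕ}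
    (σ : K →+* K) (hσσ : ∀ x, σ (σ x) = x)
    (ζ : K) (hζ1 : ζ ≠ 1) (hζ : ζ * σ ζ = 1)
    (ε : K) (hε : ε * σ ε = -1)
    (B : Matrix (Fin m) (Fin m) K) (hB : B.det ≠ 0) :
    ∃ G : Matrix (Fin m ⊕ Fin m) (Fin m ⊕ Fin m) K,
      Gᵀ * G.map σ = 1 ∧ G.det * σ B.det = B.det ∧
      ∀ C : Matrix (Fin m) (Fin m) K,
        G * fromBlocks (1 + C) (σ ε • C) (ε • C) (1 - C) =
          fromBlocks (1 + B * C * (B.map σ)ᵀ) (σ ε • (B * C * (B.map σ)ᵀ))
            (ε • (B * C * (B.map σ)ᵀ)) (1 - B * C * (B.map σ)ᵀ) * G := by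
  classical
  obtain ⟨a, ha⟩ : ∃ a : K, a = (1 - ζ)⁻¹ := ⟨_, rfl⟩
  obtain ⟨b, hb⟩ : ∃ b : K, b = ε * ζ * a := ⟨_, rfl⟩
  have h1ζ : (1 - ζ) ≠ 0 := sub_ne_zero.2 (Ne.symm hζ1)
  have hε' : σ ε * ε = -1 := by rw [mul_comm]; exact hε
  have e1 : a + σ ε * b = 1 := by
    calc a + σ ε * b = a * (1 + (σ ε * ε) * ζ) := by rw [hb]; ring
      _ = a * (1 - ζ) := by rw [hε']; ring
      _ = 1 := by rw [ha]; exact inv_mul_cancel₀ h1ζ
  have e2 : a * σ a + b * σ b = 0 := by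
    have h : b * σ b = (ε * σ ε) * (ζ * σ ζ) * (a * σ a) := by
      rw [hb]; simp only [map_mul]; ring
    rw [h, hε, hζ]; ring
  have e1' : σ a + ε * σ b = 1 := by
    have h := congrArg σ e1
    simpa [map_add, map_mul, hσσ] using h
  -- the matrices
  have hBu : IsUnit B.det := isUnit_iff_ne_zero.2 hB
  obtain ⟨B', hB'⟩ : ∃ B' : Matrix (Fin m) (Fin m) K, B' = ((B⁻¹).map σ)ᵀ := ⟨_, rfl⟩
  have hinv : B⁻¹ * B = 1 := Matrix.nonsing_inv_mul B hBu
  have hB'1 : B'ᵀ * B.map σ = 1 := by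
    rw [hB', Matrix.transpose_transpose, ← Matrix.map_mul, hinv]; simp
  have hB'2 : Bᵀ * B'.map σ = 1 := by
    have h : B'.map σ = (B⁻¹)ᵀ := by
      rw [hB']
      ext i j
      simp [hσσ]
    rw [h, ← Matrix.transpose_mul, hinv, Matrix.transpose_one]
  have hB'3 : (B.map σ)ᵀ * B' = 1 := by
    rw [hB', ← Matrix.transpose_mul, ← Matrix.map_mul, hinv]; simp
  have hdetB' : B'.det * σ B.det = 1 := by
    have h := congrArg Matrix.det hB'1
    rw [Matrix.det_mul, Matrix.det_transpose, Matrix.det_one] at h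
    have h2 : (B.map σ).det = σ B.det := (RingHom.map_det σ B).symm
    rw [h2] at h
    exact h
  set P : Matrix (Fin m ⊕ Fin m) (Fin m ⊕ Fin m) K := h76_sb m 1 a ε b with hP
  set Pi : Matrix (Fin m ⊕ Fin m) (Fin m ⊕ Fin m) K := h76_sb m (σ a) (σ b) 1 (σ ε) with hPi
  set H : Matrix (Fin m ⊕ Fin m) (Fin m ⊕ Fin m) K := h76_sb m 0 1 1 0 with hH
  set D : Matrix (Fin m ⊕ Fin m) (Fin m ⊕ Fin m) K := fromBlocks B 0 0 B' with hD
  have hPiP : Pi * P = 1 := by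
    rw [hPi, hP, h76_sb_mul, ← h76_sb_one]
    refine h76_sb_congr m ?_ ?_ ?_ ?_
    · linear_combination e1'
    · linear_combination e2
    · linear_combination hε
    · linear_combination e1
  have hPPi : P * Pi = 1 := mul_eq_one_comm.1 hPiP
  have hPH : Pᵀ * P.map σ = H := by
    rw [hP, hH, h76_sb_transpose, h76_sb_map, h76_sb_mul]
    refine h76_sb_congr m ?_ ?_ ?_ ?_
    · rw [map_one]; linear_combination hε
    · linear_combination e1'
    · rw [map_one]; linear_combination e1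
    · linear_combination e2
  have hHf : H = fromBlocks 0 1 1 0 := by
    rw [hH]; unfold h76_sb; simp
  have hDH : Dᵀ * H * D.map σ = H := by
    rw [hHf, hD, fromBlocks_transpose, fromBlocks_map, fromBlocks_multiply, fromBlocks_multiply]
    simp [hB'1, hB'2]
  have hdetD : D.det * σ B.det = B.det := by
    rw [hD, Matrix.det_fromBlocks_zero₂₁, mul_assoc, hdetB', mul_one]
  obtain ⟨G, hG⟩ : ∃ G : Matrix (Fin m ⊕ Fin m) (Fin m ⊕ Fin m) K, G = P * D * Pi := ⟨_, rfl⟩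
  have hGu : Gᵀ * G.map σ = 1 := by rw [hG]; exact h76_conj_unitary σ P Pi D H hPPi hPH hDH
  have hGdet : G.det = D.det := by
    rw [hG, Matrix.det_mul, Matrix.det_mul, mul_right_comm, ← Matrix.det_mul, hPPi,
      Matrix.det_one, one_mul]
  have hU : ∀ C : Matrix (Fin m) (Fin m) K,
      fromBlocks (1 + C) (σ ε • C) (ε • C) (1 - C) = 1 + P * fromBlocks 0 C 0 0 * Pi := by
    intro C
    rw [hP, hPi]
    unfold h76_sb
    rw [fromBlocks_multiply, fromBlocks_multiply, ← fromBlocks_one, fromBlocks_add]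
    congr 1 <;> simp [smul_smul, hε', sub_eq_add_neg]
  have hDN : ∀ C : Matrix (Fin m) (Fin m) K,
      D * fromBlocks 0 C 0 0 = fromBlocks 0 (B * C * (B.map σ)ᵀ) 0 0 * D := by
    intro C
    rw [hD, fromBlocks_multiply, fromBlocks_multiply]
    simp [Matrix.mul_assoc, hB'3]
  refine ⟨G, hGu, by rw [hGdet]; exact hdetD, fun C => ?_⟩
  rw [hU C, hU (B * C * (B.map σ)ᵀ), hG, h76_conj_comm P Pi D _ _ hPiP (hDN C)]

theorem h76_levi_odd_smul_map {K : Type*} [Field K] (σ : K →+* K) (δ : K) :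
    (δ • (1 : Matrix (Fin 1) (Fin 1) K)).map σ = σ δ • (1 : Matrix (Fin 1) (Fin 1) K) := by
  ext i j
  simp [Subsingleton.elim i j]

/-- OLEVI (L) -/
theorem levi_odd {K : Type*} [Field K] [Fintype K] {q m : ℕ} (hK : Fintype.card K = q ^ 2)
    (σ : K →+* K) (hσ : ∀ x, σ x = x ^ q) (ε : K) (hε : ε * σ ε = -1)
    (B : Matrix (Fin m) (Fin m) K) (hB : B.det ≠ 0) :
    ∃ g : ↥(Cfsg.SU (m + m + 1) K q), ∀ C ∈ skewH σ m,
      suMat g * uoMat σ ε C = uoMat σ ε (B * C * (B.map σ)ᵀ) * suMat g := by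
  have hσσ : ∀ x, σ (σ x) = x := by
    intro x
    rw [hσ, hσ, Cfsg.Agent.Lib.helper17.pow_q_pow_q hK]
  have hq2 : 1 < q := Cfsg.Agent.Lib.helper17.two_le_of_card_eq_sq hK
  have hθ : ∃ θ : K, σ θ ≠ θ := by
    by_contra hall
    push Not at hall
    have hsub : (Finset.univ : Finset K).val ⊆ (Polynomial.X ^ q - Polynomial.X : Polynomial K).roots := by
      intro x _
      rw [Polynomial.mem_roots (FiniteField.X_pow_card_sub_X_ne_zero K hq2)]
      have hx : x ^ q = x := by rw [← hσ]; exact hall x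
      simp [hx]
    have h := Polynomial.card_le_degree_of_subset_roots hsub
    rw [FiniteField.X_pow_card_sub_X_natDegree_eq K hq2, Finset.card_univ, hK] at h
    nlinarith
  obtain ⟨θ, hθ⟩ := hθ
  have hθ0 : θ ≠ 0 := by
    rintro rfl
    exact hθ (map_zero σ)
  have hσ0 : ∀ x : K, x ≠ 0 → σ x ≠ 0 := by
    intro x hx h
    apply hx
    have h2 := congrArg σ h
    rw [hσσ, map_zero] at h2
    exact h2
  have hσθ0 : σ θ ≠ 0 := hσ0 θ hθ0
  have hζ1 : θ / σ θ ≠ 1 := by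
    intro h
    rw [div_eq_one_iff_eq hσθ0] at h
    exact hθ h.symm
  have hζ : (θ / σ θ) * σ (θ / σ θ) = 1 := by
    rw [map_div₀, hσσ]
    field_simp
  obtain ⟨G, hGu, hGdet, hGC⟩ := h76_levi_odd_mat σ hσσ (θ / σ θ) hζ1 hζ ε hε B hB
  have hσB0 : σ B.det ≠ 0 := hσ0 _ hB
  obtain ⟨δ, hδ⟩ : ∃ δ : K, δ = σ B.det / B.det := ⟨_, rfl⟩
  have hδδ : δ * σ δ = 1 := by
    rw [hδ, map_div₀, hσσ]
    field_simp
  have hGδ : G.det * δ = 1 := by
    have h : G.det = B.det / σ B.det := by rw [eq_div_iff hσB0]; exact hGdet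
    rw [h, hδ]
    field_simp
  obtain ⟨G3, hG3⟩ : ∃ G3 : Matrix ((Fin m ⊕ Fin m) ⊕ Fin 1) ((Fin m ⊕ Fin m) ⊕ Fin 1) K,
      G3 = fromBlocks G 0 0 (δ • (1 : Matrix (Fin 1) (Fin 1) K)) := ⟨_, rfl⟩
  have hG3det : G3.det = 1 := by
    rw [hG3, Matrix.det_fromBlocks_zero₂₁, Matrix.det_smul, Matrix.det_one]
    simpa using hGδ
  have hG3u : G3ᵀ * G3.map σ = 1 := by
    have hδδ' : σ δ * δ = 1 := by rw [mul_comm]; exact hδδ
    rw [hG3, fromBlocks_transpose, fromBlocks_map, fromBlocks_multiply, h76_levi_odd_smul_map]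
    simp [hGu, smul_smul, hδδ', fromBlocks_one]
  let e : Fin (m + m + 1) ≃ (Fin m ⊕ Fin m) ⊕ Fin 1 := e3 m
  have hMdet : (G3.submatrix e e).det = 1 := by
    rw [Matrix.det_submatrix_equiv_self]; exact hG3det
  have hMu : (G3.submatrix e e)ᵀ * (G3.submatrix e e).map σ = 1 := by
    have h : (G3.submatrix e e)ᵀ * (G3.submatrix e e).map σ = (G3ᵀ * G3.map σ).submatrix e e := by
      rw [← Matrix.submatrix_mul_equiv G3ᵀ (G3.map σ) e e e]
      rfl
    rw [h, hG3u, Matrix.submatrix_one_equiv]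
  refine ⟨mkSU (G3.submatrix e e) hMdet (h76_herm_of_unitary σ hσ _ hMu), fun C _ => ?_⟩
  rw [suMat_mkSU]
  unfold uoMat
  change G3.submatrix e e *
      (fromBlocks (fromBlocks (1 + C) (σ ε • C) (ε • C) (1 - C)) 0 0
        (1 : Matrix (Fin 1) (Fin 1) K)).submatrix e e =
    (fromBlocks (fromBlocks (1 + B * C * (B.map σ)ᵀ) (σ ε • (B * C * (B.map σ)ᵀ))
      (ε • (B * C * (B.map σ)ᵀ)) (1 - B * C * (B.map σ)ᵀ)) 0 0
        (1 : Matrix (Fin 1) (Fin 1) K)).submatrix e e * G3.submatrix e e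
  rw [Matrix.submatrix_mul_equiv, Matrix.submatrix_mul_equiv, hG3, fromBlocks_multiply,
    fromBlocks_multiply, hGC C]
  simp

end Cfsg.Agent.Lib.helper44.SUW
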