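import Mathlib
import Cfsg.Agent.Lib.helper44.SUWDefs
import Cfsg.Agent.Lib.helper44.SUODefs

/-!
# S2334 piece OXX (racing copy): the commutator formula `x(t) x(t') = x(t') x(t) u(t' t† - t t'†)`
-/

set_option autoImplicit false

namespace Cfsg.Agent.Lib.helper44.SUW

open Matrix

theorem h76_mmz {K : Type*} [Field K] {l m n o : Type*} [Fintype m] [Fintype n]
    {A : Matrix l m K} {B : Matrix m n K} (h : A * B = 0) (Z : Matrix n o K) :
    A * (B * Z) = 0 := by
  rw [← Matrix.mul_assoc, h, Matrix.zero_mul]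

theorem h76_mmo {K : Type*} [Field K] {l m o : Type*} [Fintype m] [Fintype l] [DecidableEq l]
    {A : Matrix l m K} {B : Matrix m l K} (h : A * B = 1) (Z : Matrix l o K) :
    A * (B * Z) = Z := by
  rw [← Matrix.mul_assoc, h, Matrix.one_mul]

/-- the abstract product formula -/
theorem h76_M_mul {K : Type*} [Field K] {n a ι : Type*} [Fintype n] [Fintype a] [Fintype ι]
    [DecidableEq n] [DecidableEq ι]
    (X : Matrix n a K) (Xs : Matrix a n K) (d : Matrix n ι K) (ds : Matrix ι n K)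
    (h1 : Xs * X = 0) (h2 : Xs * d = 0) (h3 : ds * X = 0) (h4 : ds * d = 1)
    (C C' : Matrix a a K) (τ τ' : Matrix a ι K) (τs τs' : Matrix ι a K) :
    (1 + X * C * Xs + X * τ * ds - d * τs * Xs) *
        (1 + X * C' * Xs + X * τ' * ds - d * τs' * Xs) =
      1 + X * (C + C' - τ * τs') * Xs + X * (τ + τ') * ds - d * (τs + τs') * Xs := by
  simp only [Matrix.mul_add, Matrix.add_mul, Matrix.mul_sub, Matrix.sub_mul, Matrix.mul_one,
    Matrix.one_mul, Matrix.mul_assoc, h76_mmz h1, h76_mmz h2, h76_mmz h3, h76_mmo h4,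
    Matrix.mul_zero, add_zero, sub_zero]
  abel

/-- the `(2m+1) × m` matrix `F` (padded by a zero row) -/
def h76_X {K : Type*} [Field K] (ε : K) (m : ℕ) : Matrix ((Fin m ⊕ Fin m) ⊕ Fin 1) (Fin m) K :=
  fromRows (fromRows 1 (ε • 1)) 0

def h76_Xs {K : Type*} [Field K] (ε' : K) (m : ℕ) :
    Matrix (Fin m) ((Fin m ⊕ Fin m) ⊕ Fin 1) K :=
  fromCols (fromCols 1 (ε' • 1)) 0

def h76_d (K : Type*) [Field K] (m : ℕ) : Matrix ((Fin m ⊕ Fin m) ⊕ Fin 1) (Fin 1) K :=
  fromRows 0 1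

def h76_ds (K : Type*) [Field K] (m : ℕ) : Matrix (Fin 1) ((Fin m ⊕ Fin m) ⊕ Fin 1) K :=
  fromCols 0 1

theorem h76_rel1 {K : Type*} [Field K] (ε ε' : K) (h : ε' * ε = -1) (m : ℕ) :
    h76_Xs ε' m * h76_X ε m = 0 := by
  have h' : ε * ε' = -1 := by rw [mul_comm]; exact h
  unfold h76_Xs h76_X
  rw [fromCols_mul_fromRows, fromCols_mul_fromRows]
  simp [smul_smul, h']

theorem h76_rel2 {K : Type*} [Field K] (ε' : K) (m : ℕ) :
    h76_Xs ε' m * h76_d K m = 0 := by
  unfold h76_Xs h76_d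
  rw [fromCols_mul_fromRows]
  simp

theorem h76_rel3 {K : Type*} [Field K] (ε : K) (m : ℕ) :
    h76_ds K m * h76_X ε m = 0 := by
  unfold h76_ds h76_X
  rw [fromCols_mul_fromRows]
  simp

theorem h76_rel4 {K : Type*} [Field K] (m : ℕ) :
    h76_ds K m * h76_d K m = 1 := by
  unfold h76_ds h76_d
  rw [fromCols_mul_fromRows]
  simp

theorem h76_xt_eq {K : Type*} [Field K] (σ : K →+* K) (ε : K) (hε : ε * σ ε = -1) {m : ℕ}
    (C : Matrix (Fin m) (Fin m) K) (t : Fin m → K) :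
    fromBlocks (fromBlocks (1 + C) (σ ε • C) (ε • C) (1 - C))
        (Matrix.of fun i (_ : Fin 1) => Sum.elim t (fun j => ε * t j) i)
        (Matrix.of fun (_ : Fin 1) j => Sum.elim (fun j => - σ (t j)) (fun j => - (σ ε * σ (t j))) j)
        (1 : Matrix (Fin 1) (Fin 1) K) =
      1 + h76_X ε m * C * h76_Xs (σ ε) m + h76_X ε m * replicateCol (Fin 1) t * h76_ds K m -
        h76_d K m * replicateRow (Fin 1) (fun j => σ (t j)) * h76_Xs (σ ε) m := by
  have hε' : σ ε * ε = -1 := by rw [mul_comm]; exact hε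
  unfold h76_X h76_Xs h76_d h76_ds
  simp only [fromRows_mul, mul_fromCols]
  ext ((i | i) | i) ((j | j) | j) <;>
    simp [Matrix.one_apply, smul_smul, hε', sub_eq_add_neg]

theorem h76_uo_eq {K : Type*} [Field K] (σ : K →+* K) (ε : K) (hε : ε * σ ε = -1) {m : ℕ}
    (C : Matrix (Fin m) (Fin m) K) :
    fromBlocks (fromBlocks (1 + C) (σ ε • C) (ε • C) (1 - C)) 0 0
        (1 : Matrix (Fin 1) (Fin 1) K) =
      1 + h76_X ε m * C * h76_Xs (σ ε) m + h76_X ε m * (0 : Matrix (Fin m) (Fin 1) K) * h76_ds K m -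
        h76_d K m * (0 : Matrix (Fin 1) (Fin m) K) * h76_Xs (σ ε) m := by
  have hε' : σ ε * ε = -1 := by rw [mul_comm]; exact hε
  unfold h76_X h76_Xs h76_d h76_ds
  simp only [fromRows_mul, mul_fromCols]
  ext ((i | i) | i) ((j | j) | j) <;>
    simp [Matrix.one_apply, smul_smul, hε', sub_eq_add_neg]

/-- OXX (L) -/
theorem h76_xt_mul_xt {K : Type*} [Field K] (σ : K →+* K) (hσσ : ∀ x, σ (σ x) = x) (ε η : K)
    (hε : ε * σ ε = -1) {m : ℕ} (t t' : Fin m → K) :
    xtMat σ ε η t * xtMat σ ε η t' =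
      xtMat σ ε η t' * xtMat σ ε η t * uoMat σ ε (cmat σ t' t) := by
  have hε' : σ ε * ε = -1 := by rw [mul_comm]; exact hε
  have hx : ∀ s : Fin m → K, xtMat σ ε η s =
      (1 + h76_X ε m * ((-η) • vecMulVec s (fun j => σ (s j))) * h76_Xs (σ ε) m +
        h76_X ε m * replicateCol (Fin 1) s * h76_ds K m -
        h76_d K m * replicateRow (Fin 1) (fun j => σ (s j)) * h76_Xs (σ ε) m).submatrix
          (e3 m) (e3 m) := by
    intro s
    rw [← h76_xt_eq σ ε hε]
    rfl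
  have hu : ∀ C : Matrix (Fin m) (Fin m) K, uoMat σ ε C =
      (1 + h76_X ε m * C * h76_Xs (σ ε) m +
        h76_X ε m * (0 : Matrix (Fin m) (Fin 1) K) * h76_ds K m -
        h76_d K m * (0 : Matrix (Fin 1) (Fin m) K) * h76_Xs (σ ε) m).submatrix
          (e3 m) (e3 m) := by
    intro C
    rw [← h76_uo_eq σ ε hε]
    rfl
  have hc : cmat σ t' t = replicateCol (Fin 1) t' * replicateRow (Fin 1) (fun j => σ (t j)) -
      replicateCol (Fin 1) t * replicateRow (Fin 1) (fun j => σ (t' j)) := by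
    ext i j
    simp [cmat, Matrix.vecMulVec_apply, Matrix.mul_apply]
  have r1 := h76_rel1 ε (σ ε) hε' m
  have r2 := h76_rel2 (σ ε) m
  have r3 := h76_rel3 ε m
  have r4 := h76_rel4 (K := K) m
  rw [hx t, hx t', hu, Matrix.submatrix_mul_equiv, Matrix.submatrix_mul_equiv,
    Matrix.submatrix_mul_equiv]
  congr 1
  rw [h76_M_mul _ _ _ _ r1 r2 r3 r4, h76_M_mul _ _ _ _ r1 r2 r3 r4,
    h76_M_mul _ _ _ _ r1 r2 r3 r4, hc]
  have e1 : (-η) • vecMulVec t (fun j => σ (t j)) + (-η) • vecMulVec t' (fun j => σ (t' j)) -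
      replicateCol (Fin 1) t * replicateRow (Fin 1) (fun j => σ (t' j)) =
      (-η) • vecMulVec t' (fun j => σ (t' j)) + (-η) • vecMulVec t (fun j => σ (t j)) -
        replicateCol (Fin 1) t' * replicateRow (Fin 1) (fun j => σ (t j)) +
        (replicateCol (Fin 1) t' * replicateRow (Fin 1) (fun j => σ (t j)) -
          replicateCol (Fin 1) t * replicateRow (Fin 1) (fun j => σ (t' j))) -
        (replicateCol (Fin 1) t' + replicateCol (Fin 1) t) * (0 : Matrix (Fin 1) (Fin m) K) := by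
    rw [Matrix.mul_zero]
    abel
  have e2 : replicateCol (Fin 1) t + replicateCol (Fin 1) t' =
      replicateCol (Fin 1) t' + replicateCol (Fin 1) t + (0 : Matrix (Fin m) (Fin 1) K) := by
    rw [add_zero, add_comm]
  have e3 : replicateRow (Fin 1) (fun j => σ (t j)) + replicateRow (Fin 1) (fun j => σ (t' j)) =
      replicateRow (Fin 1) (fun j => σ (t' j)) + replicateRow (Fin 1) (fun j => σ (t j)) +
        (0 : Matrix (Fin 1) (Fin m) K) := by
    rw [add_zero, add_comm]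
  rw [e1, e2, e3]

end Cfsg.Agent.Lib.helper44.SUW
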