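import Mathlib
import Cfsg.Agent.Lib.helper76.OrderCount

set_option autoImplicit false

namespace Cfsg.Agent.Lib.helper76

section SD

variable {N Q : Type*} [Group N] [Group Q]

/-- The "norm" map `a ↦ a * θ a * ⋯ * θ^(d-1) a` (in the order in which it occurs in powers of
elements of a semidirect product). -/
def nm (θ : MulAut N) : ℕ → N → N
  | 0, _ => 1
  | d + 1, a => a * θ (nm θ d a)

theorem sd_pow (φ : Q →* MulAut N) (x : N ⋊[φ] Q) (d : ℕ) :
    x ^ d = ⟨nm (φ x.right) d x.left, x.right ^ d⟩ := by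
  induction d with
  | zero =>
    rw [pow_zero, pow_zero]
    rfl
  | succ d ih =>
    rw [pow_succ']
    apply SemidirectProduct.ext
    · rw [SemidirectProduct.mul_left, ih]
      rfl
    · rw [SemidirectProduct.mul_right, ih]
      exact (pow_succ' _ _).symm

/-- The number of elements of `N` killed by the `d`-th norm map of `θ`. -/
def Kc [Fintype N] [DecidableEq N] (θ : MulAut N) (d : ℕ) : ℕ :=
  (Finset.univ.filter fun a : N => nm θ d a = 1).card

theorem cnt_sd [Fintype N] [DecidableEq N] [Fintype Q] [DecidableEq Q] (φ : Q →* MulAut N)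
    (d : ℕ) : cnt (N ⋊[φ] Q) d = ∑ q : Q, if q ^ d = 1 then Kc (φ q) d else 0 := by
  unfold cnt
  have e : {x : N ⋊[φ] Q // x ^ d = 1} ≃
      {p : Q × N // p.1 ^ d = 1 ∧ nm (φ p.1) d p.2 = 1} :=
    { toFun := fun x => ⟨(x.1.right, x.1.left), by
        have h := x.2
        rw [sd_pow] at h
        have h1 := congrArg SemidirectProduct.left h
        have h2 := congrArg SemidirectProduct.right h
        exact ⟨h2, h1⟩⟩
      invFun := fun p => ⟨⟨p.1.2, p.1.1⟩, by
        rw [sd_pow]
        ext
        · exact p.2.2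
        · exact p.2.1⟩
      left_inv := fun _ => rfl
      right_inv := fun _ => rfl }
  rw [Nat.card_congr e, Nat.card_eq_fintype_card, Fintype.card_subtype, Finset.card_filter,
    Fintype.sum_prod_type]
  apply Finset.sum_congr rfl
  intro q _
  by_cases hq : q ^ d = 1
  · rw [if_pos hq]
    unfold Kc
    rw [Finset.card_filter]
    apply Finset.sum_congr rfl
    intro a _
    simp only [hq, true_and]
  · rw [if_neg hq]
    apply Finset.sum_eq_zero
    intro a _
    simp only [hq, false_and, if_false]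

theorem sd_pow_eq_one (φ : Q →* MulAut N) (e : ℕ) (hQ : ∀ q : Q, q ^ e = 1)
    (hN : ∀ (q : Q) (a : N), nm (φ q) e a = 1) (x : N ⋊[φ] Q) : x ^ e = 1 := by
  rw [sd_pow]
  ext
  · exact hN _ _
  · exact hQ _

instance sd_isSolvable (φ : Q →* MulAut N) [Group.IsSolvable N] [Group.IsSolvable Q] :
    Group.IsSolvable (N ⋊[φ] Q) :=
  Group.isSolvable_of_ker_le_range (SemidirectProduct.inl : N →* N ⋊[φ] Q)
    (SemidirectProduct.rightHom : N ⋊[φ] Q →* Q)
    (by rw [SemidirectProduct.range_inl_eq_ker_rightHom])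

variable {N₁ N₂ : Type*} [Group N₁] [Group N₂]

/-- The product of two actions. -/
def prodHom (φ₁ : Q →* MulAut N₁) (φ₂ : Q →* MulAut N₂) : Q →* MulAut (N₁ × N₂) where
  toFun q := MulEquiv.prodCongr (φ₁ q) (φ₂ q)
  map_one' := by
    apply MulEquiv.ext
    intro x
    show (φ₁ 1 x.1, φ₂ 1 x.2) = x
    rw [map_one, map_one]
    rfl
  map_mul' := by
    intro a b
    apply MulEquiv.ext
    intro x
    show (φ₁ (a * b) x.1, φ₂ (a * b) x.2) = (φ₁ a (φ₁ b x.1), φ₂ a (φ₂ b x.2))
    rw [map_mul, map_mul]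
    rfl

theorem nm_prodCongr (θ₁ : MulAut N₁) (θ₂ : MulAut N₂) (d : ℕ) (a : N₁ × N₂) :
    nm (MulEquiv.prodCongr θ₁ θ₂) d a = (nm θ₁ d a.1, nm θ₂ d a.2) := by
  induction d with
  | zero => rfl
  | succ d ih =>
    simp only [nm, ih]
    rfl

theorem Kc_prodCongr [Fintype N₁] [DecidableEq N₁] [Fintype N₂] [DecidableEq N₂]
    (θ₁ : MulAut N₁) (θ₂ : MulAut N₂) (d : ℕ) :
    Kc (MulEquiv.prodCongr θ₁ θ₂) d = Kc θ₁ d * Kc θ₂ d := by
  unfold Kc
  rw [← Finset.card_product, ← Finset.filter_product, Finset.univ_product_univ]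
  congr 1
  ext a
  simp only [Finset.mem_filter, Finset.mem_univ, true_and, nm_prodCongr]
  exact Prod.ext_iff

end SD

/-- A finite commutative group with an action of `Q` and the table of its norm kernels. -/
structure ModData (Q : Type) [Group Q] where
  N : Type
  [grp : CommGroup N]
  [ft : Fintype N]
  [de : DecidableEq N]
  φ : Q →* MulAut N
  T : Q → ℕ → ℕ
  hT : ∀ q : Q, ∀ d ∈ Nat.divisors 84, q ^ d = 1 → Kc (φ q) d = T q d
  hexp : ∀ (q : Q) (a : N), nm (φ q) 84 a = 1

attribute [instance] ModData.grp ModData.ft ModData.de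

namespace ModData

variable {Q : Type} [Group Q]

/-- The direct sum of two modules. -/
def prod (a b : ModData Q) : ModData Q where
  N := a.N × b.N
  φ := prodHom a.φ b.φ
  T := fun q d => a.T q d * b.T q d
  hT := by
    intro q d hd hq
    show Kc (MulEquiv.prodCongr (a.φ q) (b.φ q)) d = _
    rw [Kc_prodCongr, a.hT q d hd hq, b.hT q d hd hq]
  hexp := by
    intro q x
    show nm (MulEquiv.prodCongr (a.φ q) (b.φ q)) 84 x = 1
    rw [nm_prodCongr, a.hexp, b.hexp]
    rfl

/-- The semidirect product of the module with `Q`, as a piece. -/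
def piece [Fintype Q] [DecidableEq Q] (hQ : ∀ q : Q, q ^ 84 = 1) (a : ModData Q) : Piece where
  X := a.N ⋊[a.φ] Q
  fin := Finite.of_equiv (a.N × Q) SemidirectProduct.equivProd.symm
  tbl := fun d => ∑ q : Q, if q ^ d = 1 then a.T q d else 0
  htbl := by
    intro d hd
    rw [cnt_sd]
    apply Finset.sum_congr rfl
    intro q _
    by_cases hq : q ^ d = 1
    · simp only [hq, if_true]
      exact a.hT q d hd hq
    · simp only [hq, if_false]
  hexp := sd_pow_eq_one a.φ 84 hQ a.hexp

theorem piece_isSolvable [Fintype Q] [DecidableEq Q] [Group.IsSolvable Q] (hQ : ∀ q : Q, q ^ 84 = 1)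
    (a : ModData Q) : Group.IsSolvable (a.piece hQ).X :=
  (inferInstance : Group.IsSolvable (a.N ⋊[a.φ] Q))

end ModData

/-- The action of a cyclic group given by an automorphism of order dividing `m`. -/
def cycHom {N : Type*} [Group N] (m : ℕ) [NeZero m] (ψ : MulAut N) (h : ψ ^ m = 1) :
    Multiplicative (ZMod m) →* MulAut N where
  toFun q := ψ ^ (Multiplicative.toAdd q).val
  map_one' := by
    show ψ ^ (0 : ZMod m).val = 1
    rw [ZMod.val_zero, pow_zero]
  map_mul' := by
    intro a b
    show ψ ^ (Multiplicative.toAdd a + Multiplicative.toAdd b).val = _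
    rw [ZMod.val_add, ← pow_add, ← pow_eq_pow_mod _ h]

/-- An automorphism of `Multiplicative A` from an explicit additive bijection. -/
def mkAut {A : Type*} [AddGroup A] (f g : A → A) (h1 : ∀ a, g (f a) = a) (h2 : ∀ a, f (g a) = a)
    (h3 : ∀ a b, f (a + b) = f a + f b) : MulAut (Multiplicative A) where
  toFun x := Multiplicative.ofAdd (f (Multiplicative.toAdd x))
  invFun x := Multiplicative.ofAdd (g (Multiplicative.toAdd x))
  left_inv x := by simp [h1]
  right_inv x := by simp [h2]
  map_mul' x y := by simp [h3]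

end Cfsg.Agent.Lib.helper76
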