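import Mathlib
import Cfsg.Agent.Lib.helper24.SfoDefs

/-!
# S5981 pieces CNTDE / CNTDO (cores): numbers of solutions of a diagonal quadratic equation

The count for binary forms (piece BINCNT) is an explicit hypothesis here.
-/

set_option autoImplicit false

namespace Cfsg.Agent.Lib.helper24

open Cfsg.Geo

theorem h76_sfo_total {F : Type*} [Field F] [Fintype F] [DecidableEq F] (m : ℕ)
    (g : (Fin m → F) → F) (c : F) :
    ∑ t : F, ((Finset.univ.filter (fun x : Fin m → F => g x = c - t)).card : ℤ) =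
      (Fintype.card F : ℤ) ^ m := by
  have h1 : ∑ t : F, ((Finset.univ.filter (fun x : Fin m → F => g x = c - t)).card : ℤ)
      = ∑ t : F, ∑ x : Fin m → F, (if g x = c - t then (1 : ℤ) else 0) := by
    refine Finset.sum_congr rfl (fun t _ => ?_)
    rw [Finset.card_filter]; push_cast; rfl
  rw [h1, Finset.sum_comm]
  have h2 : ∀ x : Fin m → F, ∑ t : F, (if g x = c - t then (1 : ℤ) else 0) = 1 := by
    intro x
    rw [Finset.sum_eq_single (c - g x)]
    · simp
    · intro t _ ht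
      rw [if_neg]
      intro h
      apply ht
      rw [h]; ring
    · intro h; exact absurd (Finset.mem_univ _) h
  rw [Finset.sum_congr rfl (fun x _ => h2 x)]
  simp

theorem h76_sfo_step {F : Type*} [Field F] [Fintype F] [DecidableEq F] (m : ℕ)
    (d : Fin (m + 2) → F) (e : ℤ)
    (hbin0 : ((Finset.univ.filter
      (fun p : F × F => d 0 * p.1 ^ 2 + d 1 * p.2 ^ 2 = 0)).card : ℤ) =
        (Fintype.card F : ℤ) + ((Fintype.card F : ℤ) - 1) * e)
    (hbin : ∀ t : F, t ≠ 0 → ((Finset.univ.filter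
      (fun p : F × F => d 0 * p.1 ^ 2 + d 1 * p.2 ^ 2 = t)).card : ℤ) =
        (Fintype.card F : ℤ) - e)
    (c : F) :
    ((Finset.univ.filter (fun x : Fin (m + 2) → F => ∑ j, d j * x j ^ 2 = c)).card : ℤ) =
      (Fintype.card F : ℤ) ^ m * ((Fintype.card F : ℤ) - e) +
      (Fintype.card F : ℤ) * e * ((Finset.univ.filter
        (fun x : Fin m → F => ∑ j, d j.succ.succ * x j ^ 2 = c)).card : ℤ) := by
  classical
  have h1 : ((Finset.univ.filter (fun x : Fin (m + 2) → F => ∑ j, d j * x j ^ 2 = c)).card : ℤ) =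
      ∑ p : F × F, ((Finset.univ.filter (fun x : Fin m → F =>
        ∑ j, d j.succ.succ * x j ^ 2 = c - (d 0 * p.1 ^ 2 + d 1 * p.2 ^ 2))).card : ℤ) := by
    simp only [Finset.card_filter, Nat.cast_sum]
    rw [← Equiv.sum_comp (Fin.consEquiv (fun _ : Fin (m + 2) => F)), Fintype.sum_prod_type,
      Fintype.sum_prod_type]
    refine Finset.sum_congr rfl (fun x₀ _ => ?_)
    rw [← Equiv.sum_comp (Fin.consEquiv (fun _ : Fin (m + 1) => F)), Fintype.sum_prod_type]
    refine Finset.sum_congr rfl (fun x₁ _ => Finset.sum_congr rfl (fun v _ => ?_))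
    have hsum : (∑ j, d j * (Fin.consEquiv (fun _ : Fin (m + 2) => F)
        (x₀, Fin.consEquiv (fun _ : Fin (m + 1) => F) (x₁, v))) j ^ 2) =
        d 0 * x₀ ^ 2 + d 1 * x₁ ^ 2 + ∑ j, d j.succ.succ * v j ^ 2 := by
      simp [Fin.consEquiv, Fin.sum_univ_succ, add_assoc]
    rw [hsum]
    have hiff : (d 0 * x₀ ^ 2 + d 1 * x₁ ^ 2 + ∑ j, d j.succ.succ * v j ^ 2 = c) ↔
        (∑ j, d j.succ.succ * v j ^ 2 = c - (d 0 * x₀ ^ 2 + d 1 * x₁ ^ 2)) := by
      constructor <;> intro h <;> linear_combination h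
    simp only [hiff]
  have h2 : ∑ p : F × F, ((Finset.univ.filter (fun x : Fin m → F =>
        ∑ j, d j.succ.succ * x j ^ 2 = c - (d 0 * p.1 ^ 2 + d 1 * p.2 ^ 2))).card : ℤ) =
      ∑ t : F, ((Finset.univ.filter
        (fun p : F × F => d 0 * p.1 ^ 2 + d 1 * p.2 ^ 2 = t)).card : ℤ) *
        ((Finset.univ.filter (fun x : Fin m → F =>
          ∑ j, d j.succ.succ * x j ^ 2 = c - t)).card : ℤ) := by
    have h21 : ∀ t : F, ((Finset.univ.filter
        (fun p : F × F => d 0 * p.1 ^ 2 + d 1 * p.2 ^ 2 = t)).card : ℤ) *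
        ((Finset.univ.filter (fun x : Fin m → F =>
          ∑ j, d j.succ.succ * x j ^ 2 = c - t)).card : ℤ) =
        ∑ p : F × F, if d 0 * p.1 ^ 2 + d 1 * p.2 ^ 2 = t then
          ((Finset.univ.filter (fun x : Fin m → F =>
            ∑ j, d j.succ.succ * x j ^ 2 = c - t)).card : ℤ) else 0 := by
      intro t
      rw [Finset.card_filter (fun p : F × F => d 0 * p.1 ^ 2 + d 1 * p.2 ^ 2 = t)]
      push_cast
      rw [Finset.sum_mul]
      refine Finset.sum_congr rfl (fun p _ => ?_)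
      split_ifs <;> simp
    rw [Finset.sum_congr rfl (fun t _ => h21 t), Finset.sum_comm]
    refine Finset.sum_congr rfl (fun p _ => ?_)
    rw [Finset.sum_ite_eq]
    simp
  have h3 : ∀ t : F, ((Finset.univ.filter
      (fun p : F × F => d 0 * p.1 ^ 2 + d 1 * p.2 ^ 2 = t)).card : ℤ) =
      ((Fintype.card F : ℤ) - e) + (if t = 0 then (Fintype.card F : ℤ) * e else 0) := by
    intro t
    by_cases ht : t = 0
    · subst ht; rw [if_pos rfl, hbin0]; ring
    · rw [if_neg ht, hbin t ht]; ring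
  rw [h1, h2, Finset.sum_congr rfl (fun t _ => by rw [h3 t])]
  simp only [add_mul, Finset.sum_add_distrib, ← Finset.mul_sum]
  rw [h76_sfo_total m (fun x => ∑ j, d j.succ.succ * x j ^ 2) c]
  have h4 : ∑ t : F, (if t = 0 then (Fintype.card F : ℤ) * e else 0) *
      ((Finset.univ.filter (fun x : Fin m → F =>
        ∑ j, d j.succ.succ * x j ^ 2 = c - t)).card : ℤ) =
      (Fintype.card F : ℤ) * e * ((Finset.univ.filter (fun x : Fin m → F =>
        ∑ j, d j.succ.succ * x j ^ 2 = c)).card : ℤ) := by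
    rw [Finset.sum_eq_single 0]
    · simp
    · intro t _ ht; simp [ht]
    · intro h; exact absurd (Finset.mem_univ _) h
  rw [h4]; ring

theorem h76_sfo_even_aux {F : Type*} [Field F] [Fintype F] [DecidableEq F]
    (hbin : ∀ a b : F, a ≠ 0 → b ≠ 0 → ∃ e : ℤ, (e = 1 ∨ e = -1) ∧
      (∀ t : F, t ≠ 0 →
        ((Finset.univ.filter (fun p : F × F => a * p.1 ^ 2 + b * p.2 ^ 2 = t)).card : ℤ) =
          (Fintype.card F : ℤ) - e) ∧
      ((Finset.univ.filter (fun p : F × F => a * p.1 ^ 2 + b * p.2 ^ 2 = 0)).card : ℤ) =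
        (Fintype.card F : ℤ) + ((Fintype.card F : ℤ) - 1) * e)
    (k : ℕ) : ∀ (m : ℕ), m = 2 * k → ∀ d : Fin m → F, (∀ j, d j ≠ 0) →
    ∃ ε : ℤ, (ε = 1 ∨ ε = -1) ∧ ∀ c : F, c ≠ 0 →
      (Fintype.card F : ℤ) *
        ((Finset.univ.filter (fun x : Fin m → F => ∑ j, d j * x j ^ 2 = c)).card : ℤ) =
        (Fintype.card F : ℤ) ^ k * ((Fintype.card F : ℤ) ^ k - ε) := by
  induction k with
  | zero =>
    intro m hm d hd
    have hm0 : m = 0 := by omega
    subst hm0
    refine ⟨1, Or.inl rfl, fun c hc => ?_⟩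
    have hemp : (Finset.univ.filter (fun x : Fin 0 → F => ∑ j, d j * x j ^ 2 = c)) = ∅ := by
      ext x; simp [Ne.symm hc]
    rw [hemp]; simp
  | succ k ih =>
    intro m hm d hd
    obtain ⟨m', rfl⟩ : ∃ m', m = m' + 2 := ⟨2 * k, by omega⟩
    have hm' : m' = 2 * k := by omega
    obtain ⟨e, he, hbt, hb0⟩ := hbin (d 0) (d 1) (hd 0) (hd 1)
    obtain ⟨ε', hε', hN⟩ := ih m' hm' (fun j => d j.succ.succ) (fun j => hd _)
    refine ⟨e * ε', ?_, fun c hc => ?_⟩
    · rcases he with rfl | rfl <;> rcases hε' with rfl | rfl <;> simp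
    · rw [h76_sfo_step m' d e hb0 hbt c, mul_add]
      have h5 : (Fintype.card F : ℤ) * ((Fintype.card F : ℤ) * e *
          ((Finset.univ.filter (fun x : Fin m' → F =>
            ∑ j, d j.succ.succ * x j ^ 2 = c)).card : ℤ)) =
          (Fintype.card F : ℤ) * e * ((Fintype.card F : ℤ) *
          ((Finset.univ.filter (fun x : Fin m' → F =>
            ∑ j, d j.succ.succ * x j ^ 2 = c)).card : ℤ)) := by ring
      rw [h5, hN c hc]
      have hq2 : (Fintype.card F : ℤ) ^ m' = (Fintype.card F : ℤ) ^ k * (Fintype.card F : ℤ) ^ k := by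
        rw [hm']; ring
      rw [hq2]; ring

theorem h76_sfo_count_diag_even_core {F : Type*} [Field F] [Fintype F] [DecidableEq F]
    (hbin : ∀ a b : F, a ≠ 0 → b ≠ 0 → ∃ e : ℤ, (e = 1 ∨ e = -1) ∧
      (∀ t : F, t ≠ 0 →
        ((Finset.univ.filter (fun p : F × F => a * p.1 ^ 2 + b * p.2 ^ 2 = t)).card : ℤ) =
          (Fintype.card F : ℤ) - e) ∧
      ((Finset.univ.filter (fun p : F × F => a * p.1 ^ 2 + b * p.2 ^ 2 = 0)).card : ℤ) =
        (Fintype.card F : ℤ) + ((Fintype.card F : ℤ) - 1) * e)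
    (k : ℕ) (d : Fin (2 * k) → F) (hd : ∀ j, d j ≠ 0) :
    ∃ ε : ℤ, (ε = 1 ∨ ε = -1) ∧ ∀ c : F, c ≠ 0 →
      ((Finset.univ.filter (fun x : Fin (2 * k) → F => ∑ j, d j * x j ^ 2 = c)).card : ℤ) =
        (Fintype.card F : ℤ) ^ (k - 1) * ((Fintype.card F : ℤ) ^ k - ε) := by
  have hq0 : (Fintype.card F : ℤ) ≠ 0 := by exact_mod_cast Fintype.card_ne_zero
  obtain ⟨ε, hε, h⟩ := h76_sfo_even_aux hbin k (2 * k) rfl d hd
  rcases Nat.eq_zero_or_pos k with rfl | hk
  · refine ⟨1, Or.inl rfl, fun c hc => ?_⟩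
    have hemp : (Finset.univ.filter (fun x : Fin (2 * 0) → F => ∑ j, d j * x j ^ 2 = c)) = ∅ := by
      ext x; simp [Ne.symm hc]
    rw [hemp]; simp
  · refine ⟨ε, hε, fun c hc => ?_⟩
    apply mul_left_cancel₀ hq0
    rw [h c hc]
    obtain ⟨k', rfl⟩ : ∃ k', k = k' + 1 := ⟨k - 1, by omega⟩
    simp only [Nat.add_sub_cancel]
    ring

theorem h76_sfo_odd_aux {F : Type*} [Field F] [Fintype F] [DecidableEq F] (h2 : (2 : F) ≠ 0)
    (hbin : ∀ a b : F, a ≠ 0 → b ≠ 0 → ∃ e : ℤ, (e = 1 ∨ e = -1) ∧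
      (∀ t : F, t ≠ 0 →
        ((Finset.univ.filter (fun p : F × F => a * p.1 ^ 2 + b * p.2 ^ 2 = t)).card : ℤ) =
          (Fintype.card F : ℤ) - e) ∧
      ((Finset.univ.filter (fun p : F × F => a * p.1 ^ 2 + b * p.2 ^ 2 = 0)).card : ℤ) =
        (Fintype.card F : ℤ) + ((Fintype.card F : ℤ) - 1) * e)
    (k : ℕ) : ∀ (m : ℕ), m = 2 * k + 1 → ∀ d : Fin m → F, (∀ j, d j ≠ 0) →
    ∃ E : ℤ, (E = 1 ∨ E = -1) ∧ ∀ c : F, c ≠ 0 →
      ((Finset.univ.filter (fun x : Fin m → F => ∑ j, d j * x j ^ 2 = c)).card : ℤ) =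
        (Fintype.card F : ℤ) ^ k * ((Fintype.card F : ℤ) ^ k + E * quadraticChar F c) := by
  have hF2 : ringChar F ≠ 2 := by
    intro h
    apply h2
    have h3 : ((ringChar F : ℕ) : F) = 0 := ringChar.Nat.cast_ringChar
    rw [h] at h3
    exact_mod_cast h3
  induction k with
  | zero =>
    intro m hm d hd
    have hm1 : m = 1 := by omega
    subst hm1
    refine ⟨quadraticChar F (d 0), quadraticChar_dichotomy (hd 0), fun c hc => ?_⟩
    have hcard : (Finset.univ.filter (fun x : Fin 1 → F => ∑ j, d j * x j ^ 2 = c)).card =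
        (Finset.univ.filter (fun y : F => y ^ 2 = c / d 0)).card := by
      refine Finset.card_bij (fun x _ => x 0) ?_ ?_ ?_
      · intro x hx
        simp only [Finset.mem_filter, Finset.mem_univ, true_and, Fin.sum_univ_one] at hx ⊢
        rw [eq_div_iff (hd 0), ← hx]; ring
      · intro x _ y _ hxy
        funext j
        have hj : j = 0 := Subsingleton.elim _ _
        rw [hj]; exact hxy
      · intro y hy
        refine ⟨fun _ => y, ?_, rfl⟩
        simp only [Finset.mem_filter, Finset.mem_univ, true_and, Fin.sum_univ_one] at hy ⊢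
        rw [hy]; field_simp [hd 0]
    have hsq := quadraticChar_card_sqrts hF2 (c / d 0)
    have hset : ({x : F | x ^ 2 = c / d 0} : Set F).toFinset =
        Finset.univ.filter (fun y : F => y ^ 2 = c / d 0) := by
      ext y; simp
    rw [hset] at hsq
    rw [hcard, hsq]
    have hinv : quadraticChar F (d 0)⁻¹ = quadraticChar F (d 0) := by
      have h1 : quadraticChar F (d 0)⁻¹ * quadraticChar F (d 0) = 1 := by
        rw [← map_mul, inv_mul_cancel₀ (hd 0), map_one]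
      have h2' := quadraticChar_sq_one (hd 0)
      calc quadraticChar F (d 0)⁻¹ = quadraticChar F (d 0)⁻¹ * quadraticChar F (d 0) ^ 2 := by
            rw [h2', mul_one]
        _ = (quadraticChar F (d 0)⁻¹ * quadraticChar F (d 0)) * quadraticChar F (d 0) := by ring
        _ = quadraticChar F (d 0) := by rw [h1, one_mul]
    rw [div_eq_mul_inv, map_mul, hinv]
    ring
  | succ k ih =>
    intro m hm d hd
    obtain ⟨m', rfl⟩ : ∃ m', m = m' + 2 := ⟨2 * k + 1, by omega⟩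
    have hm' : m' = 2 * k + 1 := by omega
    obtain ⟨e, he, hbt, hb0⟩ := hbin (d 0) (d 1) (hd 0) (hd 1)
    obtain ⟨E', hE', hN⟩ := ih m' hm' (fun j => d j.succ.succ) (fun j => hd _)
    refine ⟨e * E', ?_, fun c hc => ?_⟩
    · rcases he with rfl | rfl <;> rcases hE' with rfl | rfl <;> simp
    · rw [h76_sfo_step m' d e hb0 hbt c, hN c hc]
      have hq2 : (Fintype.card F : ℤ) ^ m' =
          (Fintype.card F : ℤ) ^ k * (Fintype.card F : ℤ) ^ k * (Fintype.card F : ℤ) := by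
        rw [hm']; ring
      rw [hq2]; ring

theorem h76_sfo_count_diag_odd_core {F : Type*} [Field F] [Fintype F] [DecidableEq F]
    (h2 : (2 : F) ≠ 0)
    (hbin : ∀ a b : F, a ≠ 0 → b ≠ 0 → ∃ e : ℤ, (e = 1 ∨ e = -1) ∧
      (∀ t : F, t ≠ 0 →
        ((Finset.univ.filter (fun p : F × F => a * p.1 ^ 2 + b * p.2 ^ 2 = t)).card : ℤ) =
          (Fintype.card F : ℤ) - e) ∧
      ((Finset.univ.filter (fun p : F × F => a * p.1 ^ 2 + b * p.2 ^ 2 = 0)).card : ℤ) =
        (Fintype.card F : ℤ) + ((Fintype.card F : ℤ) - 1) * e)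
    (k : ℕ) (d : Fin (2 * k + 1) → F) (hd : ∀ j, d j ≠ 0) :
    ∃ E : ℤ, (E = 1 ∨ E = -1) ∧
      (∀ c : F, c ≠ 0 → IsSquare c →
        ((Finset.univ.filter (fun x : Fin (2 * k + 1) → F => ∑ j, d j * x j ^ 2 = c)).card : ℤ) =
          (Fintype.card F : ℤ) ^ k * ((Fintype.card F : ℤ) ^ k + E)) ∧
      (∀ c : F, c ≠ 0 → ¬ IsSquare c →
        ((Finset.univ.filter (fun x : Fin (2 * k + 1) → F => ∑ j, d j * x j ^ 2 = c)).card : ℤ) =
          (Fintype.card F : ℤ) ^ k * ((Fintype.card F : ℤ) ^ k - E)) := by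
  obtain ⟨E, hE, h⟩ := h76_sfo_odd_aux h2 hbin k (2 * k + 1) rfl d hd
  refine ⟨E, hE, fun c hc hsq => ?_, fun c hc hsq => ?_⟩
  · rw [h c hc, (quadraticChar_one_iff_isSquare hc).2 hsq]; ring
  · rw [h c hc, quadraticChar_neg_one_iff_not_isSquare.2 hsq]; ring

end Cfsg.Agent.Lib.helper24
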