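import Mathlib
import Cfsg.Agent.Lib.helper24.SfoDefs
import Cfsg.Agent.Lib.helper57.SfoBINCNT
import Cfsg.Agent.Lib.helper76.SfoCNTDcore

/-!
# S5981 pieces CNTDE / CNTDO: numbers of solutions of a diagonal quadratic equation

Racing copies under prefixed names (statements verbatim from the skeleton).
-/

set_option autoImplicit false

namespace Cfsg.Agent.Lib.helper24

open Cfsg.Geo

/-- CNTDE -/
theorem h76_sfo_count_diag_even {F : Type*} [Field F] [Fintype F] [DecidableEq F] (h2 : (2 : F) ≠ 0)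
    (k : ℕ) (d : Fin (2 * k) → F) (hd : ∀ j, d j ≠ 0) :
    ∃ ε : ℤ, (ε = 1 ∨ ε = -1) ∧ ∀ c : F, c ≠ 0 →
      ((Finset.univ.filter (fun x : Fin (2 * k) → F => ∑ j, d j * x j ^ 2 = c)).card : ℤ) =
        (Fintype.card F : ℤ) ^ (k - 1) * ((Fintype.card F : ℤ) ^ k - ε) :=
  h76_sfo_count_diag_even_core (fun a b ha hb => sfo_bin_count h2 a b ha hb) k d hd

/-- CNTDO -/
theorem h76_sfo_count_diag_odd {F : Type*} [Field F] [Fintype F] [DecidableEq F] (h2 : (2 : F) ≠ 0)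
    (k : ℕ) (d : Fin (2 * k + 1) → F) (hd : ∀ j, d j ≠ 0) :
    ∃ E : ℤ, (E = 1 ∨ E = -1) ∧
      (∀ c : F, c ≠ 0 → IsSquare c →
        ((Finset.univ.filter (fun x : Fin (2 * k + 1) → F => ∑ j, d j * x j ^ 2 = c)).card : ℤ) =
          (Fintype.card F : ℤ) ^ k * ((Fintype.card F : ℤ) ^ k + E)) ∧
      (∀ c : F, c ≠ 0 → ¬ IsSquare c →
        ((Finset.univ.filter (fun x : Fin (2 * k + 1) → F => ∑ j, d j * x j ^ 2 = c)).card : ℤ) =
          (Fintype.card F : ℤ) ^ k * ((Fintype.card F : ℤ) ^ k - E)) :=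
  h76_sfo_count_diag_odd_core h2 (fun a b ha hb => sfo_bin_count h2 a b ha hb) k d hd

end Cfsg.Agent.Lib.helper24
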