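import Mathlib
import Cfsg.Agent.Lib.helper24.SfuDefs

/-!
# S5982 piece CNTSTD (core): number of norm-one vectors of the standard unitary form

The fibre count of the norm map (piece NORMFIB) is an explicit hypothesis here.
-/

set_option autoImplicit false

namespace Cfsg.Agent.Lib.helper24

open Module Matrix Cfsg.Geo

theorem h76_sfu_sub_pow {F : Type*} [Field F] [Fintype F] (q₀ : ℕ)
    (hcard : Fintype.card F = q₀ ^ 2) (a b : F) : (a - b) ^ q₀ = a ^ q₀ - b ^ q₀ := by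
  obtain ⟨n, hp, hn⟩ := FiniteField.card F (ringChar F)
  have hfact : Fact (ringChar F).Prime := ⟨hp⟩
  have hdvd : q₀ ∣ ringChar F ^ (n : ℕ) := by
    rw [← hn, hcard]; exact dvd_pow_self q₀ (by norm_num)
  obtain ⟨j, -, rfl⟩ := (Nat.dvd_prime_pow hp).1 hdvd
  exact sub_pow_char_pow a b j

theorem h76_sfu_norm_fix {F : Type*} [Field F] [Fintype F] (q₀ : ℕ)
    (hcard : Fintype.card F = q₀ ^ 2) (x : F) : (x ^ (q₀ + 1)) ^ q₀ = x ^ (q₀ + 1) := by
  have h := FiniteField.pow_card x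
  rw [hcard] at h
  calc (x ^ (q₀ + 1)) ^ q₀ = x ^ (q₀ ^ 2) * x ^ q₀ := by ring
    _ = x * x ^ q₀ := by rw [h]
    _ = x ^ (q₀ + 1) := by ring

theorem h76_sfu_cnt_succ {F : Type*} [Field F] [Fintype F] [DecidableEq F] (q₀ m : ℕ) (c : F) :
    ((Finset.univ.filter (fun v : Fin (m + 1) → F => ∑ k, v k ^ (q₀ + 1) = c)).card : ℤ) =
      ∑ x : F, ((Finset.univ.filter
        (fun v : Fin m → F => ∑ k, v k ^ (q₀ + 1) = c - x ^ (q₀ + 1))).card : ℤ) := by
  simp only [Finset.card_filter, Nat.cast_sum]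
  rw [← Equiv.sum_comp (Fin.consEquiv (fun _ : Fin (m + 1) => F)), Fintype.sum_prod_type]
  refine Finset.sum_congr rfl (fun x _ => Finset.sum_congr rfl (fun v _ => ?_))
  simp [Fin.consEquiv, Fin.sum_univ_succ, eq_sub_iff_add_eq, add_comm]

theorem h76_sfu_cnt_formula {F : Type*} [Field F] [Fintype F] [DecidableEq F] (q₀ : ℕ)
    (hcard : Fintype.card F = q₀ ^ 2)
    (hfib : ∀ c : F, c ≠ 0 → c ^ q₀ = c →
      (Finset.univ.filter (fun x : F => x ^ (q₀ + 1) = c)).card = q₀ + 1)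
    (m : ℕ) : ∀ c : F, c ^ q₀ = c →
      (q₀ : ℤ) * ((Finset.univ.filter
        (fun v : Fin m → F => ∑ k, v k ^ (q₀ + 1) = c)).card : ℤ) =
        if c = 0 then (q₀ : ℤ) ^ (2 * m) + (-1) ^ m * ((q₀ : ℤ) - 1) * (q₀ : ℤ) ^ m
        else (q₀ : ℤ) ^ (2 * m) - (-1) ^ m * (q₀ : ℤ) ^ m := by
  induction m with
  | zero =>
    intro c _
    by_cases hc : c = 0
    · subst hc
      simp
    · have hemp : (Finset.univ.filter (fun v : Fin 0 → F => ∑ k, v k ^ (q₀ + 1) = c)) = ∅ := by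
        ext v; simp [Ne.symm hc]
      rw [hemp]; simp [hc]
  | succ m ih =>
    intro c hc
    rw [h76_sfu_cnt_succ, Finset.mul_sum]
    have hterm : ∀ x : F, (q₀ : ℤ) * ((Finset.univ.filter
        (fun v : Fin m → F => ∑ k, v k ^ (q₀ + 1) = c - x ^ (q₀ + 1))).card : ℤ) =
        if x ^ (q₀ + 1) = c then
          (q₀ : ℤ) ^ (2 * m) + (-1) ^ m * ((q₀ : ℤ) - 1) * (q₀ : ℤ) ^ m
        else (q₀ : ℤ) ^ (2 * m) - (-1) ^ m * (q₀ : ℤ) ^ m := by
      intro x
      have hfix : (c - x ^ (q₀ + 1)) ^ q₀ = c - x ^ (q₀ + 1) := by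
        rw [h76_sfu_sub_pow q₀ hcard, hc, h76_sfu_norm_fix q₀ hcard]
      rw [ih _ hfix]
      by_cases hx : x ^ (q₀ + 1) = c
      · rw [if_pos hx, if_pos (by rw [hx, sub_self])]
      · rw [if_neg hx, if_neg (fun h => hx (sub_eq_zero.1 h).symm)]
    rw [Finset.sum_congr rfl (fun x _ => hterm x)]
    rw [Finset.sum_ite, Finset.sum_const, Finset.sum_const]
    have htot : ((Finset.univ.filter (fun x : F => x ^ (q₀ + 1) = c)).card : ℤ) +
        ((Finset.univ.filter (fun x : F => ¬ x ^ (q₀ + 1) = c)).card : ℤ) = (q₀ : ℤ) ^ 2 := by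
      have h := Finset.card_filter_add_card_filter_not (s := (Finset.univ : Finset F))
        (fun x : F => x ^ (q₀ + 1) = c)
      rw [Finset.card_univ, hcard] at h
      exact_mod_cast h
    by_cases hc0 : c = 0
    · subst hc0
      have h1 : (Finset.univ.filter (fun x : F => x ^ (q₀ + 1) = 0)).card = 1 := by
        have h0 : (Finset.univ.filter (fun x : F => x ^ (q₀ + 1) = 0)) = {0} := by
          ext x; simp
        rw [h0]; simp
      rw [h1] at htot ⊢
      rw [if_pos rfl]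
      have h2 : ((Finset.univ.filter (fun x : F => ¬ x ^ (q₀ + 1) = 0)).card : ℤ) =
          (q₀ : ℤ) ^ 2 - 1 := by
        push_cast at htot; linarith
      simp only [nsmul_eq_mul, h2]
      push_cast
      ring
    · have h1 := hfib c hc0 hc
      rw [h1] at htot ⊢
      rw [if_neg hc0]
      have h2 : ((Finset.univ.filter (fun x : F => ¬ x ^ (q₀ + 1) = c)).card : ℤ) =
          (q₀ : ℤ) ^ 2 - ((q₀ : ℤ) + 1) := by
        push_cast at htot; linarith
      simp only [nsmul_eq_mul, h2]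
      push_cast
      ring

theorem h76_sfu_count_std_core {F : Type*} [Field F] [Fintype F] [DecidableEq F] (q₀ : ℕ)
    (hcard : Fintype.card F = q₀ ^ 2)
    (hfib : ∀ c : F, c ≠ 0 → c ^ q₀ = c →
      (Finset.univ.filter (fun x : F => x ^ (q₀ + 1) = c)).card = q₀ + 1) (m : ℕ) :
    ((Finset.univ.filter (fun v : Fin m → F => ∑ k, v k ^ (q₀ + 1) = 1)).card : ℤ) =
      (q₀ : ℤ) ^ (m - 1) * ((q₀ : ℤ) ^ m - (-1) ^ m) := by
  have hq0 : (q₀ : ℤ) ≠ 0 := by
    have h0 : q₀ ≠ 0 := by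
      rintro rfl
      have hpos := Fintype.card_pos (α := F)
      rw [hcard] at hpos; simp at hpos
    exact_mod_cast h0
  have h := h76_sfu_cnt_formula q₀ hcard hfib m 1 (one_pow _)
  rw [if_neg one_ne_zero] at h
  apply mul_left_cancel₀ hq0
  rw [h]
  rcases Nat.eq_zero_or_pos m with rfl | hm
  · simp
  · obtain ⟨k, rfl⟩ : ∃ k, m = k + 1 := ⟨m - 1, by omega⟩
    simp only [Nat.add_sub_cancel]
    ring

end Cfsg.Agent.Lib.helper24
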