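import Mathlib
import Cfsg.Agent.Lib.helper24.SfuDefs
import Cfsg.Agent.Lib.helper82.SfuNORMFIB
import Cfsg.Agent.Lib.helper76.SfuCNTSTDcore

/-!
# S5982 piece CNTSTD: number of norm-one vectors of the standard unitary form

Racing copy under the prefixed name `h76_sfu_count_std` (statement verbatim from the skeleton).
-/

set_option autoImplicit false

namespace Cfsg.Agent.Lib.helper24

open Module Matrix Cfsg.Geo

/-- CNTSTD -/
theorem h76_sfu_count_std {F : Type*} [Field F] [Fintype F] [DecidableEq F] (q₀ : ℕ)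
    (hcard : Fintype.card F = q₀ ^ 2) (m : ℕ) :
    ((Finset.univ.filter (fun v : Fin m → F => ∑ k, v k ^ (q₀ + 1) = 1)).card : ℤ) =
      (q₀ : ℤ) ^ (m - 1) * ((q₀ : ℤ) ^ m - (-1) ^ m) :=
  h76_sfu_count_std_core q₀ hcard (fun c hc hc₀ => h82_sfu_norm_fiber q₀ hcard c hc hc₀) m

end Cfsg.Agent.Lib.helper24
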