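import Mathlib
import Cfsg.Agent.Lib.helper24.SroReal
import Cfsg.Agent.Lib.helper49.SreNEGM
import Cfsg.Agent.Lib.helper63.SuTI10
import Cfsg.Agent.Lib.helper76.StpR2SB

/-! S5987 split (helper24), piece MR2B (insurance copy by helper76, prefixed name
`h76_stm_neg_suff`, verbatim statement of `stm_neg_suff`): `q` odd, an isometry `x` of the minus
form with `x² = -1` fixes a totally singular `m`-space for every even `m ≤ d - 1`.

Generic core `h76_stm_neg_gen`: in a nondegenerate quadratic space of dimension `2d` over a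
finite field of odd order, an isometry `T` with `T² = -1` fixes a totally singular `m`-space for
every even `m ≤ d`.
* `q ≡ 1 (mod 4)`: a subspace of the `ι₀`-eigenspace (`ι₀² = -1`), which is totally singular of
  dimension `d`.
* `q ≡ 3 (mod 4)`: `h76_stp_neg_ts` (module `helper76.StpR2SB`). -/

set_option autoImplicit false
set_option linter.unusedSectionVars false
set_option linter.unusedVariables false
set_option linter.style.haveILetI false
set_option linter.deprecated false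

namespace Cfsg.Agent.Lib.helper24

open Module Cfsg.Agent.Lib.helper45 Cfsg.Agent.Lib.helper49

universe u

section stmr2b

variable {F : Type u} [Field F] [Fintype F]

/-- generic core: an isometry `T` with `T² = -1` of a nondegenerate quadratic space of dimension
`2d` (`q` odd) fixes a totally singular `m`-space for every even `m ≤ d`. -/
theorem h76_stm_neg_gen {V : Type u} [AddCommGroup V] [Module F V] [FiniteDimensional F V]
    (Q : QuadraticForm F V) (hodd : Odd (Fintype.card F))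
    (hnd : ∀ v, (∀ w, QuadraticMap.polar Q v w = 0) → v = 0) (d : ℕ)
    (hdimV : finrank F V = 2 * d) (T : Module.End F V) (hT : ∀ v, Q (T v) = Q v)
    (hTT : ∀ v, T (T v) = -v) (m : ℕ) (hme : Even m) (hmd : m ≤ d) :
    ∃ W : Submodule F V, finrank F W = m ∧ (∀ w ∈ W, Q w = 0) ∧ ∀ w ∈ W, T w ∈ W := by
  classical
  have h2 : (2 : F) ≠ 0 := by
    intro h
    have hdvd : ringChar F ∣ 2 := by
      apply (ringChar.spec F 2).mp
      exact_mod_cast h
    have hprime : (ringChar F).Prime := CharP.char_is_prime F (ringChar F)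
    have hchar : ringChar F = 2 := (Nat.prime_dvd_prime_iff_eq hprime Nat.prime_two).mp hdvd
    have h3 := FiniteField.even_card_iff_char_two.mp hchar
    obtain ⟨c, hc⟩ := hodd
    omega
  have hT2 : T * T = -1 := by
    apply LinearMap.ext
    intro v
    rw [Module.End.mul_apply, hTT]
    rfl
  have hTop : SpNd (QuadraticMap.polarBilin Q) ⊤ := by
    intro u _ hu
    apply hnd u
    intro w
    have := hu w Submodule.mem_top
    rwa [QuadraticMap.polarBilin_apply_apply] at this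
  have hdimtop : finrank F (⊤ : Submodule F V) = 2 * d := by
    rw [finrank_top, hdimV]
  by_cases h4 : Fintype.card F % 4 = 3
  · have hns : ∀ a : F, a * a ≠ -1 := by
      intro a ha
      exact FiniteField.isSquare_neg_one_iff.mp ⟨a, ha.symm⟩ h4
    obtain ⟨k, hk⟩ := hme
    obtain ⟨U, -, hUQ, hUinv, hUdim⟩ := h76_stp_neg_ts Q h2 T hT hT2 hns k ⊤ hTop
      (fun _ _ => Submodule.mem_top) d hdimtop (by omega)
    exact ⟨U, by omega, hUQ, hUinv⟩
  · obtain ⟨ι₀, hι⟩ := FiniteField.isSquare_neg_one_iff.mpr h4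
    have hι₀ : ι₀ * ι₀ = -1 := hι.symm
    have hι0 : ι₀ ≠ 0 := by
      rintro rfl
      rw [mul_zero] at hι₀
      exact one_ne_zero (neg_eq_zero.mp hι₀.symm)
    obtain ⟨Wp, hWp⟩ : ∃ Wp : Submodule F V,
        Wp = LinearMap.ker (T - ι₀ • (1 : Module.End F V)) := ⟨_, rfl⟩
    obtain ⟨Wm, hWm⟩ : ∃ Wm : Submodule F V,
        Wm = LinearMap.ker (T + ι₀ • (1 : Module.End F V)) := ⟨_, rfl⟩
    have hp : ∀ w ∈ Wp, T w = ι₀ • w := by
      intro w hw
      rw [hWp, LinearMap.mem_ker, LinearMap.sub_apply, LinearMap.smul_apply,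
        Module.End.one_apply, sub_eq_zero] at hw
      exact hw
    have hm' : ∀ w ∈ Wm, T w = -(ι₀ • w) := by
      intro w hw
      rw [hWm, LinearMap.mem_ker, LinearMap.add_apply, LinearMap.smul_apply,
        Module.End.one_apply] at hw
      exact eq_neg_of_add_eq_zero_left hw
    have hQp : ∀ w ∈ Wp, Q w = 0 := by
      intro w hw
      have h1 := hT w
      rw [hp w hw, QuadraticMap.map_smul, hι₀, smul_eq_mul] at h1
      have h3 : (2 : F) * Q w = 0 := by linear_combination -h1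
      exact (mul_eq_zero.mp h3).resolve_left h2
    have hQm : ∀ w ∈ Wm, Q w = 0 := by
      intro w hw
      have h1 := hT w
      rw [hm' w hw, QuadraticMap.map_neg, QuadraticMap.map_smul, hι₀, smul_eq_mul] at h1
      have h3 : (2 : F) * Q w = 0 := by linear_combination -h1
      exact (mul_eq_zero.mp h3).resolve_left h2
    have hinf : Wp ⊓ Wm = ⊥ := by
      rw [eq_bot_iff]
      intro w hw
      obtain ⟨hw1, hw2⟩ := Submodule.mem_inf.mp hw
      have h1 := hp w hw1
      have h3 := hm' w hw2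
      have h5 : ((2 : F) * ι₀) • w = 0 := by
        rw [mul_smul, two_smul]
        have h6 : ι₀ • w = -(ι₀ • w) := h1.symm.trans h3
        calc ι₀ • w + ι₀ • w = -(ι₀ • w) + ι₀ • w := by rw [← h6]
          _ = 0 := neg_add_cancel _
      rw [Submodule.mem_bot]
      exact (smul_eq_zero.mp h5).resolve_left (mul_ne_zero h2 hι0)
    have hsup : Wp ⊔ Wm = ⊤ := by
      rw [eq_top_iff]
      intro w _
      have e : w = (2 : F)⁻¹ • (w - ι₀ • T w) + (2 : F)⁻¹ • (w + ι₀ • T w) := by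
        rw [← smul_add]
        have h5 : w - ι₀ • T w + (w + ι₀ • T w) = (2 : F) • w := by rw [two_smul]; abel
        rw [h5, smul_smul, inv_mul_cancel₀ h2, one_smul]
      rw [e]
      apply Submodule.add_mem_sup
      · apply Submodule.smul_mem
        rw [hWp, LinearMap.mem_ker, LinearMap.sub_apply, LinearMap.smul_apply,
          Module.End.one_apply, map_sub, map_smul, hTT, smul_sub, smul_smul, hι₀]
        simp only [smul_neg, neg_smul, one_smul, sub_neg_eq_add]
        abel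
      · apply Submodule.smul_mem
        rw [hWm, LinearMap.mem_ker, LinearMap.add_apply, LinearMap.smul_apply,
          Module.End.one_apply, map_add, map_smul, hTT, smul_add, smul_smul, hι₀]
        simp only [smul_neg, neg_smul, one_smul]
        abel
    have hdim := Submodule.finrank_sup_add_finrank_inf_eq Wp Wm
    rw [hsup, hinf, finrank_bot, add_zero, hdimtop] at hdim
    have hts : ∀ (U : Submodule F V), (∀ u ∈ U, Q u = 0) →
        ∀ u ∈ U, ∀ v ∈ U, QuadraticMap.polarBilin Q u v = 0 := by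
      intro U hU u hu v hv
      rw [QuadraticMap.polarBilin_apply_apply]
      unfold QuadraticMap.polar
      rw [hU u hu, hU v hv, hU (u + v) (U.add_mem hu hv)]
      ring
    have h1 := sq_ti_le (QuadraticMap.polarBilin Q) ⊤ Wp hTop le_top (hts Wp hQp)
    have h3 := sq_ti_le (QuadraticMap.polarBilin Q) ⊤ Wm hTop le_top (hts Wm hQm)
    rw [hdimtop] at h1 h3
    have hWpdim : finrank F Wp = d := by omega
    obtain ⟨W, hWle, hWdim⟩ := Cfsg.Agent.Lib.helper63.SuTI.exists_sub_finrank Wp m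
      (by rw [hWpdim]; exact hmd)
    refine ⟨W, hWdim, fun w hw => hQp w (hWle hw), ?_⟩
    intro w hw
    rw [hp w (hWle hw)]
    exact W.smul_mem _ hw

/-- PIECE MR2B (verbatim statement of `stm_neg_suff`, prefixed name). -/
theorem h76_stm_neg_suff (hodd : Odd (Fintype.card F)) (d m : ℕ) (hd : 4 ≤ d) (hm : 1 ≤ m)
    (hmd : m + 1 ≤ d) (hme : Even m) (a b : F)
    (hab : ∀ x y : F, x ^ 2 + a * x * y + b * y ^ 2 = 0 → x = 0 ∧ y = 0)
    (x : GL ((Fin (d - 1) ⊕ Fin (d - 1)) ⊕ Fin 2) F)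
    (hiso : ∀ u : ((Fin (d - 1) ⊕ Fin (d - 1)) ⊕ Fin 2) → F, Cfsg.quadFormMinus (d - 1) F a b
      ((x : Matrix ((Fin (d - 1) ⊕ Fin (d - 1)) ⊕ Fin 2) ((Fin (d - 1) ⊕ Fin (d - 1)) ⊕ Fin 2) F).mulVec u) = Cfsg.quadFormMinus (d - 1) F a b u)
    (hx2 : (x : Matrix ((Fin (d - 1) ⊕ Fin (d - 1)) ⊕ Fin 2) ((Fin (d - 1) ⊕ Fin (d - 1)) ⊕ Fin 2) F) *
      (x : Matrix ((Fin (d - 1) ⊕ Fin (d - 1)) ⊕ Fin 2) ((Fin (d - 1) ⊕ Fin (d - 1)) ⊕ Fin 2) F) = -1) :
    ∃ W : Submodule F (((Fin (d - 1) ⊕ Fin (d - 1)) ⊕ Fin 2) → F), (finrank F W = m ∧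
      Cfsg.Geo.IsTotallySingularQuad (Cfsg.quadFormMinus (d - 1) F a b) W) ∧
      W.map (Matrix.toLin' (x : Matrix ((Fin (d - 1) ⊕ Fin (d - 1)) ⊕ Fin 2) ((Fin (d - 1) ⊕ Fin (d - 1)) ⊕ Fin 2) F)) ≤ W := by
  classical
  obtain ⟨Q, hQ⟩ : ∃ Q : QuadraticForm F (((Fin (d - 1) ⊕ Fin (d - 1)) ⊕ Fin 2) → F),
      Q = minusForm (d - 1) F a b := ⟨_, rfl⟩
  have hQc : ∀ v, Q v = Cfsg.quadFormMinus (d - 1) F a b v := fun v => by rw [hQ]; rfl
  obtain ⟨T, hTdef⟩ : ∃ T : Module.End F (((Fin (d - 1) ⊕ Fin (d - 1)) ⊕ Fin 2) → F),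
      T = Matrix.toLin' (x : Matrix ((Fin (d - 1) ⊕ Fin (d - 1)) ⊕ Fin 2)
        ((Fin (d - 1) ⊕ Fin (d - 1)) ⊕ Fin 2) F) := ⟨_, rfl⟩
  have hT : ∀ v, Q (T v) = Q v := by
    intro v
    rw [hQc, hQc, hTdef, Matrix.toLin'_apply]
    exact hiso v
  have hTT : ∀ v, T (T v) = -v := by
    intro v
    rw [hTdef, Matrix.toLin'_apply, Matrix.toLin'_apply, Matrix.mulVec_mulVec, hx2,
      Matrix.neg_mulVec, Matrix.one_mulVec]
  have hnd : ∀ v, (∀ w, QuadraticMap.polar Q v w = 0) → v = 0 := by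
    rw [hQ]
    exact forall_of_nondegenerate _
      (Cfsg.Agent.Lib.helper42.minusForm_nondegenerate (d - 1) a b hab)
  have hdimV : finrank F (((Fin (d - 1) ⊕ Fin (d - 1)) ⊕ Fin 2) → F) = 2 * d := by
    rw [Module.finrank_fintype_fun_eq_card, Fintype.card_sum, Fintype.card_sum, Fintype.card_fin,
      Fintype.card_fin]
    omega
  obtain ⟨W, h1, h3, h4⟩ := h76_stm_neg_gen Q hodd hnd d hdimV T hT hTT m hme (by omega)
  refine ⟨W, ⟨h1, fun w hw => by rw [← hQc]; exact h3 w hw⟩, ?_⟩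
  rintro _ ⟨w, hw, rfl⟩
  rw [← hTdef]
  exact h4 w hw

end stmr2b

end Cfsg.Agent.Lib.helper24
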