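import Mathlib
import Cfsg.Agent.Lib.helper24.StsDefs
import Cfsg.Agent.Lib.helper49.SroOMM
import Cfsg.Agent.Lib.helper4.StpR2NB

/-! S5987 split (helper24), piece MR2N (insurance copy by helper76, prefixed name
`h76_stm_neg_bad`, verbatim statement of `stm_neg_bad`): for `q ≡ 7 (mod 8)` and `d` odd, an
element of `Ω⁻_{2d}(q)` with square `-1` (helper49's `sro_sq_neg_minus`); it is not a scalar and
has no invariant subspace of odd dimension (helper4's `h4_no_odd_invariant`). -/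

set_option autoImplicit false
set_option linter.unusedSectionVars false
set_option linter.unusedVariables false

namespace Cfsg.Agent.Lib.helper24

open Module Cfsg.Agent.Lib.helper45 Cfsg.Agent.Lib.helper49

universe u

section stmr2n

variable {F : Type u} [Field F] [Fintype F]

/-- PIECE MR2N (verbatim statement of `stm_neg_bad`, prefixed name). -/
theorem h76_stm_neg_bad (hodd : Odd (Fintype.card F)) (h8 : Fintype.card F % 8 = 7) (d : ℕ)
    (hd : 4 ≤ d) (hdo : Odd d) (a b : F)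
    (hab : ∀ x y : F, x ^ 2 + a * x * y + b * y ^ 2 = 0 → x = 0 ∧ y = 0) :
    ∃ x : GL ((Fin (d - 1) ⊕ Fin (d - 1)) ⊕ Fin 2) F,
      x ∈ Cfsg.Geo.omegaGL (Cfsg.quadFormMinus (d - 1) F a b) ∧
      (x : Matrix ((Fin (d - 1) ⊕ Fin (d - 1)) ⊕ Fin 2) ((Fin (d - 1) ⊕ Fin (d - 1)) ⊕ Fin 2) F) *
        (x : Matrix ((Fin (d - 1) ⊕ Fin (d - 1)) ⊕ Fin 2) ((Fin (d - 1) ⊕ Fin (d - 1)) ⊕ Fin 2) F) = -1 ∧
      (∀ z : F, (x : Matrix ((Fin (d - 1) ⊕ Fin (d - 1)) ⊕ Fin 2) ((Fin (d - 1) ⊕ Fin (d - 1)) ⊕ Fin 2) F) ≠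
        z • (1 : Matrix ((Fin (d - 1) ⊕ Fin (d - 1)) ⊕ Fin 2) ((Fin (d - 1) ⊕ Fin (d - 1)) ⊕ Fin 2) F)) ∧
      ∀ W : Submodule F (((Fin (d - 1) ⊕ Fin (d - 1)) ⊕ Fin 2) → F), Odd (finrank F W) →
        W.map (Matrix.toLin' (x : Matrix ((Fin (d - 1) ⊕ Fin (d - 1)) ⊕ Fin 2) ((Fin (d - 1) ⊕ Fin (d - 1)) ⊕ Fin 2) F)) ≤ W → False := by
  classical
  have hns : ¬ IsSquare (-1 : F) := by
    rw [FiniteField.isSquare_neg_one_iff]
    omega
  obtain ⟨x, hxΩ, hx2⟩ := (sro_sq_neg_minus hodd d (by omega) a b hab).2 ⟨hdo, h8⟩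
  refine ⟨x, hxΩ, hx2, ?_, ?_⟩
  · intro z hz
    rw [hz] at hx2
    apply hns
    refine ⟨z, ?_⟩
    have h1 := congrFun (congrFun hx2 (Sum.inr 0)) (Sum.inr 0)
    simp only [Matrix.mul_smul, Matrix.smul_apply,
      Matrix.one_apply_eq, smul_eq_mul, mul_one, Matrix.neg_apply] at h1
    exact h1.symm
  · intro W hWodd hW
    apply hns
    refine h4_no_odd_invariant (Matrix.toLin' (x : Matrix ((Fin (d - 1) ⊕ Fin (d - 1)) ⊕ Fin 2)
      ((Fin (d - 1) ⊕ Fin (d - 1)) ⊕ Fin 2) F)) ?_ W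
      (fun w hw => hW (Submodule.mem_map_of_mem hw)) hWodd
    intro v
    rw [Matrix.toLin'_apply, Matrix.toLin'_apply, Matrix.mulVec_mulVec, hx2, Matrix.neg_mulVec,
      Matrix.one_mulVec]

end stmr2n

end Cfsg.Agent.Lib.helper24
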