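import Cfsg.Agent.Lib.helper81.WTDefs

/-!
# S4414 piece E3 (racing copy): fixed points commute with base change (hard inclusion)
-/

set_option autoImplicit false

namespace Cfsg.Agent.Lib.helper81.WT

open scoped TensorProduct

universe u v w

/-- coordinate map `F ⊗ E → E` attached to a linear functional on `F`. -/
noncomputable def helper76_coord {E : Type v} [AddCommGroup E] [Module (ZMod 2) E]
    (F : Type w) [Field F] [Algebra (ZMod 2) F] (l : F →ₗ[ZMod 2] ZMod 2) :
    F ⊗[ZMod 2] E →ₗ[ZMod 2] E :=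
  (TensorProduct.lid (ZMod 2) E).toLinearMap ∘ₗ (l.rTensor E)

theorem helper76_coord_tmul {E : Type v} [AddCommGroup E] [Module (ZMod 2) E]
    (F : Type w) [Field F] [Algebra (ZMod 2) F] (l : F →ₗ[ZMod 2] ZMod 2) (a : F) (e : E) :
    helper76_coord F l (a ⊗ₜ[ZMod 2] e) = l a • e := by
  simp [helper76_coord]

theorem helper76_coord_bc {S : Type u} [Group S] {E : Type v} [AddCommGroup E]
    [Module (ZMod 2) E] (ρ : Representation (ZMod 2) S E) (F : Type w) [Field F]
    [Algebra (ZMod 2) F] (l : F →ₗ[ZMod 2] ZMod 2) (s : S) (x : F ⊗[ZMod 2] E) :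
    helper76_coord F l (bc F ρ s x) = ρ s (helper76_coord F l x) := by
  induction x using TensorProduct.induction_on with
  | zero => simp
  | tmul a e => rw [bc_tmul, helper76_coord_tmul, helper76_coord_tmul, map_smul]
  | add x y hx hy => rw [map_add, map_add, map_add, map_add, hx, hy]

theorem helper76_decomp {E : Type v} [AddCommGroup E] [Module (ZMod 2) E]
    (F : Type w) [Field F] [Algebra (ZMod 2) F] {ι : Type*} [Fintype ι]
    (b : Module.Basis ι (ZMod 2) F) (x : F ⊗[ZMod 2] E) :
    x = ∑ j, b j ⊗ₜ[ZMod 2] helper76_coord F (b.coord j) x := by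
  induction x using TensorProduct.induction_on with
  | zero => simp
  | tmul a e =>
    simp only [helper76_coord_tmul]
    have h1 : ∀ j, b j ⊗ₜ[ZMod 2] ((b.coord j) a • e) = ((b.coord j) a • b j) ⊗ₜ[ZMod 2] e :=
      fun j => (TensorProduct.smul_tmul _ _ _).symm
    rw [Finset.sum_congr rfl (fun j _ => h1 j), ← TensorProduct.sum_tmul]
    congr 1
    exact (b.sum_repr a).symm
  | add x y hx hy =>
    simp only [map_add, TensorProduct.tmul_add, Finset.sum_add_distrib]
    rw [← hx, ← hy]

/-- [E3] fixed points commute with base change (hard inclusion) -/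
theorem helper76_fix_bc_le {S : Type u} [Group S] [Finite S] {E : Type v} [AddCommGroup E] [Module (ZMod 2) E] [Finite E]
    (ρ : Representation (ZMod 2) S E)
    (F : Type w) [Field F] [Finite F] [Algebra (ZMod 2) F] (T : Subgroup S) (v : F ⊗[ZMod 2] E)
    (hv : v ∈ fixT (bc F ρ) T) :
    v ∈ Submodule.span F ((fun e : E => (1 : F) ⊗ₜ[ZMod 2] e) '' {e : E | ∀ s ∈ T, ρ s e = e}) := by
  classical
  have hfin : Module.Finite (ZMod 2) F := Module.Finite.of_finite
  let b := Module.finBasis (ZMod 2) F
  rw [helper76_decomp F b v]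
  refine Submodule.sum_mem _ (fun j _ => ?_)
  have hfix : ∀ s ∈ T, ρ s (helper76_coord F (b.coord j) v) = helper76_coord F (b.coord j) v := by
    intro s hs
    rw [← helper76_coord_bc, hv s hs]
  have h1 : b j ⊗ₜ[ZMod 2] helper76_coord F (b.coord j) v =
      b j • ((1 : F) ⊗ₜ[ZMod 2] helper76_coord F (b.coord j) v) := by
    rw [TensorProduct.smul_tmul', smul_eq_mul, mul_one]
  rw [h1]
  exact Submodule.smul_mem _ _ (Submodule.subset_span ⟨_, hfix, rfl⟩)

end Cfsg.Agent.Lib.helper81.WT
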