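import Mathlib
import Cfsg.Prelude.Def_HallClasses
import Cfsg.Agent.S0581
import Cfsg.Agent.S0071
import Cfsg.Agent.Lib.helper2.Schmidt

/-!
# Wielandt's theorem on Hall subgroups that are direct products

If a finite group `G` has a Hall `σ ∪ τ`-subgroup `Hs × Ht` with `Hs` a nilpotent `σ`-group and
`Ht` a `τ`-group, and every `τ`-subgroup of `G` lies in a conjugate of `Ht`, then every
`σ ∪ τ`-subgroup of `G` lies in a conjugate of `Hs × Ht`.
Library file of seat `helper76`; everything lives in `Cfsg.Agent.Lib.helper76`.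
-/

set_option autoImplicit false

namespace Cfsg.Agent.Lib.helper76

open scoped Pointwise

/-- In a finite nilpotent group, elements of coprime orders commute (induction on the class). -/
theorem commute_of_coprime_nilp {G : Type*} [Group G] [Group.IsNilpotent G] [Finite G]
    (g x : G) (h : (orderOf g).Coprime (orderOf x)) : g * x = x * g := by
  revert g x
  suffices hs : Finite G → ∀ g x : G, (orderOf g).Coprime (orderOf x) → g * x = x * g from
    hs inferInstance
  refine Group.nilpotent_center_quotient_ind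
    (P := fun (G : Type _) [Group G] [Group.IsNilpotent G] =>
      Finite G → ∀ g x : G, (orderOf g).Coprime (orderOf x) → g * x = x * g) G ?_ ?_
  · intro G _ _ _ g x _
    exact Subsingleton.elim _ _
  · intro G _ _ ih hfin g x hcop
    have h1 := ih inferInstance (QuotientGroup.mk g) (QuotientGroup.mk x)
      (Nat.Coprime.coprime_dvd_left (orderOf_map_dvd (QuotientGroup.mk' (Subgroup.center G)) g)
        (Nat.Coprime.coprime_dvd_right (orderOf_map_dvd (QuotientGroup.mk' (Subgroup.center G)) x)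
          hcop))
    rw [← QuotientGroup.mk_mul, ← QuotientGroup.mk_mul, QuotientGroup.eq] at h1
    set z := (g * x)⁻¹ * (x * g) with hz
    have hzc : ∀ w : G, w * z = z * w := fun w => (Subgroup.mem_center_iff.1 h1 w)
    have hxg : x * g = g * x * z := by rw [hz]; group
    have key1 : ∀ k : ℕ, x * g ^ k = g ^ k * x * z ^ k := by
      intro k
      induction k with
      | zero => simp
      | succ k ihk =>
        calc x * g ^ (k + 1) = (x * g ^ k) * g := by rw [pow_succ, mul_assoc]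
          _ = g ^ k * x * (z ^ k * g) := by rw [ihk]; group
          _ = g ^ k * x * (g * z ^ k) := by
              rw [((Commute.pow_right (hzc g) k).eq : g * z ^ k = z ^ k * g)]
          _ = g ^ k * (x * g) * z ^ k := by group
          _ = g ^ (k + 1) * x * z ^ (k + 1) := by
              rw [hxg, pow_succ, pow_succ]
              have := (Commute.pow_right (hzc z) k).eq
              calc g ^ k * (g * x * z) * z ^ k = g ^ k * g * x * (z * z ^ k) := by group
                _ = g ^ k * g * x * (z ^ k * z) := by rw [this]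
    have key2 : ∀ k : ℕ, x ^ k * g = g * x ^ k * z ^ k := by
      intro k
      induction k with
      | zero => simp
      | succ k ihk =>
        calc x ^ (k + 1) * g = x * (x ^ k * g) := by rw [pow_succ', mul_assoc]
          _ = (x * g) * x ^ k * z ^ k := by rw [ihk]; group
          _ = g * x * (z * x ^ k) * z ^ k := by rw [hxg]; group
          _ = g * x * (x ^ k * z) * z ^ k := by rw [hzc (x ^ k)]
          _ = g * x ^ (k + 1) * z ^ (k + 1) := by
              rw [pow_succ', pow_succ']; group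
    have hz1 : z ^ orderOf g = 1 := by
      have := key1 (orderOf g)
      rw [pow_orderOf_eq_one, mul_one, one_mul] at this
      have h2 : x * z ^ orderOf g = x * 1 := by rw [mul_one]; exact this.symm
      exact mul_left_cancel h2
    have hz2 : z ^ orderOf x = 1 := by
      have := key2 (orderOf x)
      rw [pow_orderOf_eq_one, mul_one, one_mul] at this
      have h2 : g * z ^ orderOf x = g * 1 := by rw [mul_one]; exact this.symm
      exact mul_left_cancel h2
    have hz0 : z = 1 := by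
      rw [← orderOf_eq_one_iff]
      exact Nat.eq_one_of_dvd_coprimes hcop (orderOf_dvd_of_pow_eq_one hz1)
        (orderOf_dvd_of_pow_eq_one hz2)
    rw [hxg, hz0, mul_one]

variable {G : Type*} [Group G]

/-- elements of a join of two elementwise commuting subgroups -/
theorem mem_sup_of_commute {U V : Subgroup G} (hc : ∀ a ∈ U, ∀ b ∈ V, a * b = b * a) {x : G}
    (hx : x ∈ U ⊔ V) : ∃ u ∈ U, ∃ v ∈ V, x = u * v := by
  let S : Subgroup G :=
    { carrier := {x | ∃ u ∈ U, ∃ v ∈ V, x = u * v}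
      mul_mem' := by
        rintro _ _ ⟨u, hu, v, hv, rfl⟩ ⟨u', hu', v', hv', rfl⟩
        refine ⟨u * u', U.mul_mem hu hu', v * v', V.mul_mem hv hv', ?_⟩
        have := hc u' hu' v hv
        calc u * v * (u' * v') = u * (v * u') * v' := by group
          _ = u * (u' * v) * v' := by rw [this]
          _ = u * u' * (v * v') := by group
      one_mem' := ⟨1, U.one_mem, 1, V.one_mem, by simp⟩
      inv_mem' := by
        rintro _ ⟨u, hu, v, hv, rfl⟩
        refine ⟨u⁻¹, U.inv_mem hu, v⁻¹, V.inv_mem hv, ?_⟩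
        have := hc u⁻¹ (U.inv_mem hu) v⁻¹ (V.inv_mem hv)
        rw [mul_inv_rev, this] }
  have hle : U ⊔ V ≤ S :=
    sup_le (fun u hu => ⟨u, hu, 1, V.one_mem, by simp⟩) (fun v hv => ⟨1, U.one_mem, v, hv, by simp⟩)
  exact hle hx

/-- an element of `U ⊔ V` whose order is prime to `|V|` lies in `U` -/
theorem mem_left_of_coprime [Finite G] {U V : Subgroup G} (hc : ∀ a ∈ U, ∀ b ∈ V, a * b = b * a)
    (hcop : (Nat.card U).Coprime (Nat.card V)) {x : G} (hx : x ∈ U ⊔ V)
    (hxo : (orderOf x).Coprime (Nat.card V)) : x ∈ U := by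
  obtain ⟨u, hu, v, hv, rfl⟩ := mem_sup_of_commute hc hx
  have hcomm : Commute u v := hc u hu v hv
  have huo : orderOf u ∣ Nat.card U := Subgroup.orderOf_dvd_natCard U hu
  have hvo : orderOf v ∣ Nat.card V := Subgroup.orderOf_dvd_natCard V hv
  have hco : (orderOf u).Coprime (orderOf v) :=
    Nat.Coprime.coprime_dvd_left huo (Nat.Coprime.coprime_dvd_right hvo hcop)
  rw [hcomm.orderOf_mul_eq_mul_orderOf_of_coprime hco] at hxo
  have h1 : orderOf v = 1 := Nat.Coprime.eq_one_of_dvd (Nat.Coprime.coprime_mul_left hxo) hvo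
  rw [orderOf_eq_one_iff] at h1
  rw [h1, mul_one]
  exact hu

theorem conj_smul_sup (g : G) (U V : Subgroup G) :
    MulAut.conj g • (U ⊔ V) = MulAut.conj g • U ⊔ MulAut.conj g • V :=
  Subgroup.map_sup U V _

theorem conj_smul_mono (g : G) {U V : Subgroup G} (h : U ≤ V) :
    MulAut.conj g • U ≤ MulAut.conj g • V :=
  Subgroup.map_mono h

/-- the data of a Hall subgroup which is the product of a nilpotent Hall `σ`-subgroup and a
Hall `τ`-subgroup -/
structure WProd (σ τ : Set ℕ) (Hs Ht : Subgroup G) : Prop where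
  hs : ∀ p : ℕ, p.Prime → p ∣ Nat.card Hs → p ∈ σ
  ht : ∀ p : ℕ, p.Prime → p ∣ Nat.card Ht → p ∈ τ
  disj : Disjoint σ τ
  nil : Group.IsNilpotent Hs
  comm : ∀ a ∈ Hs, ∀ b ∈ Ht, a * b = b * a
  hallS : ∀ p : ℕ, p.Prime → p ∈ σ → ¬ p ∣ Hs.index
  hallT : ∀ p : ℕ, p.Prime → p ∈ τ → ¬ p ∣ Ht.index

theorem WProd.conj [Finite G] {σ τ : Set ℕ} {Hs Ht : Subgroup G} (h : WProd σ τ Hs Ht) (g : G) :
    WProd σ τ (MulAut.conj g • Hs) (MulAut.conj g • Ht) where
  hs := by rw [Cfsg.Agent.S0581.card_conj]; exact h.hs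
  ht := by rw [Cfsg.Agent.S0581.card_conj]; exact h.ht
  disj := h.disj
  nil := Cfsg.Agent.S0581.isNilpotent_conj Hs h.nil g
  comm := by
    intro a ha b hb
    rw [Cfsg.Agent.S0581.mem_conj_smul] at ha hb
    have := h.comm _ ha _ hb
    calc a * b = g * ((g⁻¹ * a * g) * (g⁻¹ * b * g)) * g⁻¹ := by group
      _ = g * ((g⁻¹ * b * g) * (g⁻¹ * a * g)) * g⁻¹ := by rw [this]
      _ = b * a := by group
  hallS := by rw [Cfsg.Agent.S0581.index_conj]; exact h.hallS
  hallT := by rw [Cfsg.Agent.S0581.index_conj]; exact h.hallT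

theorem WProd.coprime {σ τ : Set ℕ} {Hs Ht : Subgroup G} (h : WProd σ τ Hs Ht) :
    (Nat.card Hs).Coprime (Nat.card Ht) := by
  apply Nat.Coprime.symm
  apply Nat.coprime_of_dvd
  intro q hq hq1 hq2
  exact Set.disjoint_left.mp h.disj (h.hs q hq hq2) (h.ht q hq hq1)

/-- in `Hs × Ht`, a `p`-element (`p ∈ σ`) commutes with every `p'`-element -/
theorem WProd.commute_of_coprime [Finite G] {σ τ : Set ℕ} {Hs Ht : Subgroup G}
    (h : WProd σ τ Hs Ht) {p : ℕ} (hp : p.Prime) (hpσ : p ∈ σ) {a b : G} (ha : a ∈ Hs ⊔ Ht)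
    (hb : b ∈ Hs ⊔ Ht) (hao : ∃ k : ℕ, orderOf a = p ^ k) (hbo : (orderOf b).Coprime p) :
    a * b = b * a := by
  obtain ⟨k, hk⟩ := hao
  have hpt : ¬ p ∣ Nat.card Ht := fun hdvd => Set.disjoint_left.mp h.disj hpσ (h.ht p hp hdvd)
  have haHs : a ∈ Hs := by
    apply mem_left_of_coprime h.comm h.coprime ha
    rw [hk]
    exact Nat.Coprime.pow_left k ((Nat.Prime.coprime_iff_not_dvd hp).mpr hpt)
  obtain ⟨u, hu, v, hv, rfl⟩ := mem_sup_of_commute h.comm hb
  have hcomm : Commute u v := h.comm u hu v hv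
  have huo : orderOf u ∣ Nat.card Hs := Subgroup.orderOf_dvd_natCard Hs hu
  have hvo : orderOf v ∣ Nat.card Ht := Subgroup.orderOf_dvd_natCard Ht hv
  have hco : (orderOf u).Coprime (orderOf v) :=
    Nat.Coprime.coprime_dvd_left huo (Nat.Coprime.coprime_dvd_right hvo h.coprime)
  rw [hcomm.orderOf_mul_eq_mul_orderOf_of_coprime hco] at hbo
  have hup : (orderOf u).Coprime p := Nat.Coprime.coprime_mul_right hbo
  have h1 : a * v = v * a := h.comm a haHs v hv
  have h2 : a * u = u * a := by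
    have := h.nil
    have h3 := commute_of_coprime_nilp (⟨a, haHs⟩ : Hs) ⟨u, hu⟩ (by
      rw [Subgroup.orderOf_mk, Subgroup.orderOf_mk, hk]
      exact Nat.Coprime.pow_left k hup.symm)
    exact congrArg Subtype.val h3
  calc a * (u * v) = (a * u) * v := by group
    _ = u * (a * v) := by rw [h2]; group
    _ = u * v * a := by rw [h1]; group

/-- a finite group with a proper normal subgroup with solvable quotient has a normal subgroup of
prime index -/
theorem exists_normal_prime_index_of_quotient {X : Type*} [Group X] [Finite X] (N : Subgroup X)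
    [N.Normal] [Group.IsSolvable (X ⧸ N)] (hN : N ≠ ⊤) :
    ∃ M : Subgroup X, M.Normal ∧ M.index.Prime := by
  have : Nontrivial (X ⧸ N) := by
    rw [← Finite.one_lt_card_iff_nontrivial, ← Subgroup.index_eq_card]
    have h1 : N.index ≠ 1 := fun h => hN (Subgroup.index_eq_one.mp h)
    have h2 : N.index ≠ 0 := Subgroup.index_ne_zero_of_finite
    omega
  obtain ⟨Mb, hMbn, hMbp⟩ := Cfsg.Agent.Lib.helper2.exists_normal_prime_index (X ⧸ N)
  refine ⟨Mb.comap (QuotientGroup.mk' N), hMbn.comap _, ?_⟩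
  rw [Subgroup.index_comap_of_surjective Mb (QuotientGroup.mk'_surjective N)]
  exact hMbp

/-- a subgroup `K` whose order is divisible by a prime `p ∈ σ` and all of whose proper subgroups
are conjugate into `Hs × Ht` has a normal subgroup of prime index -/
theorem exists_normal_prime_index_of_minimal [Finite G] {σ τ : Set ℕ} {Hs Ht : Subgroup G}
    (h : WProd σ τ Hs Ht) (K : Subgroup G)
    (hprop : ∀ K₁ : Subgroup G, K₁ ≤ K → Nat.card K₁ < Nat.card K →
      ∃ x : G, K₁ ≤ MulAut.conj x • (Hs ⊔ Ht))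
    (p : ℕ) (hp : p.Prime) (hpσ : p ∈ σ) (hpK : p ∣ Nat.card K) :
    ∃ M₀ : Subgroup K, M₀.Normal ∧ M₀.index.Prime := by
  have : Fact p.Prime := ⟨hp⟩
  obtain ⟨P⟩ : Nonempty (Sylow p K) := inferInstance
  by_cases hfrob : ∀ Q : Subgroup K, Q ≤ (P : Subgroup K) →
      ∀ g ∈ Subgroup.normalizer (Q : Set K), Nat.Coprime (orderOf g) p →
        g ∈ Subgroup.centralizer (Q : Set K)
  · -- `K` has a normal `p`-complement
    obtain ⟨N, hNn, hNc⟩ := (Cfsg.Agent.S0071.result P).mpr hfrob
    have hidx : N.index = Nat.card (P : Subgroup K) := hNc.symm.index_eq_card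
    have hcardP : Nat.card (P : Subgroup K) = p ^ (Nat.card K).factorization p :=
      P.card_eq_multiplicity
    have hpos : 0 < (Nat.card K).factorization p :=
      hp.factorization_pos_of_dvd Nat.card_pos.ne' hpK
    have hpg : IsPGroup p (K ⧸ N) := by
      apply IsPGroup.of_card (n := (Nat.card K).factorization p)
      rw [← Subgroup.index_eq_card, hidx, hcardP]
    have hnil : Group.IsNilpotent (K ⧸ N) := hpg.isNilpotent
    have hsolv : Group.IsSolvable (K ⧸ N) := inferInstance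
    refine exists_normal_prime_index_of_quotient N ?_
    intro htop
    rw [htop, Subgroup.index_top, hcardP] at hidx
    have := Nat.one_lt_pow hpos.ne' hp.one_lt
    omega
  · -- `K = Q ⟨g⟩`
    push Not at hfrob
    obtain ⟨Q, hQP, g, hgN, hgo, hgC⟩ := hfrob
    have hle : Q.map K.subtype ⊔ Subgroup.zpowers (g : G) ≤ K :=
      sup_le (Subgroup.map_subtype_le Q) (by rw [Subgroup.zpowers_le]; exact g.2)
    have hU : Q.map K.subtype ⊔ Subgroup.zpowers (g : G) = K := by
      by_contra hne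
      have hlt : Nat.card ↥(Q.map K.subtype ⊔ Subgroup.zpowers (g : G)) < Nat.card K := by
        by_contra hge
        push Not at hge
        exact hne (Subgroup.eq_of_le_of_card_ge hle hge)
      obtain ⟨x, hx⟩ := hprop _ hle hlt
      apply hgC
      rw [Subgroup.mem_centralizer_iff]
      intro q hq
      have h' := h.conj x
      have hqU : (q : G) ∈ MulAut.conj x • (Hs ⊔ Ht) :=
        hx (Subgroup.mem_sup_left ⟨q, hq, rfl⟩)
      have hgU : (g : G) ∈ MulAut.conj x • (Hs ⊔ Ht) :=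
        hx (Subgroup.mem_sup_right (Subgroup.mem_zpowers _))
      rw [conj_smul_sup] at hqU hgU
      have hqo : ∃ k : ℕ, orderOf (q : G) = p ^ k := by
        obtain ⟨k, hk⟩ := P.2 ⟨q, hQP hq⟩
        have hk' : (q : G) ^ p ^ k = 1 := by
          have := congrArg (fun t : (P : Subgroup K) => ((t : K) : G)) hk
          simpa using this
        obtain ⟨j, -, hj⟩ := (Nat.dvd_prime_pow hp).mp (orderOf_dvd_of_pow_eq_one hk')
        exact ⟨j, hj⟩
      have hgo' : (orderOf (g : G)).Coprime p := by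
        rw [Subgroup.orderOf_coe]; exact hgo
      have := h'.commute_of_coprime hp hpσ hqU hgU hqo hgo'
      exact Subtype.ext this
    have hsupK : Q ⊔ Subgroup.zpowers g = ⊤ := by
      apply Subgroup.map_injective K.subtype_injective
      rw [Subgroup.map_sup, MonoidHom.map_zpowers, ← MonoidHom.range_eq_map,
        Subgroup.range_subtype]
      exact hU
    have hQn : Q.Normal := by
      rw [← Subgroup.normalizer_eq_top_iff, eq_top_iff, ← hsupK]
      exact sup_le Subgroup.le_normalizer (by rw [Subgroup.zpowers_le]; exact hgN)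
    have hQtop : Q ≠ ⊤ := by
      intro htop
      apply hgC
      have hgQ : g ∈ Q := htop ▸ Subgroup.mem_top g
      obtain ⟨k, hk⟩ := P.2 ⟨g, hQP hgQ⟩
      have hk' : g ^ p ^ k = 1 := by
        have := congrArg (fun t : (P : Subgroup K) => (t : K)) hk
        simpa using this
      have h1 : orderOf g ∣ p ^ k := orderOf_dvd_of_pow_eq_one hk'
      have h2 : orderOf g = 1 := Nat.Coprime.eq_one_of_dvd (Nat.Coprime.pow_right k hgo) h1
      rw [orderOf_eq_one_iff] at h2
      rw [h2]; exact Subgroup.one_mem _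
    have hpw : ∀ a : K ⧸ Q, ∃ i : ℤ, a = (QuotientGroup.mk' Q g) ^ i := by
      intro a
      obtain ⟨x, rfl⟩ := QuotientGroup.mk'_surjective Q a
      have hx : x ∈ Q ⊔ Subgroup.zpowers g := by rw [hsupK]; trivial
      obtain ⟨q, hq, z, hz, rfl⟩ := Subgroup.mem_sup_of_normal_left.mp hx
      obtain ⟨i, rfl⟩ := Subgroup.mem_zpowers_iff.mp hz
      refine ⟨i, ?_⟩
      have hq1 : QuotientGroup.mk' Q q = 1 := (QuotientGroup.eq_one_iff q).mpr hq
      rw [map_mul, hq1, one_mul, map_zpow]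
    have hcommQ : ∀ a b : K ⧸ Q, a * b = b * a := by
      intro a b
      obtain ⟨i, rfl⟩ := hpw a
      obtain ⟨j, rfl⟩ := hpw b
      rw [← zpow_add, ← zpow_add, add_comm]
    have hsolv : Group.IsSolvable (K ⧸ Q) := Group.isSolvable_of_comm hcommQ
    exact exists_normal_prime_index_of_quotient Q hQtop

/-- Splitting lemma: `K` has a normal subgroup `M ≤ U × V` of prime index `r ∈ ρ₂`, where `U` is a
`ρ₁`-group and `V` a Hall `ρ₂`-subgroup of `G`; then `K = A × B` with `A` a `ρ₁`-group and `B` a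
`ρ₂`-group. -/
theorem split_of_normal_prime_index [Finite G] (ρ₁ ρ₂ : Set ℕ) (hd : Disjoint ρ₁ ρ₂)
    {U V : Subgroup G} (hc : ∀ a ∈ U, ∀ b ∈ V, a * b = b * a)
    (hU : ∀ q : ℕ, q.Prime → q ∣ Nat.card U → q ∈ ρ₁)
    (hV : ∀ q : ℕ, q.Prime → q ∣ Nat.card V → q ∈ ρ₂)
    (hVhall : ∀ q : ℕ, q.Prime → q ∈ ρ₂ → ¬ q ∣ V.index)
    (K M : Subgroup G) (hK : ∀ q : ℕ, q.Prime → q ∣ Nat.card K → q ∈ ρ₁ ∨ q ∈ ρ₂)
    (hMK : M ≤ K) (hKM : K ≤ Subgroup.normalizer (M : Set G)) (hMUV : M ≤ U ⊔ V)
    (r : ℕ) (hr : r.Prime) (hrρ : r ∈ ρ₂) (hidx : M.relIndex K = r) :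
    ∃ A B : Subgroup G, A ⊔ B = K ∧ (∀ q : ℕ, q.Prime → q ∣ Nat.card A → q ∈ ρ₁) ∧
      (∀ q : ℕ, q.Prime → q ∣ Nat.card B → q ∈ ρ₂) ∧ ∀ a ∈ A, ∀ b ∈ B, a * b = b * a := by
  have hcopUV : (Nat.card U).Coprime (Nat.card V) := by
    apply Nat.Coprime.symm
    apply Nat.coprime_of_dvd
    intro q hq hq1 hq2
    exact Set.disjoint_left.mp hd (hU q hq hq2) (hV q hq hq1)
  have hXK : M ⊓ U ≤ K := inf_le_left.trans hMK
  -- `K` normalizes `X = M ⊓ U`
  have hKX : K ≤ Subgroup.normalizer ((M ⊓ U : Subgroup G) : Set G) := by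
    apply Cfsg.Agent.S0048.le_normalizer_of_forall_conj_mem
    intro k hk x hx
    have h1 : k * x * k⁻¹ ∈ M := (Subgroup.mem_normalizer_iff.mp (hKM hk) x).mp hx.1
    refine ⟨h1, ?_⟩
    apply mem_left_of_coprime hc hcopUV (hMUV h1)
    have h2 : orderOf (k * x * k⁻¹) = orderOf x :=
      orderOf_injective (MulAut.conj k).toMonoidHom (MulAut.conj k).injective x
    rw [h2]
    exact Nat.Coprime.coprime_dvd_left (Subgroup.orderOf_dvd_natCard U hx.2) hcopUV
  -- no prime of `ρ₁` divides `|K : X|`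
  have hXidx : ∀ q : ℕ, q.Prime → q ∈ ρ₁ → ¬ q ∣ (M ⊓ U).relIndex K := by
    intro q hq hqρ hdvd
    have : Fact q.Prime := ⟨hq⟩
    obtain ⟨Q⟩ : Nonempty (Sylow q K) := inferInstance
    have hqr : q ≠ r := fun h => Set.disjoint_left.mp hd hqρ (h ▸ hrρ)
    have hMn : (M.subgroupOf K).Normal := (Subgroup.normal_subgroupOf_iff_le_normalizer hMK).mpr hKM
    have hQX : (Q : Subgroup K).map K.subtype ≤ M ⊓ U := by
      rintro _ ⟨y, hy, rfl⟩
      obtain ⟨k, hk⟩ := Q.2 ⟨y, hy⟩
      have hk' : y ^ q ^ k = 1 := by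
        have := congrArg (fun t : (Q : Subgroup K) => (t : K)) hk
        simpa using this
      have h1 : y ^ r ∈ M.subgroupOf K := by
        have := Subgroup.pow_index_mem (M.subgroupOf K) y
        rwa [show (M.subgroupOf K).index = r from hidx] at this
      have hyM : y ∈ M.subgroupOf K := by
        have hcop : Nat.Coprime r (orderOf y) := by
          have h2 : orderOf y ∣ q ^ k := orderOf_dvd_of_pow_eq_one hk'
          exact Nat.Coprime.coprime_dvd_right h2
            (Nat.Coprime.pow_right k ((Nat.coprime_primes hr hq).mpr (Ne.symm hqr)))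
        obtain ⟨m, hm⟩ := exists_pow_eq_self_of_coprime hcop
        rw [← hm]
        exact Subgroup.pow_mem _ h1 m
      have hyM' : (y : G) ∈ M := Subgroup.mem_subgroupOf.mp hyM
      refine ⟨hyM', ?_⟩
      apply mem_left_of_coprime hc hcopUV (hMUV hyM')
      have h2 : orderOf (y : G) ∣ q ^ k := by
        rw [Subgroup.orderOf_coe]; exact orderOf_dvd_of_pow_eq_one hk'
      have hqV : ¬ q ∣ Nat.card V := fun h => Set.disjoint_left.mp hd hqρ (hV q hq h)
      exact Nat.Coprime.coprime_dvd_left h2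
        (Nat.Coprime.pow_left k ((Nat.Prime.coprime_iff_not_dvd hq).mpr hqV))
    have h4 : (M ⊓ U).relIndex K ∣ ((Q : Subgroup K).map K.subtype).relIndex K :=
      Subgroup.relIndex_dvd_of_le_left K hQX
    have h5 : ((Q : Subgroup K).map K.subtype).relIndex K = (Q : Subgroup K).index := by
      rw [Subgroup.relIndex]
      congr 1
      exact Subgroup.comap_map_eq_self_of_injective K.subtype_injective _
    rw [h5] at h4
    exact Q.not_dvd_index (hdvd.trans h4)
  -- primes dividing `|K : X|` are in `ρ₂`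
  have hXidx2 : ∀ q : ℕ, q.Prime → q ∣ (M ⊓ U).relIndex K → q ∈ ρ₂ := by
    intro q hq hdvd
    rcases hK q hq (hdvd.trans (Subgroup.relIndex_dvd_card _ _)) with h1 | h1
    · exact absurd hdvd (hXidx q hq h1)
    · exact h1
  have hXn : ((M ⊓ U).subgroupOf K).Normal :=
    (Subgroup.normal_subgroupOf_iff_le_normalizer hXK).mpr hKX
  have hcop : (Nat.card ((M ⊓ U).subgroupOf K)).Coprime ((M ⊓ U).subgroupOf K).index := by
    have h1 : Nat.card ((M ⊓ U).subgroupOf K) = Nat.card ↥(M ⊓ U) :=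
      Nat.card_congr (Subgroup.subgroupOfEquivOfLe hXK).toEquiv
    rw [h1]
    apply Nat.coprime_of_dvd
    intro q hq hq1 hq2
    exact hXidx q hq (hU q hq (hq1.trans (Subgroup.card_dvd_of_le inf_le_right))) hq2
  obtain ⟨Y', hY'⟩ := Subgroup.exists_right_complement'_of_coprime hcop
  have hcardY : Nat.card (Y'.map K.subtype) = (M ⊓ U).relIndex K := by
    rw [Subgroup.card_map_of_injective K.subtype_injective, ← hY'.symm.index_eq_card]
    rfl
  have hsup : (M ⊓ U) ⊔ Y'.map K.subtype = K := by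
    have h1 := hY'.sup_eq_top
    have h2 := congrArg (Subgroup.map K.subtype) h1
    rw [Subgroup.map_sup, Subgroup.map_subgroupOf_eq_of_le hXK, ← MonoidHom.range_eq_map,
      Subgroup.range_subtype] at h2
    exact h2
  have hYK : Y'.map K.subtype ≤ K := Subgroup.map_subtype_le Y'
  -- `Y` centralizes `X`
  have hVC : V ≤ Subgroup.centralizer ((M ⊓ U : Subgroup G) : Set G) := by
    intro v hv
    rw [Subgroup.mem_centralizer_iff]
    intro x hx
    exact hc x hx.2 v hv
  have hCN : Subgroup.centralizer ((M ⊓ U : Subgroup G) : Set G)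
      ≤ Subgroup.normalizer ((M ⊓ U : Subgroup G) : Set G) := Subgroup.centralizer_le_normalizer _
  have hYC : ∀ t ∈ Y'.map K.subtype, ∀ x ∈ M ⊓ U, x * t = t * x := by
    intro t ht
    have htN : t ∈ Subgroup.normalizer ((M ⊓ U : Subgroup G) : Set G) := hKX (hYK ht)
    have h1 : (⟨t, htN⟩ : Subgroup.normalizer ((M ⊓ U : Subgroup G) : Set G)) ^
        ((Subgroup.centralizer ((M ⊓ U : Subgroup G) : Set G)).subgroupOf
          (Subgroup.normalizer ((M ⊓ U : Subgroup G) : Set G))).index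
        ∈ (Subgroup.centralizer ((M ⊓ U : Subgroup G) : Set G)).subgroupOf
          (Subgroup.normalizer ((M ⊓ U : Subgroup G) : Set G)) :=
      Subgroup.pow_index_mem _ _
    have h1' : t ^ (Subgroup.centralizer ((M ⊓ U : Subgroup G) : Set G)).relIndex
        (Subgroup.normalizer ((M ⊓ U : Subgroup G) : Set G))
        ∈ Subgroup.centralizer ((M ⊓ U : Subgroup G) : Set G) := by
      have := Subgroup.mem_subgroupOf.mp h1
      rw [Subgroup.coe_pow] at this
      exact this
    have hcop2 : Nat.Coprime ((Subgroup.centralizer ((M ⊓ U : Subgroup G) : Set G)).relIndex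
        (Subgroup.normalizer ((M ⊓ U : Subgroup G) : Set G))) (orderOf t) := by
      apply Nat.coprime_of_dvd
      intro q hq hq1 hq2
      have h3 : q ∣ (M ⊓ U).relIndex K := by
        rw [← hcardY]; exact hq2.trans (Subgroup.orderOf_dvd_natCard _ ht)
      have h4 : q ∣ V.index := by
        have h5 := Subgroup.relIndex_dvd_of_le_left
          (Subgroup.normalizer ((M ⊓ U : Subgroup G) : Set G)) hVC
        have h6 := Subgroup.relIndex_mul_index (hVC.trans hCN)
        exact (hq1.trans h5).trans (Dvd.intro _ h6)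
      exact hVhall q hq (hXidx2 q hq h3) h4
    obtain ⟨m, hm⟩ := exists_pow_eq_self_of_coprime hcop2
    have htC : t ∈ Subgroup.centralizer ((M ⊓ U : Subgroup G) : Set G) := by
      rw [← hm]; exact Subgroup.pow_mem _ h1' m
    exact Subgroup.mem_centralizer_iff.mp htC
  refine ⟨M ⊓ U, Y'.map K.subtype, hsup, ?_, ?_, ?_⟩
  · intro q hq hdvd
    exact hU q hq (hdvd.trans (Subgroup.card_dvd_of_le inf_le_right))
  · intro q hq hdvd
    rw [hcardY] at hdvd
    exact hXidx2 q hq hdvd
  · intro a ha b hb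
    exact hYC b hb a ha

/-- a product `A × B` of a `σ`-group and a `τ`-group lies in a conjugate of `Hs × Ht` -/
theorem conj_of_split [Finite G] {σ τ : Set ℕ} {Hs Ht : Subgroup G} (h : WProd σ τ Hs Ht)
    (hF2 : ∀ T : Subgroup G, (∀ q : ℕ, q.Prime → q ∣ Nat.card T → q ∈ τ) →
      ∃ y : G, T ≤ MulAut.conj y • Ht)
    (A B : Subgroup G) (hA : ∀ q : ℕ, q.Prime → q ∣ Nat.card A → q ∈ σ)
    (hB : ∀ q : ℕ, q.Prime → q ∣ Nat.card B → q ∈ τ)
    (hAB : ∀ a ∈ A, ∀ b ∈ B, a * b = b * a) : ∃ x : G, A ⊔ B ≤ MulAut.conj x • (Hs ⊔ Ht) := by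
  obtain ⟨y, hy⟩ := hF2 B hB
  have h' := h.conj y
  have hHsΓ : MulAut.conj y • Hs ≤ Subgroup.centralizer (B : Set G) := by
    intro a ha
    rw [Subgroup.mem_centralizer_iff]
    intro b hb
    exact (h'.comm a ha b (hy hb)).symm
  have hAΓ : A ≤ Subgroup.centralizer (B : Set G) := by
    intro a ha
    rw [Subgroup.mem_centralizer_iff]
    intro b hb
    exact (hAB a ha b hb).symm
  -- Wielandt's theorem inside the centralizer of `B`
  have hnil : Group.IsNilpotent ((MulAut.conj y • Hs).subgroupOf (Subgroup.centralizer (B : Set G))) := by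
    have := h'.nil
    exact Group.nilpotent_of_mulEquiv (Subgroup.subgroupOfEquivOfLe hHsΓ).symm
  have hcardH : Nat.card ((MulAut.conj y • Hs).subgroupOf (Subgroup.centralizer (B : Set G)))
      = Nat.card Hs := by
    rw [Nat.card_congr (Subgroup.subgroupOfEquivOfLe hHsΓ).toEquiv, Cfsg.Agent.S0581.card_conj]
  have hHall : (Nat.card ((MulAut.conj y • Hs).subgroupOf (Subgroup.centralizer (B : Set G)))).Coprime
      ((MulAut.conj y • Hs).subgroupOf (Subgroup.centralizer (B : Set G))).index := by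
    rw [hcardH]
    apply Nat.coprime_of_dvd
    intro q hq hq1 hq2
    have h1 : ((MulAut.conj y • Hs).subgroupOf (Subgroup.centralizer (B : Set G))).index
        ∣ (MulAut.conj y • Hs).index := Dvd.intro _ (Subgroup.relIndex_mul_index hHsΓ)
    rw [Cfsg.Agent.S0581.index_conj] at h1
    exact h.hallS q hq (h.hs q hq hq1) (hq2.trans h1)
  have hK : ∀ q : ℕ, q.Prime → q ∣ Nat.card (A.subgroupOf (Subgroup.centralizer (B : Set G))) →
      q ∣ Nat.card ((MulAut.conj y • Hs).subgroupOf (Subgroup.centralizer (B : Set G))) := by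
    intro q hq hdvd
    rw [Nat.card_congr (Subgroup.subgroupOfEquivOfLe hAΓ).toEquiv] at hdvd
    rw [hcardH]
    have hqσ := hA q hq hdvd
    have h1 : q ∣ Nat.card Hs * Hs.index := by
      rw [Subgroup.card_mul_index]
      exact hdvd.trans (Subgroup.card_subgroup_dvd_card A)
    rcases (Nat.Prime.dvd_mul hq).mp h1 with h2 | h2
    · exact h2
    · exact absurd h2 (h.hallS q hq hqσ)
  obtain ⟨c, hc⟩ := Cfsg.Agent.S0581.result _ _ hnil hHall hK
  have hcB : ∀ b ∈ B, (c : G)⁻¹ * b * (c : G) = b := by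
    intro b hb
    have := Subgroup.mem_centralizer_iff.mp c.2 b hb
    calc (c : G)⁻¹ * b * (c : G) = (c : G)⁻¹ * (b * (c : G)) := by group
      _ = (c : G)⁻¹ * ((c : G) * b) := by rw [this]
      _ = b := by group
  refine ⟨(c : G) * y, sup_le ?_ ?_⟩
  · intro a ha
    have h1 : (⟨a, hAΓ ha⟩ : Subgroup.centralizer (B : Set G))
        ∈ MulAut.conj c • (MulAut.conj y • Hs).subgroupOf (Subgroup.centralizer (B : Set G)) :=
      hc (Subgroup.mem_subgroupOf.mpr ha)
    rw [Cfsg.Agent.S0581.mem_conj_smul, Subgroup.mem_subgroupOf] at h1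
    have h2 : (c : G)⁻¹ * a * (c : G) ∈ MulAut.conj y • Hs := by
      simpa using h1
    rw [Cfsg.Agent.S0581.mem_conj_smul] at h2 ⊢
    apply Subgroup.mem_sup_left
    have e : ((c : G) * y)⁻¹ * a * ((c : G) * y) = y⁻¹ * ((c : G)⁻¹ * a * (c : G)) * y := by group
    rw [e]
    exact h2
  · intro b hb
    rw [Cfsg.Agent.S0581.mem_conj_smul]
    apply Subgroup.mem_sup_right
    have e : ((c : G) * y)⁻¹ * b * ((c : G) * y) = y⁻¹ * ((c : G)⁻¹ * b * (c : G)) * y := by group
    rw [e, hcB b hb]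
    exact (Cfsg.Agent.S0581.mem_conj_smul Ht y b).mp (hy hb)

/-- **Wielandt**: every `σ ∪ τ`-subgroup lies in a conjugate of `Hs × Ht`. -/
theorem wielandt_prod_le [Finite G] {σ τ : Set ℕ} {Hs Ht : Subgroup G} (h : WProd σ τ Hs Ht)
    (hF2 : ∀ T : Subgroup G, (∀ q : ℕ, q.Prime → q ∣ Nat.card T → q ∈ τ) →
      ∃ y : G, T ≤ MulAut.conj y • Ht) :
    ∀ K : Subgroup G, (∀ q : ℕ, q.Prime → q ∣ Nat.card K → q ∈ σ ∨ q ∈ τ) →
      ∃ x : G, K ≤ MulAut.conj x • (Hs ⊔ Ht) := by
  have key : ∀ n : ℕ, ∀ K : Subgroup G, Nat.card K = n →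
      (∀ q : ℕ, q.Prime → q ∣ Nat.card K → q ∈ σ ∨ q ∈ τ) →
      ∃ x : G, K ≤ MulAut.conj x • (Hs ⊔ Ht) := by
    intro n
    induction n using Nat.strong_induction_on with
    | _ n ih =>
      intro K hKn hK
      have hprop : ∀ K₁ : Subgroup G, K₁ ≤ K → Nat.card K₁ < Nat.card K →
          ∃ x : G, K₁ ≤ MulAut.conj x • (Hs ⊔ Ht) := by
        intro K₁ h1 h2
        apply ih (Nat.card K₁) (by rw [← hKn]; exact h2) K₁ rfl
        intro q hq hqd
        exact hK q hq (hqd.trans (Subgroup.card_dvd_of_le h1))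
      by_cases hτ : ∀ q : ℕ, q.Prime → q ∣ Nat.card K → q ∈ τ
      · obtain ⟨y, hy⟩ := hF2 K hτ
        exact ⟨y, hy.trans (conj_smul_mono y le_sup_right)⟩
      push Not at hτ
      obtain ⟨p, hp, hpK, hpτ⟩ := hτ
      have hpσ : p ∈ σ := (hK p hp hpK).resolve_right hpτ
      obtain ⟨M₀, hM₀n, hM₀p⟩ := exists_normal_prime_index_of_minimal h K hprop p hp hpσ hpK
      have hMK : M₀.map K.subtype ≤ K := Subgroup.map_subtype_le _
      have hMlt : Nat.card (M₀.map K.subtype) < Nat.card K := by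
        rw [Subgroup.card_map_of_injective K.subtype_injective]
        by_contra hge
        push Not at hge
        have htop := Subgroup.eq_top_of_le_card _ hge
        rw [htop, Subgroup.index_top] at hM₀p
        exact Nat.not_prime_one hM₀p
      obtain ⟨g, hg⟩ := hprop _ hMK hMlt
      have hKM : K ≤ Subgroup.normalizer ((M₀.map K.subtype : Subgroup G) : Set G) := by
        apply Cfsg.Agent.S0048.le_normalizer_of_forall_conj_mem
        rintro k hk x ⟨x', hx', rfl⟩
        exact ⟨⟨k, hk⟩ * x' * ⟨k, hk⟩⁻¹, hM₀n.conj_mem x' hx' ⟨k, hk⟩, rfl⟩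
      have hidx : (M₀.map K.subtype).relIndex K = M₀.index := by
        rw [Subgroup.relIndex]
        congr 1
        exact Subgroup.comap_map_eq_self_of_injective K.subtype_injective _
      have hrK : M₀.index ∣ Nat.card K := Subgroup.index_dvd_card M₀
      have h' := h.conj g
      rw [conj_smul_sup] at hg
      rcases hK _ hM₀p hrK with hrσ | hrτ
      · -- the index is in `σ`
        obtain ⟨A, B, hABK, hA, hB, hAB⟩ := split_of_normal_prime_index τ σ h.disj.symm
          (fun a ha b hb => (h'.comm b hb a ha).symm) h'.ht h'.hs h'.hallS K (M₀.map K.subtype)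
          (fun q hq hd => (hK q hq hd).symm) hMK hKM (by rw [sup_comm]; exact hg) M₀.index hM₀p hrσ
          hidx
        obtain ⟨x, hx⟩ := conj_of_split h hF2 B A hB hA (fun b hb a ha => (hAB a ha b hb).symm)
        refine ⟨x, ?_⟩
        rw [← hABK, sup_comm]
        exact hx
      · -- the index is in `τ`
        obtain ⟨A, B, hABK, hA, hB, hAB⟩ := split_of_normal_prime_index σ τ h.disj
          h'.comm h'.hs h'.ht h'.hallT K (M₀.map K.subtype) hK hMK hKM hg M₀.index hM₀p hrτ hidx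
        obtain ⟨x, hx⟩ := conj_of_split h hF2 A B hA hB hAB
        refine ⟨x, ?_⟩
        rw [← hABK]
        exact hx
  intro K hK
  exact key _ K rfl hK

/-- The maximal `σ ∪ τ`-subgroups of `G` are conjugate. -/
theorem isDPiGroup_of_prod [Finite G] (σ τ π : Set ℕ) (hπ : π = σ ∪ τ) (hd : Disjoint σ τ)
    (H Hs Ht : Subgroup G) (hH : Cfsg.IsPiHall π H) (hs : Cfsg.IsPiSubgroup σ Hs)
    (ht : Cfsg.IsPiSubgroup τ Ht) (hsn : Group.IsNilpotent Hs) (hjoin : Hs ⊔ Ht = H)
    (hcomm : ∀ a ∈ Hs, ∀ b ∈ Ht, a * b = b * a)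
    (hD : ∀ H K : Subgroup G, Maximal (Cfsg.IsPiSubgroup τ) H → Maximal (Cfsg.IsPiSubgroup τ) K →
      ∃ g : G, K = H.map (MulAut.conj g).toMonoidHom) :
    ∀ H K : Subgroup G, Maximal (Cfsg.IsPiSubgroup π) H → Maximal (Cfsg.IsPiSubgroup π) K →
      ∃ g : G, K = H.map (MulAut.conj g).toMonoidHom := by
  classical
  -- `|H|` divides `|Hs| |Ht|`
  have hcardH : Nat.card H ∣ Nat.card Hs * Nat.card Ht := by
    have hr := MonoidHom.noncommCoprod_range Hs.subtype Ht.subtype
      (fun a b => hcomm a a.2 b b.2)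
    rw [Subgroup.range_subtype, Subgroup.range_subtype, hjoin] at hr
    have h1 := Subgroup.card_range_dvd (MonoidHom.noncommCoprod Hs.subtype Ht.subtype
      (fun a b => hcomm a a.2 b b.2))
    rw [hr, Nat.card_prod] at h1
    exact h1
  have hHsH : Hs ≤ H := hjoin ▸ le_sup_left
  have hHtH : Ht ≤ H := hjoin ▸ le_sup_right
  have hW : WProd σ τ Hs Ht := by
    refine ⟨hs, ht, hd, hsn, hcomm, ?_, ?_⟩
    · intro p hp hpσ hdvd
      rw [← Subgroup.relIndex_mul_index hHsH] at hdvd
      rcases (Nat.Prime.dvd_mul hp).mp hdvd with h1 | h1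
      · have h2 : Nat.card Hs * Hs.relIndex H ∣ Nat.card Hs * Nat.card Ht := by
          have h3 := Subgroup.relIndex_mul_relIndex ⊥ Hs H bot_le hHsH
          rw [Subgroup.relIndex_bot_left, Subgroup.relIndex_bot_left] at h3
          rw [h3]; exact hcardH
        have h4 : Hs.relIndex H ∣ Nat.card Ht := Nat.dvd_of_mul_dvd_mul_left Nat.card_pos h2
        exact Set.disjoint_left.mp hd hpσ (ht p hp (h1.trans h4))
      · exact hH.2 p hp (by rw [hπ]; exact Or.inl hpσ) h1
    · intro p hp hpτ hdvd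
      rw [← Subgroup.relIndex_mul_index hHtH] at hdvd
      rcases (Nat.Prime.dvd_mul hp).mp hdvd with h1 | h1
      · have h2 : Nat.card Ht * Ht.relIndex H ∣ Nat.card Ht * Nat.card Hs := by
          have h3 := Subgroup.relIndex_mul_relIndex ⊥ Ht H bot_le hHtH
          rw [Subgroup.relIndex_bot_left, Subgroup.relIndex_bot_left] at h3
          rw [h3, mul_comm]; exact hcardH
        have h4 : Ht.relIndex H ∣ Nat.card Hs := Nat.dvd_of_mul_dvd_mul_left Nat.card_pos h2
        exact Set.disjoint_left.mp hd (hs p hp (h1.trans h4)) hpτ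
      · exact hH.2 p hp (by rw [hπ]; exact Or.inr hpτ) h1
  -- `Ht` is a maximal `τ`-subgroup
  have hmaxT : Maximal (Cfsg.IsPiSubgroup τ) Ht := by
    refine ⟨ht, fun X hX hle => ?_⟩
    rw [← Subgroup.relIndex_eq_one]
    by_contra hne
    obtain ⟨q, hq, hqd⟩ := Nat.exists_prime_and_dvd hne
    have hqτ : q ∈ τ := hX q hq (hqd.trans (Subgroup.relIndex_dvd_card _ _))
    have h1 : Ht.relIndex X ∣ Ht.index := Dvd.intro _ (Subgroup.relIndex_mul_index hle)
    exact hW.hallT q hq hqτ (hqd.trans h1)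
  -- every `τ`-subgroup lies in a conjugate of `Ht`
  have hF2 : ∀ T : Subgroup G, (∀ q : ℕ, q.Prime → q ∣ Nat.card T → q ∈ τ) →
      ∃ y : G, T ≤ MulAut.conj y • Ht := by
    intro T hT
    have hex : ∃ n : ℕ, ∃ X : Subgroup G, Cfsg.IsPiSubgroup τ X ∧ T ≤ X ∧ Nat.card G - Nat.card X = n :=
      ⟨_, T, hT, le_rfl, rfl⟩
    obtain ⟨X, hX, hTX, hXn⟩ := Nat.find_spec hex
    have hmaxX : Maximal (Cfsg.IsPiSubgroup τ) X := by
      refine ⟨hX, fun Y hY hle => ?_⟩
      have h1 : Nat.find hex ≤ Nat.card G - Nat.card Y :=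
        Nat.find_min' hex ⟨Y, hY, hTX.trans hle, rfl⟩
      have h2 : Nat.card Y ≤ Nat.card G := Subgroup.card_le_card_group Y
      have h3 : Nat.card X ≤ Nat.card Y := Subgroup.card_le_of_le hle
      have h4 : Nat.card Y ≤ Nat.card X := by omega
      exact le_of_eq (Subgroup.eq_of_le_of_card_ge hle h4).symm
    obtain ⟨g, hg⟩ := hD Ht X hmaxT hmaxX
    exact ⟨g, hTX.trans (le_of_eq hg)⟩
  have hA := wielandt_prod_le hW hF2
  -- maximal `π`-subgroups are conjugates of `H`
  have hπH : ∀ x : G, Cfsg.IsPiSubgroup π (MulAut.conj x • H) := by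
    intro x q hq hdvd
    rw [Cfsg.Agent.S0581.card_conj] at hdvd
    exact hH.1 q hq hdvd
  have hmaxeq : ∀ K : Subgroup G, Maximal (Cfsg.IsPiSubgroup π) K →
      ∃ x : G, K = MulAut.conj x • H := by
    intro K hK
    obtain ⟨x, hx⟩ := hA K (fun q hq hdvd => by
      have := hK.1 q hq hdvd
      rw [hπ] at this
      exact this)
    rw [hjoin] at hx
    exact ⟨x, le_antisymm hx (hK.2 (hπH x) hx)⟩
  intro K₁ K₂ hK₁ hK₂
  obtain ⟨x₁, rfl⟩ := hmaxeq K₁ hK₁
  obtain ⟨x₂, rfl⟩ := hmaxeq K₂ hK₂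
  refine ⟨x₂ * x₁⁻¹, ?_⟩
  show MulAut.conj x₂ • H = MulAut.conj (x₂ * x₁⁻¹) • (MulAut.conj x₁ • H)
  rw [← mul_smul, ← map_mul, inv_mul_cancel_right]

end Cfsg.Agent.Lib.helper76
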